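import Mathlib

/-!
A symmetric group in which no two proper overgroups of a Sylow `2`-subgroup generate the whole group
has degree `2ⁿ + 1` (degree at least 3 and not 4).
-/

set_option autoImplicit false

namespace CfsgLib.LocalEven.MinPar

open Equiv

variable {α : Type*} [Fintype α] [DecidableEq α]

/-- Transpositions within and across a set. -/
theorem eq_top_of_swaps (J : Subgroup (Perm α)) (A : Set α)
    (hin : ∀ x y, (x ∈ A ↔ y ∈ A) → swap x y ∈ J) {a b : α} (ha : a ∈ A) (hb : b ∉ A)
    (hab : swap a b ∈ J) : J = ⊤ := by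
  classical
  have hall : ∀ x y, swap x y ∈ J := by
    have key : ∀ x y, x ∈ A → y ∉ A → swap x y ∈ J := by
      intro x y hx hy
      have h1 : swap a x * swap b y ∈ J :=
        mul_mem (hin a x (by simp [ha, hx])) (hin b y (by simp [hb, hy]))
      have e := Equiv.swap_apply_apply (swap a x * swap b y) a b
      have ea : (swap a x * swap b y) a = x := by
        rw [Perm.mul_apply, swap_apply_of_ne_of_ne (show a ≠ b by rintro rfl; exact hb ha)
          (show a ≠ y by rintro rfl; exact hy ha), swap_apply_left]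
      have eb : (swap a x * swap b y) b = y := by
        rw [Perm.mul_apply, swap_apply_left, swap_apply_of_ne_of_ne (show y ≠ a by rintro rfl; exact hy ha)
          (show y ≠ x by rintro rfl; exact hy hx)]
      rw [ea, eb] at e
      rw [e]
      exact mul_mem (mul_mem h1 hab) (inv_mem h1)
    intro x y
    by_cases hx : x ∈ A <;> by_cases hy : y ∈ A
    · exact hin x y (by simp [hx, hy])
    · exact key x y hx hy
    · rw [swap_comm]; exact key y x hy hx
    · exact hin x y (by simp [hx, hy])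
  rw [eq_top_iff, ← Perm.closure_isSwap, Subgroup.closure_le]
  rintro g ⟨x, y, -, rfl⟩
  exact hall x y

/-- The stabiliser of a set. -/
def setStab (A : Set α) : Subgroup (Perm α) where
  carrier := {g | ∀ x, g x ∈ A ↔ x ∈ A}
  one_mem' := fun _ => Iff.rfl
  mul_mem' := fun {g g'} hg hg' x => (hg (g' x)).trans (hg' x)
  inv_mem' := fun {g} hg x => by simpa using (hg (g⁻¹ x)).symm

theorem swap_mem_setStab {A : Set α} {x y : α} (h : x ∈ A ↔ y ∈ A) : swap x y ∈ setStab A := by
  intro z
  rcases eq_or_ne z x with rfl | hzx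
  · rw [swap_apply_left]; exact h.symm
  rcases eq_or_ne z y with rfl | hzy
  · rw [swap_apply_right]; exact h
  rw [swap_apply_of_ne_of_ne hzx hzy]

/-- The stabiliser of a partition into two sets. -/
def halfStab (A : Set α) : Subgroup (Perm α) where
  carrier := {g | (∀ x, g x ∈ A ↔ x ∈ A) ∨ (∀ x, g x ∈ A ↔ x ∉ A)}
  one_mem' := Or.inl fun _ => Iff.rfl
  mul_mem' := fun {g g'} hg hg' => by
    rcases hg with h | h <;> rcases hg' with h' | h'
    · exact Or.inl fun x => (h _).trans (h' x)
    · exact Or.inr fun x => (h _).trans (h' x)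
    · exact Or.inr fun x => (h _).trans (not_congr (h' x))
    · exact Or.inl fun x => (h _).trans ((not_congr (h' x)).trans not_not)
  inv_mem' := fun {g} hg => by
    rcases hg with h | h
    · exact Or.inl fun x => by simpa using (h (g⁻¹ x)).symm
    · refine Or.inr fun x => ?_
      have e : g (g⁻¹ x) = x := by simp
      have := h (g⁻¹ x)
      rw [e] at this
      tauto

/-- The stabiliser of a partition given by the fibres of a map. -/
def fibStab {β : Type*} (f : α → β) : Subgroup (Perm α) where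
  carrier := {g | ∀ x y, f (g x) = f (g y) ↔ f x = f y}
  one_mem' := fun _ _ => Iff.rfl
  mul_mem' := fun {g g'} hg hg' x y => (hg _ _).trans (hg' x y)
  inv_mem' := fun {g} hg x y => by simpa using (hg (g⁻¹ x) (g⁻¹ y)).symm

variable (S : Subgroup (Perm α)) (hS : IsPGroup 2 S)
include hS

theorem eq_of_swaps {x y z : α} (hy : swap x y ∈ S) (hz : swap x z ∈ S) (hxy : x ≠ y) (hxz : x ≠ z) :
    y = z := by
  by_contra hne
  have h3 : (swap x y * swap x z).IsThreeCycle := Perm.isThreeCycle_swap_mul_swap_same hxy hxz hne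
  obtain ⟨k, hk⟩ := hS ⟨_, mul_mem hy hz⟩
  have h1 : orderOf (swap x y * swap x z) ∣ 2 ^ k :=
    orderOf_dvd_of_pow_eq_one (congrArg Subtype.val hk)
  rw [h3.orderOf] at h1
  have := (Nat.prime_dvd_prime_iff_eq Nat.prime_three Nat.prime_two).1 (Nat.prime_three.dvd_of_dvd_pow h1)
  omega

variable (hmax : ∀ R : Subgroup (Perm α), IsPGroup 2 R → ∃ g : Perm α, ∀ x ∈ R, g * x * g⁻¹ ∈ S)
include hmax

theorem exists_pairs (h2 : Even (Fintype.card α)) :
    ∃ μ : α → α, (∀ x, μ x ≠ x) ∧ (∀ x, μ (μ x) = x) ∧ ∀ x, swap x (μ x) ∈ S := by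
  obtain ⟨k, hk⟩ := h2
  let e : α ≃ Fin k × Fin 2 := (Fintype.equivFinOfCardEq (by omega : Fintype.card α = k * 2)).trans
    finProdFinEquiv.symm
  let ν : α → α := fun x => e.symm ((e x).1, 1 - (e x).2)
  have hν : ∀ x, ν x ≠ x := fun x h => by
    have := congrArg (fun q => (e q).2) h
    simp only [ν, Equiv.apply_symm_apply] at this
    generalize (e x).2 = i at this
    fin_cases i <;> simp at this
  have hνν : ∀ x, ν (ν x) = x := fun x => by
    simp [ν]
  let R : Subgroup (Perm α) :=
    { carrier := {g | ∀ x, g x = x ∨ g x = ν x}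
      one_mem' := fun x => Or.inl rfl
      mul_mem' := fun {g g'} hg hg' x => by
        rcases hg' x with a | a <;> rw [Perm.mul_apply, a]
        · exact hg x
        · rcases hg (ν x) with b | b <;> rw [b]
          · exact Or.inr rfl
          · exact Or.inl (hνν x)
      inv_mem' := fun {g} hg x => by
        rcases hg (g⁻¹ x) with a | a <;> rw [show g (g⁻¹ x) = x by simp] at a
        · exact Or.inl a.symm
        · exact Or.inr (by conv_rhs => rw [a, hνν]) }
  have hR : IsPGroup 2 R := fun g => ⟨1, Subtype.ext (Equiv.ext fun x => by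
    show ((g : Perm α) ^ (2 ^ 1)) x = x
    rw [pow_one, pow_two, Perm.mul_apply]
    rcases g.2 x with a | a
    · rw [a, a]
    · rw [a]
      rcases g.2 (ν x) with b | b
      · exact absurd ((g : Perm α).injective (b.trans a.symm)) (hν x)
      · rw [b, hνν])⟩
  obtain ⟨g, hg⟩ := hmax R hR
  refine ⟨fun x => g (ν (g⁻¹ x)), fun x h => hν (g⁻¹ x) ?_, fun x => by simp [hνν], fun x => ?_⟩
  · conv_rhs => rw [← h]
    simp
  · have hmem : swap (g⁻¹ x) (ν (g⁻¹ x)) ∈ R := fun z => by
      rcases eq_or_ne z (g⁻¹ x) with rfl | h1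
      · exact Or.inr (swap_apply_left _ _)
      rcases eq_or_ne z (ν (g⁻¹ x)) with rfl | h2
      · exact Or.inr (by rw [swap_apply_right, hνν])
      exact Or.inl (swap_apply_of_ne_of_ne h1 h2)
    have h := hg _ hmem
    rw [← Equiv.swap_apply_apply] at h
    simpa using h

variable (hX : ∀ X₁ X₂ : Subgroup (Perm α), S ≤ X₁ → S ≤ X₂ → X₁ ≠ ⊤ → X₂ ≠ ⊤ → X₁ ⊔ X₂ ≠ ⊤)
include hX

theorem degree (h3 : 3 ≤ Fintype.card α) (h4 : Fintype.card α ≠ 4) :
    ∃ n, 1 ≤ n ∧ Fintype.card α = 2 ^ n + 1 := by
  classical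
  haveI : Fact (Nat.Prime 2) := ⟨Nat.prime_two⟩
  set O : α → Set α := fun a => MulAction.orbit S a with hO
  have hinv : ∀ a, ∀ g ∈ S, ∀ x, g x ∈ O a ↔ x ∈ O a := by
    intro a g hg x
    constructor
    · rintro ⟨t, ht⟩
      refine ⟨⟨g, hg⟩⁻¹ * t, ?_⟩
      simp only at ht ⊢
      rw [mul_smul, ht]
      exact inv_smul_smul (⟨g, hg⟩ : S) x
    · rintro ⟨t, ht⟩
      refine ⟨⟨g, hg⟩ * t, ?_⟩
      simp only at ht ⊢
      rw [mul_smul, ht]
      rfl
  have hself : ∀ a, a ∈ O a := fun a => MulAction.mem_orbit_self a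
  -- at most two orbits
  have htwo : ∀ a b c, b ∉ O a → c ∉ O a → c ∈ O b := by
    intro a b c hb hc
    by_contra hcb
    have ha : a ∉ O b := fun e => hb (MulAction.mem_orbit_symm.1 e)
    refine hX (setStab (O a)) (setStab (O b)) (fun g hg => hinv a g hg) (fun g hg => hinv b g hg)
      (fun e => ?_) (fun e => ?_) ?_
    · have h := (show swap a c ∈ setStab (O a) by rw [e]; trivial) a
      rw [swap_apply_left] at h
      exact hc (h.2 (hself a))
    · have h := (show swap b c ∈ setStab (O b) by rw [e]; trivial) b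
      rw [swap_apply_left] at h
      exact hcb (h.2 (hself b))
    · refine eq_top_of_swaps _ (O a) (fun x y h => Subgroup.mem_sup_left (swap_mem_setStab h))
        (hself a) hc ?_
      exact Subgroup.mem_sup_right (swap_mem_setStab (by simp [ha, hcb]))
  have hpow : ∀ a, ∃ k, Nat.card (O a) = 2 ^ k := fun a => hS.card_orbit a
  obtain ⟨a⟩ : Nonempty α := Fintype.card_pos_iff.1 (by omega)
  rcases Nat.even_or_odd (Fintype.card α) with heven | hodd
  swap
  · by_cases hall : ∀ x, x ∈ O a
    · obtain ⟨k, hk⟩ := hpow a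
      have e : Nat.card (O a) = Fintype.card α := by
        rw [← Nat.card_eq_fintype_card]
        exact Nat.card_congr (Equiv.subtypeUnivEquiv hall)
      rcases Nat.eq_zero_or_pos k with rfl | hk'
      · rw [pow_zero] at hk; omega
      · exact absurd hodd (Nat.not_odd_iff_even.2 (by rw [← e, hk]; exact Nat.even_pow.2 ⟨even_two, by omega⟩))
    push Not at hall
    obtain ⟨b, hb⟩ := hall
    obtain ⟨i, hi⟩ := hpow a
    obtain ⟨j, hj⟩ := hpow b
    have hcover : ∀ x, x ∉ O a ↔ x ∈ O b := fun x => ⟨fun hx => htwo a b x hb hx, fun hx hxa => hb (by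
      obtain ⟨t, ht⟩ := hx
      have := (hinv a t t.2 b).1 (by
        show (t : Perm α) b ∈ O a
        rw [show (t : Perm α) b = x from ht]; exact hxa)
      exact this)⟩
    have hsum : Fintype.card α = 2 ^ i + 2 ^ j := by
      rw [← hi, ← hj, ← Nat.card_eq_fintype_card, ← Nat.card_sum]
      exact Nat.card_congr ((Equiv.sumCompl fun x => x ∈ O a).symm.trans
        (Equiv.sumCongr (Equiv.refl _) (Equiv.subtypeEquivRight hcover)))
    rcases Nat.eq_zero_or_pos i with rfl | hi'
    · refine ⟨j, ?_, by rw [hsum, pow_zero, add_comm]⟩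
      rcases Nat.eq_zero_or_pos j with rfl | hj'
      · simp at hsum; omega
      · exact hj'
    rcases Nat.eq_zero_or_pos j with rfl | hj'
    · exact ⟨i, hi', by rw [hsum, pow_zero]⟩
    exact absurd hodd (Nat.not_odd_iff_even.2 (by
      rw [hsum]
      exact (Nat.even_pow.2 ⟨even_two, by omega⟩).add (Nat.even_pow.2 ⟨even_two, by omega⟩)))
  -- even degree
  exfalso
  obtain ⟨k, hk⟩ := heven
  have h6 : 6 ≤ Fintype.card α := by omega
  obtain ⟨μ, hμ, hμμ, hμS⟩ := exists_pairs S hS hmax ⟨k, hk⟩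
  -- a set `A` permuted with its complement
  obtain ⟨A, haA, hbA, hSA⟩ : ∃ A : Set α, (∃ x, x ∈ A) ∧ (∃ x, x ∉ A) ∧ S ≤ halfStab A := by
    by_cases hall : ∀ x, x ∈ O a
    swap
    · push Not at hall
      exact ⟨O a, ⟨a, hself a⟩, hall, fun g hg => Or.inl (hinv a g hg)⟩
    obtain ⟨j, hj⟩ := hpow a
    have hidx : (MulAction.stabilizer S a).index = 2 ^ j := by
      rw [MulAction.index_stabilizer, ← hj, hO]
      exact (Nat.card_coe_set_eq _).symm
    have hj0 : 1 ≤ j := by
      rcases Nat.eq_zero_or_pos j with rfl | h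
      · have e : Nat.card (O a) = Fintype.card α := by
          rw [← Nat.card_eq_fintype_card]
          exact Nat.card_congr (Equiv.subtypeUnivEquiv hall)
        rw [pow_zero] at hj; omega
      · exact h
    obtain ⟨s, hs⟩ := IsPGroup.iff_card.1 hS
    obtain ⟨t, ht⟩ := IsPGroup.iff_card.1 (hS.to_subgroup (MulAction.stabilizer S a))
    have hst : s = t + j := by
      have := Subgroup.card_mul_index (MulAction.stabilizer S a)
      rw [ht, hidx, hs, ← pow_add] at this
      exact (Nat.pow_right_injective le_rfl this).symm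
    obtain ⟨K, hK, hle⟩ := Sylow.exists_subgroup_card_pow_prime_le 2 (m := s - 1)
      (by rw [hs]; exact pow_dvd_pow 2 (by omega)) (MulAction.stabilizer S a) ht (by omega)
    have hK2 : K.index = 2 := by
      have := Subgroup.card_mul_index K
      rw [hK, hs] at this
      refine Nat.eq_of_mul_eq_mul_left (pow_pos (by norm_num : 0 < 2) (s - 1)) (this.trans ?_)
      rw [← pow_succ]
      congr 1
      omega
    have hkey : ∀ u : S, (u : Perm α) a ∈ {x | ∃ t ∈ K, (t : Perm α) a = x} ↔ u ∈ K := fun u =>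
      ⟨fun ⟨t, htK, e⟩ => by
        have : t⁻¹ * u ∈ K := hle (by
          show (t⁻¹ * u) • a = a
          rw [mul_smul, inv_smul_eq_iff]
          exact e.symm)
        simpa using mul_mem htK this, fun hu => ⟨u, hu, rfl⟩⟩
    obtain ⟨u, hu⟩ : ∃ u, u ∉ K := by
      by_contra hcon
      push Not at hcon
      rw [(Subgroup.eq_top_iff' K).2 hcon, Subgroup.index_top] at hK2
      omega
    refine ⟨{x | ∃ t ∈ K, (t : Perm α) a = x}, ⟨a, (hkey 1).2 (one_mem K)⟩,
      ⟨(u : Perm α) a, fun e => hu ((hkey u).1 e)⟩, fun g hg => ?_⟩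
    by_cases hgK : (⟨g, hg⟩ : S) ∈ K
    · refine Or.inl fun x => ?_
      obtain ⟨w, rfl⟩ := hall x
      have e1 := hkey (⟨g, hg⟩ * w)
      rw [Subgroup.mul_mem_iff_of_index_two hK2] at e1
      exact e1.trans ⟨fun h => (hkey w).2 (h.1 hgK), fun h => ⟨fun _ => (hkey w).1 h, fun _ => hgK⟩⟩
    · refine Or.inr fun x => ?_
      obtain ⟨w, rfl⟩ := hall x
      have e1 := hkey (⟨g, hg⟩ * w)
      rw [Subgroup.mul_mem_iff_of_index_two hK2] at e1
      exact e1.trans ⟨fun h h' => hgK (h.2 ((hkey w).1 h')), fun h => ⟨fun h' => absurd h' hgK,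
        fun h' => absurd ((hkey w).2 h') h⟩⟩
  -- pairs lie within `A` or its complement
  have hpairA : ∀ x, μ x ∈ A ↔ x ∈ A := by
    intro x
    rcases hSA (hμS x) with h | h
    · have := h x
      rwa [swap_apply_left] at this
    · exfalso
      obtain ⟨z, hz1, hz2⟩ : ∃ z, z ≠ x ∧ z ≠ μ x := by
        by_contra hcon
        push Not at hcon
        have hsub : (Finset.univ : Finset α) ⊆ {x, μ x} := fun z _ => by
          by_cases hz : z = x
          · simp [hz]
          · simp [hcon z hz]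
        have := (Finset.card_le_card hsub).trans Finset.card_le_two
        rw [Finset.card_univ] at this; omega
      have := h z
      rw [swap_apply_of_ne_of_ne hz1 hz2] at this
      tauto
  let f : α → Sym2 α := fun x => s(x, μ x)
  have hf : ∀ x y, f x = f y ↔ y = x ∨ y = μ x := fun x y => by
    simp only [f, Sym2.eq_iff]
    constructor
    · rintro (⟨e, -⟩ | ⟨e, e'⟩)
      · exact Or.inl e.symm
      · exact Or.inr e'.symm
    · rintro (rfl | rfl)
      · exact Or.inl ⟨rfl, rfl⟩
      · exact Or.inr ⟨(hμμ x).symm, rfl⟩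
  have hSf : S ≤ fibStab f := by
    intro g hg x y
    have hcomm : μ (g x) = g (μ x) := by
      refine eq_of_swaps S hS (hμS (g x)) ?_ (Ne.symm (hμ _)) (fun e => hμ x (g.injective e).symm)
      rw [Equiv.swap_apply_apply]
      exact mul_mem (mul_mem hg (hμS x)) (inv_mem hg)
    rw [hf, hf, hcomm, g.injective.eq_iff, g.injective.eq_iff]
  obtain ⟨x, hx⟩ := haA
  obtain ⟨z, hz⟩ := hbA
  have hxμ : μ x ∈ A := (hpairA x).2 hx
  have hzμ : μ z ∉ A := fun e => hz ((hpairA z).1 e)
  have hxz : x ≠ z := fun e => hz (by rw [← e]; exact hx)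
  refine hX (halfStab A) (fibStab f) hSA hSf (fun e => ?_) (fun e => ?_) ?_
  · rcases (show swap x z ∈ halfStab A by rw [e]; trivial) with h | h
    · have := h x
      rw [swap_apply_left] at this
      exact hz (this.2 hx)
    · have := h (μ x)
      rw [swap_apply_of_ne_of_ne (hμ x) (fun e' => hz (by rw [← e']; exact hxμ))] at this
      exact this.1 hxμ hxμ
  · have h := (show swap x z ∈ fibStab f by rw [e]; trivial) x (μ x)
    rw [swap_apply_left, swap_apply_of_ne_of_ne (hμ x) (fun e' => hz (by rw [← e']; exact hxμ))] at h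
    rcases (hf z (μ x)).1 (h.2 ((hf _ _).2 (Or.inr rfl))) with e' | e'
    · exact hz (by rw [← e']; exact hxμ)
    · exact hzμ (by rw [← e']; exact hxμ)
  · set J := halfStab A ⊔ fibStab f
    set g := swap x z * swap (μ x) (μ z) with hgdef
    have hgx : g x = z := by
      rw [hgdef, Perm.mul_apply, swap_apply_of_ne_of_ne (Ne.symm (hμ x))
        (fun e => hzμ (by rw [← e]; exact hx)), swap_apply_left]
    have hgμx : g (μ x) = μ z := by
      rw [hgdef, Perm.mul_apply, swap_apply_left,
        swap_apply_of_ne_of_ne (fun e => hzμ (by rw [e]; exact hx)) (hμ z)]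
    have hgz : g z = x := by
      rw [hgdef, Perm.mul_apply, swap_apply_of_ne_of_ne (fun e => hz (by rw [e]; exact hxμ))
        (Ne.symm (hμ z)), swap_apply_right]
    have hgμz : g (μ z) = μ x := by
      rw [hgdef, Perm.mul_apply, swap_apply_right,
        swap_apply_of_ne_of_ne (hμ x) (fun e => hz (by rw [← e]; exact hxμ))]
    have hgo : ∀ w, w ≠ x → w ≠ μ x → w ≠ z → w ≠ μ z → g w = w := fun w a b c d => by
      rw [hgdef, Perm.mul_apply, swap_apply_of_ne_of_ne b d, swap_apply_of_ne_of_ne a c]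
    have hgμ : ∀ w, μ (g w) = g (μ w) := fun w => by
      by_cases h1 : w = x
      · rw [h1, hgx, hgμx]
      by_cases h2 : w = μ x
      · rw [h2, hgμx, hμμ, hμμ, hgx]
      by_cases h3 : w = z
      · rw [h3, hgz, hgμz]
      by_cases h4 : w = μ z
      · rw [h4, hgμz, hμμ, hμμ, hgz]
      rw [hgo w h1 h2 h3 h4, hgo (μ w) (fun e => h2 (by rw [← e, hμμ]))
        (fun e => h1 (by rw [← hμμ w, e, hμμ])) (fun e => h4 (by rw [← e, hμμ]))
        (fun e => h3 (by rw [← hμμ w, e, hμμ]))]
    have hgJ : g ∈ J := Subgroup.mem_sup_right fun u w => by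
      rw [hf, hf, hgμ, g.injective.eq_iff, g.injective.eq_iff]
    have hin : ∀ u w, (u ∈ A ↔ w ∈ A) → swap u w ∈ J := fun u w h =>
      Subgroup.mem_sup_left (Or.inl (swap_mem_setStab h))
    obtain ⟨w, hw1, hw2, hw3, hw4⟩ : ∃ w, w ≠ x ∧ w ≠ μ x ∧ w ≠ z ∧ w ≠ μ z := by
      by_contra hcon
      push Not at hcon
      have hsub : (Finset.univ : Finset α) ⊆ {x, μ x, z, μ z} := fun w _ => by
        simp only [Finset.mem_insert, Finset.mem_singleton]
        by_contra hc
        rw [not_or, not_or, not_or] at hc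
        exact hc.2.2.2 (hcon w hc.1 hc.2.1 hc.2.2.1)
      have := (Finset.card_le_card hsub).trans Finset.card_le_four
      rw [Finset.card_univ] at this; omega
    by_cases hwA : w ∈ A
    · refine eq_top_of_swaps J A hin hwA hz ?_
      have h1 : g * swap w x * g⁻¹ ∈ J :=
        mul_mem (mul_mem hgJ (hin w x (by simp [hwA, hx]))) (inv_mem hgJ)
      rwa [← Equiv.swap_apply_apply, hgx, hgo w hw1 hw2 hw3 hw4] at h1
    · refine eq_top_of_swaps J A hin hx hwA ?_
      have h1 : g * swap z w * g⁻¹ ∈ J :=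
        mul_mem (mul_mem hgJ (hin z w (by simp [hwA, hz]))) (inv_mem hgJ)
      rwa [← Equiv.swap_apply_apply, hgz, hgo w hw1 hw2 hw3 hw4] at h1

end CfsgLib.LocalEven.MinPar
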