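import Cfsg.Agent.Lib.LocalEven.MinPar.Component
import Cfsg.Agent.Lib.LocalEven.MinPar.Degree

/-!
The decomposition when all minimal offenders have order 2: the components are symmetric groups of
degree `2ⁿ + 1`.
-/

set_option autoImplicit false

namespace CfsgLib.LocalEven.MinPar

open CfsgLib.LocalEven.PGV CfsgLib.LocalEven.OffenderSL2 Equiv

universe v

variable {W : Type v} [AddCommGroup W] {P M T : Subgroup (Γ W)}

/-- The system transported by an automorphism. -/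
def im {m : ℕ} (g : Γ W) (u : Fin m → W) : Fin m → W := fun i => g • u i

theorem mem_cset_im {m : ℕ} {g : Γ W} {u : Fin m → W} {x : W} :
    x ∈ cset (im g u) ↔ g⁻¹ • x ∈ cset u := by
  constructor
  · rintro ⟨i, j, hij, rfl⟩
    exact ⟨i, j, hij, by simp [im, ← smul_add]⟩
  · rintro ⟨i, j, hij, e⟩
    exact ⟨i, j, hij, by simp only [im, ← smul_add, e, smul_inv_smul]⟩

theorem fin_four_fpf : ∀ σ τ : Perm (Fin 4),
    ((∀ x, σ (σ x) = x) ∧ ((∀ x, σ x = x) ∨ ∀ x, σ x ≠ x)) →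
    ((∀ x, τ (τ x) = x) ∧ ((∀ x, τ x = x) ∨ ∀ x, τ x ≠ x)) →
    ((∀ x, σ (τ (σ (τ x))) = x) ∧ ((∀ x, σ (τ x) = x) ∨ ∀ x, σ (τ x) ≠ x)) := by
  decide

/-- The Klein four group. -/
def klein : Subgroup (Perm (Fin 4)) where
  carrier := {σ | (∀ x, σ (σ x) = x) ∧ ((∀ x, σ x = x) ∨ ∀ x, σ x ≠ x)}
  one_mem' := ⟨fun _ => rfl, Or.inl fun _ => rfl⟩
  mul_mem' := fun {a b} ha hb => fin_four_fpf a b ha hb
  inv_mem' := fun {a} ha => by
    have e : a⁻¹ = a := inv_eq_of_mul_eq_one_right (Equiv.ext ha.1)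
    rw [e]; exact ha

theorem klein_normal (g : Perm (Fin 4)) {σ : Perm (Fin 4)} (hσ : σ ∈ klein) : g * σ * g⁻¹ ∈ klein := by
  obtain ⟨h1, h2⟩ := hσ
  refine ⟨fun x => by simp [h1], h2.imp (fun h x => by simp [h]) fun h x e => h (g⁻¹ x) ?_⟩
  apply g.injective
  simpa using e

variable [Finite W]

/-- A closed system with a transvection outside `M`. -/
structure Base (P M : Subgroup (Γ W)) {m : ℕ} (u : Fin m → W) : Prop where
  hu : Emb P u
  hcl : Closed P u
  hm : 3 ≤ m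
  out : ∃ y ∈ cset u, tvOf P y ∉ M

variable {m : ℕ} {u : Fin m → W} (h : MinPar 2 P M T)
include h

theorem grp_image (hu : Emb P u) {g : Γ W} (hg : g ∈ P) : cj g (grp P u) = grp P (im g u) := by
  rw [grp, grp, cj, MonoidHom.map_closure, Set.image_image]
  congr 1
  ext z
  simp only [Set.mem_image]
  constructor
  · rintro ⟨x, hx, rfl⟩
    refine ⟨g • x, mem_cset_im.2 (by rwa [inv_smul_smul]), ?_⟩
    obtain ⟨i, j, hij, rfl⟩ := hx
    exact h.tvOf_smul hg (hu.mem i j hij)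
  · rintro ⟨x, hx, rfl⟩
    have hx' := mem_cset_im.1 hx
    refine ⟨g⁻¹ • x, hx', ?_⟩
    obtain ⟨i, j, hij, e⟩ := hx'
    have := h.tvOf_smul hg (hu.mem i j hij)
    rw [e, smul_inv_smul] at this
    rw [this]; rfl

/-- Perpendicular centres give commuting groups. -/
theorem commute_grp {m' : ℕ} {u' : Fin m' → W} (hu : Emb P u) (hu' : Emb P u')
    (hperp : ∀ x ∈ cset u, ∀ y ∈ cset u', Bf P x y = 0) :
    (∀ g ∈ grp P u, ∀ g' ∈ grp P u', Commute g g') ∧ span u ≤ fix (grp P u') := by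
  have hgen : ∀ x ∈ cset u, ∀ y ∈ cset u', Commute (tvOf P x) (tvOf P y) ∧ tvOf P y • x = x := by
    rintro x hx y hy
    have h0 := hperp x hx y hy
    obtain ⟨i, j, hij, rfl⟩ := hx
    obtain ⟨k, l, hkl, rfl⟩ := hy
    rw [h.Bf_symm (hu.mem i j hij) (hu'.mem k l hkl)] at h0
    exact ⟨(h.commute_iff (hu.mem i j hij) (hu'.mem k l hkl)).2 h0, MinPar.smul_of_zero h0⟩
  constructor
  · have hle : grp P u ≤ Subgroup.centralizer (grp P u' : Set (Γ W)) := by
      rw [grp, Subgroup.closure_le]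
      rintro _ ⟨x, hx, rfl⟩
      have hle' : grp P u' ≤ Subgroup.centralizer ({tvOf P x} : Set (Γ W)) := by
        rw [grp, Subgroup.closure_le]
        rintro _ ⟨y, hy, rfl⟩
        exact Subgroup.mem_centralizer_singleton_iff.2 (hgen x hx y hy).1.eq.symm
      exact Subgroup.mem_centralizer_iff.2 fun g' hg' => Subgroup.mem_centralizer_singleton_iff.1 (hle' hg')
    exact fun g hg g' hg' => (Subgroup.mem_centralizer_iff.1 (hle hg) g' hg').symm
  · rw [span, AddSubgroup.closure_le]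
    intro x hx g' hg'
    have hle : grp P u' ≤ MulAction.stabilizer (Γ W) x := by
      rw [grp, Subgroup.closure_le]
      rintro _ ⟨y, hy, rfl⟩
      exact (hgen x hx y hy).2
    exact hle hg'

theorem commute_of_tv {x y : W} (hx : x ∈ Cn P) (hy : y ∈ Cn P) (hxT : tvOf P x ∈ T) (hyT : tvOf P y ∈ T) :
    Bf P y x = 0 := by
  haveI : Fact (Nat.Prime 2) := ⟨Nat.prime_two⟩
  refine (h.commute_iff hx hy).1 (h.commute_of_le (h.off_zpowers (tvOf_spec hx).1)
    (h.off_zpowers (tvOf_spec hy).1) ?_ ?_ _ (Subgroup.mem_zpowers _) _ (Subgroup.mem_zpowers _))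
  · rw [Subgroup.zpowers_le]; exact hxT
  · rw [Subgroup.zpowers_le]; exact hyT

namespace Base

variable (hB : Base P M u)
include hB

theorem image {t : Γ W} (ht : t ∈ T) : Base P M (im t u) where
  hu := hB.hu.image h (h.TP ht)
  hcl := Emb.closed_image h hB.hcl (h.TP ht)
  hm := hB.hm
  out := by
    obtain ⟨_, ⟨i, j, hij, rfl⟩, hy⟩ := hB.out
    refine ⟨t • (u i + u j), mem_cset_im.2 ⟨i, j, hij, (inv_smul_smul _ _).symm⟩, fun e => hy ?_⟩
    rw [h.tvOf_smul (h.TP ht) (hB.hu.mem i j hij)] at e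
    simpa [mul_assoc] using mul_mem (mul_mem (inv_mem (h.TM ht)) e) (h.TM ht)

theorem grp_le_P : grp P u ≤ P := fun _ hg => (hB.hu.grp_le h hB.hcl hg).1

theorem not_le_M : ¬ grp P u ≤ M := fun hle => by
  obtain ⟨y, hy, hyM⟩ := hB.out
  exact hyM (hle (Subgroup.subset_closure (Set.mem_image_of_mem _ hy)))

theorem mem_stab_of_meet {g : Γ W} (hg : g ∈ P) {x : W} (hx : x ∈ cset u) (hx' : g⁻¹ • x ∈ cset u) :
    g ∈ stabP P u := by
  have hsub := hB.hu.cset_subset h hB.hcl (hB.hu.image h hg) hx (mem_cset_im.2 hx')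
  obtain ⟨σ, hσ⟩ := hB.hu.exists_perm h hB.hm (hB.hu.image h hg) hsub
  exact ⟨hg, σ, fun i j => by rw [smul_add]; exact hσ i j⟩

theorem perp {g : Γ W} (hg : g ∈ P) (hgS : g ∉ stabP P u) :
    ∀ x ∈ cset u, ∀ y ∈ cset (im g u), Bf P x y = 0 := by
  intro x hx y hy
  have hyu : y ∉ cset u := fun hyu => hgS (hB.mem_stab_of_meet h hg hyu (mem_cset_im.1 hy))
  obtain ⟨k, l, hkl, rfl⟩ := hy
  obtain ⟨i, j, hij, rfl⟩ := hx
  have hy' : im g u k + im g u l ∈ Cn P := (hB.hu.image h hg).mem k l hkl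
  rw [h.Bf_symm (hB.hu.mem i j hij) hy']
  exact hB.hcl _ hy' hyu _ ⟨i, j, hij, rfl⟩

/-- The permutation of the points. -/
noncomputable def prm : stabP P u →* Perm (Fin m) := perm h hB.hu hB.hm

/-- The permutations induced by `T`. -/
noncomputable def S0 : Subgroup (Perm (Fin m)) := (T.subgroupOf (stabP P u)).map (hB.prm h)

/-- The elements of `grp` inducing a permutation in `X`. -/
noncomputable def pre (X : Subgroup (Perm (Fin m))) : Subgroup (Γ W) :=
  (X.comap ((hB.prm h).comp (Subgroup.inclusion (hB.hu.grp_le h hB.hcl)))).map (grp P u).subtype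

/-- The elements of `P` permuting the translates of the system by `T` and inducing permutations in
`X`. -/
noncomputable def gset (X : Subgroup (Perm (Fin m))) : Subgroup (Γ W) :=
  subgroupOfFiniteMul
    {g | g ∈ P ∧ ∀ t ∈ T, ∃ t' ∈ T, ∃ hs : t'⁻¹ * g * t ∈ stabP P u, hB.prm h ⟨_, hs⟩ ∈ X}
    ⟨one_mem P, fun t ht => ⟨t, ht, by simp, by
      have e : (⟨t⁻¹ * 1 * t, by simp⟩ : stabP P u) = 1 := Subtype.ext (by simp)
      rw [e, map_one]; exact one_mem X⟩⟩
    (fun {a b} ha hb => ⟨mul_mem ha.1 hb.1, fun t ht => by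
      obtain ⟨t₁, ht₁, hs₁, hX₁⟩ := hb.2 t ht
      obtain ⟨t₂, ht₂, hs₂, hX₂⟩ := ha.2 t₁ ht₁
      have e : t₂⁻¹ * (a * b) * t = (t₂⁻¹ * a * t₁) * (t₁⁻¹ * b * t) := by group
      refine ⟨t₂, ht₂, e ▸ mul_mem hs₂ hs₁, ?_⟩
      have e' : (⟨t₂⁻¹ * (a * b) * t, e ▸ mul_mem hs₂ hs₁⟩ : stabP P u) =
          ⟨_, hs₂⟩ * ⟨_, hs₁⟩ := Subtype.ext e
      rw [e', map_mul]
      exact mul_mem hX₂ hX₁⟩)
where
  subgroupOfFiniteMul (s : Set (Γ W)) (h1 : (1 : Γ W) ∈ s)
      (hmul : ∀ {a b}, a ∈ s → b ∈ s → a * b ∈ s) : Subgroup (Γ W) :=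
    { carrier := s
      one_mem' := h1
      mul_mem' := hmul
      inv_mem' := fun {a} ha => by
        have hpow : ∀ k : ℕ, a ^ k ∈ s := fun k => by
          induction k with
          | zero => rw [pow_zero]; exact h1
          | succ k ih => rw [pow_succ]; exact hmul ih ha
        have e : a⁻¹ = a ^ (orderOf a - 1) := inv_eq_of_mul_eq_one_right (by
          rw [← pow_succ', Nat.sub_add_cancel (orderOf_pos a), pow_orderOf_eq_one])
        rw [e]; exact hpow _ }

theorem mem_gset {X : Subgroup (Perm (Fin m))} {g : Γ W} : g ∈ hB.gset h X ↔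
    g ∈ P ∧ ∀ t ∈ T, ∃ t' ∈ T, ∃ hs : t'⁻¹ * g * t ∈ stabP P u, hB.prm h ⟨_, hs⟩ ∈ X := Iff.rfl

theorem T_le_gset (X : Subgroup (Perm (Fin m))) : T ≤ hB.gset h X := fun s hs =>
  (hB.mem_gset h).2 ⟨h.TP hs, fun t ht => ⟨s * t, mul_mem hs ht, by simp [mul_assoc], by
    have e : (⟨(s * t)⁻¹ * s * t, by simp [mul_assoc]⟩ : stabP P u) = 1 := Subtype.ext (by simp [mul_assoc])
    rw [e, map_one]; exact one_mem X⟩⟩

theorem gset_top : hB.gset h ⊤ = P := by
  refine le_antisymm (fun g hg => ((hB.mem_gset h).1 hg).1) ?_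
  by_contra hne
  have hne' : hB.gset h ⊤ ≠ P := fun e => hne e.ge
  have hle := h.uniq _ (hB.T_le_gset h ⊤) (fun g hg => ((hB.mem_gset h).1 hg).1) hne'
  obtain ⟨_, ⟨i, j, hij, rfl⟩, hy⟩ := hB.out
  have hx := hB.hu.mem i j hij
  refine hy (hle ((hB.mem_gset h).2 ⟨(tvOf_spec hx).1.1, fun t ht => ⟨t, ht, ?_, Subgroup.mem_top _⟩⟩))
  have e := h.tvOf_smul (inv_mem (h.TP ht)) hx
  rw [inv_inv] at e
  rw [← e]
  exact hB.hu.tv_mem_stab h hB.hcl (cn_smul (inv_mem (h.TP ht)) hx)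

/-- Every element of `P` moves the system as some element of `T` does. -/
theorem exists_orbit {g : Γ W} (hg : g ∈ P) : ∃ t ∈ T, t⁻¹ * g ∈ stabP P u := by
  rw [← hB.gset_top h] at hg
  obtain ⟨t, ht, hs, -⟩ := ((hB.mem_gset h).1 hg).2 1 (one_mem T)
  exact ⟨t, ht, by simpa using hs⟩

theorem sylow_stab {R : Subgroup (Γ W)} (hR : R ≤ stabP P u) (hRp : IsPGroup 2 R) :
    ∃ s ∈ stabP P u, R ≤ cj s (T ⊓ stabP P u) := by
  obtain ⟨g, hg, hle⟩ := h.syl R (fun x hx => (hR hx).1) hRp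
  obtain ⟨t, ht, hs⟩ := hB.exists_orbit h (inv_mem hg)
  have hs' : g * t ∈ stabP P u := by simpa using inv_mem hs
  refine ⟨g * t, hs', fun z hz => mem_cj.2 ⟨?_, (stabP P u).mul_mem ((stabP P u).mul_mem ((stabP P u).inv_mem hs') (hR hz)) hs'⟩⟩
  have hz' := mem_cj.1 (hle hz)
  rw [show (g * t)⁻¹ * z * (g * t) = t⁻¹ * (g⁻¹ * z * g) * t by group]
  exact T.mul_mem (T.mul_mem (T.inv_mem ht) hz') ht

theorem pre_two {X : Subgroup (Perm (Fin m))} (hX : IsPGroup 2 X) : IsPGroup 2 (hB.pre h X) := by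
  haveI : Fact (Nat.Prime 2) := ⟨Nat.prime_two⟩
  rintro ⟨_, g, hg, rfl⟩
  obtain ⟨k, hk⟩ := hX ⟨_, hg⟩
  refine ⟨k + 1, Subtype.ext ?_⟩
  have hker : ((g : Γ W) ^ 2 ^ k) ∈ ch (span u) := by
    refine mem_ch h hB.hu hB.hm hB.hcl (pow_mem g.2 _) ?_
    have e : (⟨(g : Γ W) ^ 2 ^ k, hB.hu.grp_le h hB.hcl (pow_mem g.2 _)⟩ : stabP P u) =
        (Subgroup.inclusion (hB.hu.grp_le h hB.hcl) g) ^ 2 ^ k := Subtype.ext (by simp)
    rw [e, map_pow]
    exact congrArg Subtype.val hk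
  show (g : Γ W) ^ 2 ^ (k + 1) = 1
  rw [pow_succ, pow_mul]
  exact (ch_el (U := span u) h.hp).2 _ hker

theorem pre_le_M {X : Subgroup (Perm (Fin m))} (hS : hB.S0 h ≤ X) (hne : X ≠ ⊤) : hB.pre h X ≤ M := by
  have hle : hB.pre h X ≤ hB.gset h X := by
    rintro _ ⟨g, hg, rfl⟩
    show (g : Γ W) ∈ hB.gset h X
    refine (hB.mem_gset h).2 ⟨hB.grp_le_P h g.2, fun t ht => ⟨t, ht, ?_⟩⟩
    by_cases htS : t ∈ stabP P u
    · have hmem : t⁻¹ * g * t ∈ stabP P u :=
        mul_mem (mul_mem (inv_mem htS) (hB.hu.grp_le h hB.hcl g.2)) htS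
      refine ⟨hmem, ?_⟩
      have e : (⟨t⁻¹ * g * t, hmem⟩ : stabP P u) =
          (⟨t, htS⟩ : stabP P u)⁻¹ * Subgroup.inclusion (hB.hu.grp_le h hB.hcl) g * ⟨t, htS⟩ :=
        Subtype.ext rfl
      have hσ : hB.prm h ⟨t, htS⟩ ∈ X := hS ⟨⟨t, htS⟩, ht, rfl⟩
      rw [e, map_mul, map_mul, map_inv]
      exact mul_mem (mul_mem (inv_mem hσ) hg) hσ
    · have hfix : ∀ i j, ((g : Γ W) * t) • (u i + u j) = t • (u i + u j) := fun i j => by
        rw [mul_smul]
        by_cases hij : i = j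
        · subst hij; rw [h.add_self, smul_zero, smul_zero]
        have hiu : Emb P (im t u) := hB.hu.image h (h.TP ht)
        refine (commute_grp h hiu hB.hu fun y hy x hx => ?_).2 (AddSubgroup.subset_closure ?_) _ g.2
        · have := hB.perp h (h.TP ht) htS x hx y hy
          obtain ⟨a, b, hab, rfl⟩ := hx
          obtain ⟨c, d, hcd, rfl⟩ := hy
          rwa [h.Bf_symm (hiu.mem c d hcd) (hB.hu.mem a b hab)]
        · exact mem_cset_im.2 ⟨i, j, hij, (inv_smul_smul _ _).symm⟩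
      have hσ : ∀ i j, (t⁻¹ * g * t) • (u i + u j) =
          u ((1 : Perm (Fin m)) i) + u ((1 : Perm (Fin m)) j) := fun i j => by
        rw [mul_assoc, mul_smul, hfix, inv_smul_smul]; simp
      have hmem : t⁻¹ * (g : Γ W) * t ∈ stabP P u :=
        ⟨mul_mem (mul_mem (inv_mem (h.TP ht)) (hB.grp_le_P h g.2)) (h.TP ht), 1, hσ⟩
      refine ⟨hmem, ?_⟩
      rw [show hB.prm h ⟨_, hmem⟩ = 1 from perm_eq h hB.hu hB.hm ⟨_, hmem⟩ hσ]
      exact one_mem X
  refine hle.trans (h.uniq _ (hB.T_le_gset h X) (fun g hg => ((hB.mem_gset h).1 hg).1) fun e => ?_)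
  obtain ⟨σ, hσ⟩ : ∃ σ, σ ∉ X := by
    by_contra hcon
    push Not at hcon
    exact hne ((Subgroup.eq_top_iff' X).2 hcon)
  obtain ⟨g, hg, hgσ⟩ := perm_surj h hB.hu hB.hm hB.hcl σ
  obtain ⟨t', ht', hs, hX'⟩ :=
    ((hB.mem_gset h).1 (show g ∈ hB.gset h X by rw [e]; exact hB.grp_le_P h hg)).2 1 (one_mem T)
  have hgS := hB.hu.grp_le h hB.hcl hg
  have ht'S : t' ∈ stabP P u := by
    have := mul_mem hgS (inv_mem hs)
    simpa [mul_assoc] using this
  have h1 : hB.prm h ⟨t', ht'S⟩ ∈ X := hS ⟨⟨t', ht'S⟩, ht', rfl⟩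
  refine hσ ?_
  have e2 : (⟨g, hgS⟩ : stabP P u) = ⟨t', ht'S⟩ * ⟨t'⁻¹ * g * 1, hs⟩ := Subtype.ext (by simp)
  have h2 := mul_mem h1 hX'
  rw [← map_mul, ← e2] at h2
  rwa [show hB.prm h ⟨g, hgS⟩ = σ from hgσ] at h2

theorem S0_max (R : Subgroup (Perm (Fin m))) (hR : IsPGroup 2 R) :
    ∃ σ : Perm (Fin m), ∀ x ∈ R, σ * x * σ⁻¹ ∈ hB.S0 h := by
  obtain ⟨s, hs, hle⟩ := hB.sylow_stab h (R := hB.pre h R)
    (by rintro _ ⟨g, -, rfl⟩; exact hB.hu.grp_le h hB.hcl g.2) (hB.pre_two h hR)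
  refine ⟨(hB.prm h ⟨s, hs⟩)⁻¹, fun x hx => ?_⟩
  obtain ⟨g, hg, hgx⟩ := perm_surj h hB.hu hB.hm hB.hcl x
  have hz := mem_cj.1 (hle ⟨⟨g, hg⟩, show hB.prm h ⟨g, _⟩ ∈ R from hgx ▸ hx, rfl⟩)
  refine ⟨(⟨s, hs⟩ : stabP P u)⁻¹ * ⟨g, hB.hu.grp_le h hB.hcl hg⟩ * ⟨s, hs⟩, hz.1, ?_⟩
  rw [map_mul, map_mul, map_inv, inv_inv]
  rw [show hB.prm h ⟨g, _⟩ = x from hgx]

/-- The degree is not 4. -/
theorem ne_four : m ≠ 4 := by
  rintro rfl
  haveI : Fact (Nat.Prime 2) := ⟨Nat.prime_two⟩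
  have hK : IsPGroup 2 klein := fun σ => ⟨1, Subtype.ext (Equiv.ext fun x => by
    show ((σ : Perm (Fin 4)) ^ (2 ^ 1)) x = x
    rw [pow_one, pow_two, Perm.mul_apply]; exact σ.2.1 x)⟩
  set V := hB.pre h klein with hV
  have hVS : V ≤ stabP P u := by rintro _ ⟨g, -, rfl⟩; exact hB.hu.grp_le h hB.hcl g.2
  have hgrp : ∀ s ∈ stabP P u, cj s (grp P u) = grp P u := by
    intro s hs
    rw [grp_image h hB.hu hs.1]
    obtain ⟨hsP, σ, hσ⟩ := hs
    rw [grp, grp]
    congr 1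
    congr 1
    ext x
    constructor
    · rintro ⟨i, j, hij, rfl⟩
      exact ⟨σ i, σ j, fun e => hij (σ.injective e), by rw [← hσ, smul_add]; rfl⟩
    · rintro ⟨i, j, hij, rfl⟩
      refine ⟨σ.symm i, σ.symm j, fun e => hij (σ.symm.injective e), ?_⟩
      show s • u (σ.symm i) + s • u (σ.symm j) = _
      rw [← smul_add, hσ]; simp
  have hnorm : ∀ s ∈ stabP P u, cj s V = V := by
    intro s hs
    refine Subgroup.eq_of_le_of_card_ge ?_ (card_cj s V).ge
    rintro _ ⟨z, ⟨g, hg, rfl⟩, rfl⟩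
    have hmem : s * (g : Γ W) * s⁻¹ ∈ grp P u := by
      have := conj_mem_cj (c := s) g.2
      rwa [hgrp s hs] at this
    refine ⟨⟨_, hmem⟩, ?_, rfl⟩
    show hB.prm h (Subgroup.inclusion _ ⟨_, hmem⟩) ∈ klein
    have e : Subgroup.inclusion (hB.hu.grp_le h hB.hcl) (⟨_, hmem⟩ : grp P u) =
        (⟨s, hs⟩ : stabP P u) * Subgroup.inclusion (hB.hu.grp_le h hB.hcl) g * (⟨s, hs⟩ : stabP P u)⁻¹ :=
      Subtype.ext rfl
    rw [e, map_mul, map_mul, map_inv]
    exact klein_normal _ hg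
  obtain ⟨s, hs, hle⟩ := hB.sylow_stab h hVS (hB.pre_two h hK)
  have hVT : V ≤ T := by
    intro v hv
    have hv' : s * v * s⁻¹ ∈ V := by
      have := conj_mem_cj (c := s) hv
      rwa [hnorm s hs] at this
    have := mem_cj.1 (hle hv')
    simpa [mul_assoc] using this.1
  set R := ⨆ t ∈ T, cj t V with hR
  have hR1 : R ≠ ⊥ := by
    intro e
    obtain ⟨g, hg, hgσ⟩ := perm_surj h hB.hu hB.hm hB.hcl (swap (0 : Fin 4) 1 * swap 2 3)
    have hgV : g ∈ V := ⟨⟨g, hg⟩, by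
      show hB.prm h ⟨g, _⟩ ∈ klein
      rw [show hB.prm h ⟨g, hB.hu.grp_le h hB.hcl hg⟩ = _ from hgσ]
      exact ⟨by decide, Or.inr (by decide)⟩, rfl⟩
    have h1 : g = 1 := by
      have hgR : g ∈ R :=
        Subgroup.mem_iSup_of_mem 1 (Subgroup.mem_iSup_of_mem (one_mem T) (by rw [cj_one]; exact hgV))
      rw [e] at hgR
      exact Subgroup.mem_bot.1 hgR
    subst h1
    have := hgσ.symm.trans (map_one (hB.prm h))
    exact absurd (DFunLike.congr_fun this 0) (by decide)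
  refine hB.not_le_M h fun e he => h.mem_M_of_normalizes (iSup₂_le fun t ht => cj_le ht hVT) hR1
    (fun t ht => h.cj_orbit ht) (hB.grp_le_P h he) ?_
  simp only [R, cj, Subgroup.map_iSup]
  refine iSup_congr fun t => iSup_congr fun ht => ?_
  by_cases htS : t ∈ stabP P u
  · show cj e (cj t V) = cj t V
    rw [hnorm t htS, hnorm e (hB.hu.grp_le h hB.hcl he)]
  · refine cj_eq_of_commute fun c hc => ?_
    have hc' : c ∈ grp P (im t u) := by
      rw [← grp_image h hB.hu (h.TP ht)]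
      obtain ⟨z, ⟨g, -, rfl⟩, rfl⟩ := hc
      exact conj_mem_cj g.2
    exact (commute_grp h hB.hu (hB.hu.image h (h.TP ht)) (hB.perp h (h.TP ht) htS)).1 e he c hc'

/-- The degree is `2ⁿ + 1`. -/
theorem exists_degree : ∃ n, 1 ≤ n ∧ m = 2 ^ n + 1 := by
  classical
  have hS : IsPGroup 2 (hB.S0 h) :=
    (h.hT.comap_of_injective (stabP P u).subtype (stabP P u).subtype_injective).map _
  have := degree (hB.S0 h) hS (hB.S0_max h) (fun X₁ X₂ h1 h2 hn1 hn2 e => hB.not_le_M h ?_)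
    (by simpa using hB.hm) (by simpa using hB.ne_four h)
  · simpa using this
  · intro g hg
    set f := (hB.prm h).comp (Subgroup.inclusion (hB.hu.grp_le h hB.hcl)) with hf
    have hsurj : Function.Surjective f := fun σ => by
      obtain ⟨g, hg, e⟩ := perm_surj h hB.hu hB.hm hB.hcl σ
      exact ⟨⟨g, hg⟩, e⟩
    have htop : X₁.comap f ⊔ X₂.comap f = ⊤ := by
      rw [Subgroup.comap_sup_eq f X₁ X₂ hsurj, e, Subgroup.comap_top]
    have hle : (X₁.comap f ⊔ X₂.comap f).map (grp P u).subtype ≤ M := by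
      rw [Subgroup.map_sup]
      exact sup_le (hB.pre_le_M h h1 hn1) (hB.pre_le_M h h2 hn2)
    rw [htop] at hle
    exact hle ⟨⟨g, hg⟩, Subgroup.mem_top _, rfl⟩

/-- `T` contains the transvections of a perfect matching of all points but one. -/
theorem exists_matching (hodd : Odd m) : ∃ (z : Fin m) (ι : Fin m → Fin m), ι z = z ∧
    ∀ i, i ≠ z → ι i ≠ i ∧ ι i ≠ z ∧ tvOf P (u i + u (ι i)) ∈ T := by
  classical
  haveI : Fact (Nat.Prime 2) := ⟨Nat.prime_two⟩
  obtain ⟨k, rfl⟩ := hodd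
  let mid : Fin (2 * k + 1) := ⟨k, by omega⟩
  have hrev : ∀ i : Fin (2 * k + 1), Fin.rev i = i ↔ i = mid := fun i => by
    simp only [Fin.ext_iff, Fin.val_rev, mid]
    omega
  set D := Subgroup.closure ((fun i => tvOf P (u i + u (Fin.rev i))) '' {i | i ≠ mid}) with hD
  let U : AddSubgroup W := AddSubgroup.closure ((fun i => u i + u (Fin.rev i)) '' {i | i ≠ mid})
  have hne : ∀ i, i ≠ mid → i ≠ Fin.rev i := fun i hi e => hi ((hrev i).1 e.symm)
  have hDU : D ≤ P ⊓ ch U := by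
    rw [hD, Subgroup.closure_le]
    rintro _ ⟨i, hi, rfl⟩
    have hx := hB.hu.mem i _ (hne i hi)
    refine ⟨(tvOf_spec hx).1.1, fun w hw => ?_, fun w => ?_⟩
    · induction hw using AddSubgroup.closure_induction with
      | mem y hy =>
        obtain ⟨j, hj, rfl⟩ := hy
        refine MinPar.smul_of_zero ?_
        rw [hB.hu.form i _ j _ (hne i hi)]
        by_cases hij : i = j
        · subst hij; simp [dlt, hne i hi, Ne.symm (hne i hi), CharTwo.add_self_eq_zero]
        · by_cases hij' : i = Fin.rev j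
          · subst hij'
            simp [dlt, hne j hj, Ne.symm (hne j hj), CharTwo.add_self_eq_zero]
          · have : Fin.rev i ≠ j := fun e => hij' (by rw [← e, Fin.rev_rev])
            simp [dlt, hij, hij', this, Fin.rev_inj]
      | zero => exact smul_zero _
      | add a b _ _ ha hb => rw [smul_add, ha, hb]
      | neg a _ ha => rw [smul_neg, ha]
    · rcases (tvOf_spec hx).2 w with e | e <;> rw [e]
      · simp
      · rw [add_sub_cancel_left]; exact AddSubgroup.subset_closure ⟨i, hi, rfl⟩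
  have hDS : D ≤ stabP P u := by
    rw [hD, Subgroup.closure_le]
    rintro _ ⟨i, hi, rfl⟩
    exact hB.hu.tv_mem_stab h hB.hcl (hB.hu.mem i _ (hne i hi))
  have hDel : Cfsg.IsElementaryAbelian 2 D := el_mono (ch_el (U := U) h.hp) (hDU.trans inf_le_right)
  obtain ⟨s, hs, hle⟩ := hB.sylow_stab h hDS
    fun a => ⟨1, Subtype.ext (by simpa using hDel.2 a a.2)⟩
  set σ := hB.prm h ⟨s⁻¹, inv_mem hs⟩ with hσ
  refine ⟨σ mid, fun i => σ (Fin.rev (σ.symm i)), by simp [(hrev mid).2 rfl], fun i hi => ?_⟩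
  obtain ⟨j, rfl⟩ := σ.surjective i
  have hj : j ≠ mid := fun e => hi (by rw [e])
  simp only [Equiv.symm_apply_apply]
  refine ⟨fun e => hne j hj (σ.injective e).symm, fun e => ?_, ?_⟩
  · have e' := σ.injective e
    exact hj (by rw [← Fin.rev_rev j, e', (hrev mid).2 rfl])
  · have e := perm_spec h hB.hu hB.hm ⟨s⁻¹, inv_mem hs⟩ j (Fin.rev j)
    rw [← show hB.prm h ⟨s⁻¹, inv_mem hs⟩ = σ from rfl]
    show tvOf P (u (perm h hB.hu hB.hm ⟨s⁻¹, _⟩ j) + u (perm h hB.hu hB.hm ⟨s⁻¹, _⟩ (Fin.rev j))) ∈ T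
    rw [← e, h.tvOf_smul (inv_mem hs.1) (hB.hu.mem j _ (hne j hj)), inv_inv]
    exact (mem_cj.1 (hle (Subgroup.subset_closure ⟨j, hj, rfl⟩))).1

/-- A transvection of the component in `T` has exactly two neighbours perpendicular to the others. -/
theorem neighbours {x : W} (hx : x ∈ cset u) (hxT : tvOf P x ∈ T) :
    (∃ r ∈ Cn P, Bf P x r = 1 ∧ ∀ y ∈ Cn P, tvOf P y ∈ T → y ≠ x → Bf P y r = 0) ∧
      ∀ r ∈ Cn P, Bf P x r = 1 → (∀ y ∈ Cn P, tvOf P y ∈ T → y ≠ x → Bf P y r = 0) →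
        ∀ r' ∈ Cn P, Bf P x r' = 1 → (∀ y ∈ Cn P, tvOf P y ∈ T → y ≠ x → Bf P y r' = 0) →
          r' = r ∨ r' = r + x := by
  classical
  haveI : Fact (Nat.Prime 2) := ⟨Nat.prime_two⟩
  obtain ⟨n, hn, hnm⟩ := hB.exists_degree h
  obtain ⟨z, ι, hιz, hι⟩ := hB.exists_matching h (hnm ▸ (Nat.even_pow.2 ⟨even_two, by omega⟩).add_one)
  -- the pairs of `T` are pairs of the matching
  have hpair : ∀ a b, a ≠ b → tvOf P (u a + u b) ∈ T → a ≠ z ∧ ι a = b := by
    have key : ∀ a b, a ≠ b → a ≠ z → tvOf P (u a + u b) ∈ T → ι a = b := by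
      intro a b hab ha hT'
      obtain ⟨h1, -, h3⟩ := hι a ha
      have h0 := commute_of_tv h (hB.hu.mem a b hab) (hB.hu.mem a _ (Ne.symm h1)) hT' h3
      rw [hB.hu.form a (ι a) a b (Ne.symm h1), dlt_self, dlt_ne hab, dlt_ne h1] at h0
      by_contra hne
      rw [dlt_ne hne] at h0
      simp at h0
    intro a b hab hT'
    have ha : a ≠ z := by
      rintro rfl
      have e := key b a (Ne.symm hab) (Ne.symm hab) (by rwa [add_comm])
      exact (hι b (Ne.symm hab)).2.1 e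
    exact ⟨ha, key a b hab ha hT'⟩
  obtain ⟨a, b, hab, rfl⟩ := hx
  obtain ⟨ha, hιa⟩ := hpair a b hab hxT
  obtain ⟨hb, hιb⟩ := hpair b a (Ne.symm hab) (by rwa [add_comm])
  have hperp : ∀ y ∈ Cn P, tvOf P y ∈ T → y ≠ u a + u b → ∀ e, e = a ∨ e = b → Bf P y (u e + u z) = 0 := by
    intro y hy hyT hne e he
    have hez : e ≠ z := by rcases he with rfl | rfl <;> assumption
    by_cases hyu : y ∈ cset u
    swap
    · exact hB.hcl y hy hyu _ ⟨e, z, hez, rfl⟩
    obtain ⟨c, d, hcd, rfl⟩ := hyu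
    obtain ⟨hc, hιc⟩ := hpair c d hcd hyT
    obtain ⟨hd, hιd⟩ := hpair d c (Ne.symm hcd) (by rwa [add_comm])
    have hce : c ≠ e := by
      rintro rfl
      rcases he with rfl | rfl
      · exact hne (by rw [← hιc, hιa])
      · exact hne (by rw [← hιc, hιb, add_comm])
    have hde : d ≠ e := by
      rintro rfl
      rcases he with rfl | rfl
      · exact hne (by rw [← hιd, hιa, add_comm])
      · exact hne (by rw [← hιd, hιb])
    rw [hB.hu.form c d e z hcd, dlt_ne hce, dlt_ne hc, dlt_ne hde, dlt_ne hd]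
    simp
  refine ⟨⟨u a + u z, hB.hu.mem a z ha, ?_, fun y hy hyT hne => hperp y hy hyT hne a (Or.inl rfl)⟩, ?_⟩
  · rw [hB.hu.form a b a z hab, dlt_self, dlt_ne ha, dlt_ne (Ne.symm hab), dlt_ne hb]
    simp
  have hshape : ∀ r ∈ Cn P, Bf P (u a + u b) r = 1 →
      (∀ y ∈ Cn P, tvOf P y ∈ T → y ≠ u a + u b → Bf P y r = 0) → r = u a + u z ∨ r = u b + u z := by
    intro r hr h1 h2
    have hru : r ∈ cset u := by
      by_contra hru
      rw [h.Bf_symm (hB.hu.mem a b hab) hr, hB.hcl r hr hru _ ⟨a, b, hab, rfl⟩] at h1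
      exact zero_ne_one h1
    have key : ∀ c d, c ≠ d → r = u c + u d → c = a ∨ c = b → d ≠ a → d ≠ b → r = u a + u z ∨ r = u b + u z := by
      intro c d hcd hrcd hc hda hdb
      by_cases hd : d = z
      · rcases hc with rfl | rfl
        · exact Or.inl (by rw [hrcd, hd])
        · exact Or.inr (by rw [hrcd, hd])
      exfalso
      obtain ⟨d1, d2, d3⟩ := hι d hd
      have hne' : u d + u (ι d) ≠ u a + u b := fun e => by
        rcases hB.hu.inj _ _ _ _ (Ne.symm d1) hab e with ⟨e1, -⟩ | ⟨e1, -⟩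
        · exact hda e1
        · exact hdb e1
      have h0 := h2 _ (hB.hu.mem d _ (Ne.symm d1)) d3 hne'
      rw [hrcd, hB.hu.form d (ι d) c d (Ne.symm d1), dlt_ne (Ne.symm hcd), dlt_self, dlt_ne d1] at h0
      have hιdc : ι d ≠ c := by
        intro e
        obtain ⟨hc', e'⟩ := hpair (ι d) d d1 (by rwa [add_comm])
        rw [e] at e'
        rcases hc with rfl | rfl
        · exact hdb (e'.symm.trans hιa)
        · exact hda (e'.symm.trans hιb)
      rw [dlt_ne hιdc] at h0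
      simp at h0
    obtain ⟨c, d, hcd, rfl⟩ := hru
    rw [hB.hu.form a b c d hab] at h1
    by_cases hc : c = a ∨ c = b
    · by_cases hd : d = a ∨ d = b
      · exfalso
        rcases hc with rfl | rfl <;> rcases hd with rfl | rfl
        · exact hcd rfl
        · simp [dlt, hab, Ne.symm hab, CharTwo.add_self_eq_zero] at h1
        · simp [dlt, hab, Ne.symm hab, CharTwo.add_self_eq_zero] at h1
        · exact hcd rfl
      · rw [not_or] at hd
        exact key c d hcd rfl hc hd.1 hd.2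
    · rw [not_or] at hc
      by_cases hd : d = a ∨ d = b
      · exact key d c (Ne.symm hcd) (add_comm _ _) hd hc.1 hc.2
      · rw [not_or] at hd
        simp [dlt, Ne.symm hc.1, Ne.symm hc.2, Ne.symm hd.1, Ne.symm hd.2] at h1
  intro r hr r1 r2 r' hr' r1' r2'
  have hsum : u b + u z = u a + u z + (u a + u b) := by
    rw [add_comm (u a) (u z), show u z + u a + (u a + u b) = u b + u z + (u a + u a) by abel, h.add_self, add_zero]
  rcases hshape r hr r1 r2 with rfl | rfl <;> rcases hshape r' hr' r1' r2' with rfl | rfl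
  · exact Or.inl rfl
  · exact Or.inr hsum
  · exact Or.inr (by rw [hsum, add_assoc, h.add_self, add_zero])
  · exact Or.inl rfl

end Base

/-- A closed system with a transvection outside `M` and one in `T`. -/
theorem exists_base {A₀ : Subgroup (Γ W)} (hA : Off 2 P A₀) (h2 : Nat.card A₀ = 2) :
    ∃ (m : ℕ) (u : Fin m → W), Base P M u ∧ ∃ x ∈ cset u, tvOf P x ∈ T := by
  haveI : Fact (Nat.Prime 2) := ⟨Nat.prime_two⟩
  obtain ⟨g, hg, L, S, hLP, hgT, hS⟩ := h.exists_setup hA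
  obtain ⟨k, hk, hkN⟩ := hS.exists_outside
  obtain ⟨a, ha, ha1⟩ := (Subgroup.bot_or_exists_ne_one (cj g A₀)).resolve_left (hA.conj hg).A1
  have hAz : cj g A₀ = Subgroup.zpowers a := by
    refine (Subgroup.eq_of_le_of_card_ge (by rw [Subgroup.zpowers_le]; exact ha) ?_).symm
    rw [card_cj, h2]
    haveI := (Subgroup.nontrivial_iff_ne_bot (Subgroup.zpowers a)).2 (fun e => ha1 (Subgroup.zpowers_eq_bot.1 e))
    exact Finite.one_lt_card
  have hta : Tv P a := h.tv_of_off (hA.conj hg) (by rw [card_cj, h2]) ha ha1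
  obtain ⟨x, hx, hcx⟩ := hta.exists_cn
  have hax := h.tvOf_eq hta hx hcx
  have hbM : k * a * k⁻¹ ∉ M := fun e => hS.ne (le_antisymm hS.MP (by
    conv_lhs => rw [← hS.gen k hk hkN]
    refine sup_le (hS.AT.trans hS.TM) (le_inf (cj_le hk hS.AP) ?_)
    rw [hAz, cj, MonoidHom.map_zpowers, Subgroup.zpowers_le]
    exact e))
  have hxb : k • x ∈ Cn P := cn_smul (hLP hk) hx
  have htb : tvOf P (k • x) = k * a * k⁻¹ := by rw [h.tvOf_smul (hLP hk) hx, hax]
  have hne : Bf P (k • x) x ≠ 0 := fun e0 => hbM (by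
    have hc : Commute a (k * a * k⁻¹) := by rw [← htb, ← hax]; exact (h.commute_iff hx hxb).2 e0
    have hle : L ≤ Subgroup.centralizer ({a} : Set (Γ W)) := by
      rw [← hS.gen k hk hkN, hAz, cj, MonoidHom.map_zpowers]
      exact sup_le (by rw [Subgroup.zpowers_le, Subgroup.mem_centralizer_singleton_iff])
        (by rw [Subgroup.zpowers_le, Subgroup.mem_centralizer_singleton_iff]; exact hc.eq.symm)
    rw [(Subgroup.mem_centralizer_singleton_iff.1 (hle hk)), mul_inv_cancel_right]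
    exact h.TM (hgT ha))
  obtain ⟨m, u, hu, hcl, hxu⟩ := exists_closed h hx
  have hbu : k • x ∈ cset u := by
    by_contra hbu
    exact hne (hcl _ hxb hbu x hxu)
  have hm : 3 ≤ m := by
    by_contra hlt
    obtain ⟨i, j, hij, e⟩ := hxu
    obtain ⟨i', j', hij', e'⟩ := hbu
    have hi := Fin.val_ne_of_ne hij
    have hi' := Fin.val_ne_of_ne hij'
    have : k • x = x := by
      rw [← e', ← e]
      by_cases hc : i = i'
      · have : j = j' := Fin.ext (by have := congrArg Fin.val hc; omega)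
        rw [hc, this]
      · have hh := Fin.val_ne_of_ne hc
        have h1 : i = j' := Fin.ext (by omega)
        have h2' : j = i' := Fin.ext (by omega)
        rw [h1, h2', add_comm]
    rw [this] at hne
    exact hne (h.Bf_self hx)
  exact ⟨m, u, ⟨hu, hcl, hm, k • x, hbu, by rw [htb]; exact hbM⟩, x, hxu, by rw [hax]; exact hgT ha⟩

/-- The decomposition when a minimal offender has order 2. -/
theorem exists_decomp_small {A₀ : Subgroup (Γ W)} (hA : Off 2 P A₀) (h2 : Nat.card A₀ = 2) :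
    ∃ (r : ℕ) (E : Fin r → Subgroup (Γ W)), Decomp 2 P T r E ∧ Full 2 P E := by
  classical
  haveI : Fact (Nat.Prime 2) := ⟨Nat.prime_two⟩
  obtain ⟨m, u, hB, -⟩ := exists_base h hA h2
  obtain ⟨n, hn, rfl⟩ := hB.exists_degree h
  let O := {K : Set W // ∃ t ∈ T, cset (im t u) = K}
  haveI : Finite O := Subtype.finite
  haveI := Fintype.ofFinite O
  choose τ hτ hτe using fun i : Fin (Fintype.card O) => ((Fintype.equivFin O).symm i).2
  have hb := fun i => hB.image h (hτ i)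
  have hperp : ∀ i j, i ≠ j → ∀ x ∈ cset (im (τ i) u), ∀ y ∈ cset (im (τ j) u), Bf P x y = 0 := by
    intro i j hij x hx y hy
    by_cases hxj : x ∈ cset (im (τ j) u)
    · exfalso
      refine hij ((Fintype.equivFin O).symm.injective (Subtype.ext ((hτe i).symm.trans (Eq.trans ?_ (hτe j)))))
      exact Set.Subset.antisymm ((hb j).hu.cset_subset h (hb j).hcl (hb i).hu hxj hx)
        ((hb i).hu.cset_subset h (hb i).hcl (hb j).hu hx hxj)
    · obtain ⟨a, b, hab, rfl⟩ := hx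
      exact (hb j).hcl _ ((hb i).hu.mem a b hab) hxj _ hy
  suffices hdec : Decomp 2 P T (Fintype.card O) (fun i => grp P (im (τ i) u)) by
    refine ⟨_, _, hdec, hdec.full h (fun t ht i => ?_) (fun D hD hDT => ?_)⟩
    · refine ⟨Fintype.equivFin O ⟨_, t * τ i, mul_mem ht (hτ i), rfl⟩, ?_⟩
      rw [grp_image h (hb i).hu (h.TP ht), grp, grp, hτe, Equiv.symm_apply_apply]
      all_goals congr 2
    · have h2D : Nat.card D = 2 := by
        by_contra hne
        have h1 : 1 < Nat.card D := by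
          haveI := (Subgroup.nontrivial_iff_ne_bot D).2 hD.A1
          exact Finite.one_lt_card
        obtain ⟨g, hg, L, S, x⟩ := h.exists_comp hD (by omega)
        obtain ⟨g', hg', hle⟩ := h.syl A₀ hA.AP hA.pgroup
        obtain ⟨t, ht, e⟩ := x.exists_eq_cj h (hA.conj (inv_mem hg'))
          (by rw [← cj_inv_cj g' T]; exact cj_mono' hle)
        have := congrArg (fun X : Subgroup (Γ W) => Nat.card X) e
        simp only [card_cj] at this
        omega
      obtain ⟨a, ha, ha1⟩ := (Subgroup.bot_or_exists_ne_one D).resolve_left hD.A1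
      have hta := h.tv_of_off hD h2D ha ha1
      obtain ⟨x, hx, hcx⟩ := hta.exists_cn
      have hax := h.tvOf_eq hta hx hcx
      have hDa : D ≤ Subgroup.zpowers a := by
        refine (Subgroup.eq_of_le_of_card_ge (by rw [Subgroup.zpowers_le]; exact ha) ?_).ge
        rw [h2D]
        haveI := (Subgroup.nontrivial_iff_ne_bot (Subgroup.zpowers a)).2
          (fun e => ha1 (Subgroup.zpowers_eq_bot.1 e))
        exact Finite.one_lt_card
      by_cases hmem : ∃ t ∈ T, x ∈ cset (im t u)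
      · obtain ⟨t, ht, hxt⟩ := hmem
        refine ⟨Fintype.equivFin O ⟨_, t, ht, rfl⟩, hDa.trans ?_⟩
        rw [Subgroup.zpowers_le, ← hax]
        refine Subgroup.subset_closure (Set.mem_image_of_mem _ ?_)
        rw [hτe, Equiv.symm_apply_apply]
        exact hxt
      exfalso
      push Not at hmem
      refine hB.not_le_M h fun e he => h.mem_M_of_normalizes (R := ⨆ s ∈ T, cj s D)
        (iSup₂_le fun s hs => cj_le hs hDT)
        (fun e' => hD.A1 (le_bot_iff.1 (by rw [← e']; exact le_iSup₂_of_le 1 (one_mem T) (le_of_eq cj_one.symm))))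
        (fun s hs => h.cj_orbit hs) (hB.grp_le_P h he) (cj_eq_of_commute fun c hc => ?_)
      have hle : (⨆ s ∈ T, cj s D) ≤ Subgroup.centralizer (grp P u : Set (Γ W)) := by
        refine iSup₂_le fun s hs => ?_
        refine (cj_mono' hDa).trans ?_
        rw [cj, MonoidHom.map_zpowers, Subgroup.zpowers_le, Subgroup.mem_centralizer_iff]
        intro g hg
        have hle' : grp P u ≤ Subgroup.centralizer ({s * a * s⁻¹} : Set (Γ W)) := by
          rw [grp, Subgroup.closure_le]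
          rintro _ ⟨_, ⟨i, j, hij, rfl⟩, rfl⟩
          refine Subgroup.mem_centralizer_singleton_iff.2 ?_
          have hy := hB.hu.mem i j hij
          have hsx := cn_smul (h.TP hs) hx
          have hnot : s • x ∉ cset u := fun e' =>
            hmem s⁻¹ (inv_mem hs) (mem_cset_im.2 (by rwa [inv_inv]))
          rw [← hax, ← h.tvOf_smul (h.TP hs) hx]
          exact ((h.commute_iff hy hsx).2 (hB.hcl _ hsx hnot _ ⟨i, j, hij, rfl⟩)).eq
        exact Subgroup.mem_centralizer_singleton_iff.1 (hle' hg)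
      exact (Subgroup.mem_centralizer_iff.1 (hle hc) e he)
  refine Decomp.of_complements h
    (Fintype.card_pos_iff.2 ⟨⟨_, 1, one_mem T, rfl⟩⟩) _ (fun i => (hb i).grp_le_P h)
    (fun i => (hb i).not_le_M h)
    (fun i j hij => (commute_grp h (hb i).hu (hb j).hu (hperp i j hij)).1)
    (fun i j => ⟨τ j * (τ i)⁻¹, mul_mem (hτ j) (inv_mem (hτ i)), ?_⟩)
    (fun i => span (im (τ i) u)) (fun i => (model h hn (hb i).hu (hb i).hcl).2.1)
    (fun i => (model h hn (hb i).hu (hb i).hcl).2.2)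
    (fun i j hij => (commute_grp h (hb i).hu (hb j).hu (hperp i j hij)).2)
    (fun i => Or.inr (model h hn (hb i).hu (hb i).hcl).1)
  rw [← grp_image h hB.hu (h.TP (hτ i)), ← cj_mul, inv_mul_cancel_right, grp_image h hB.hu (h.TP (hτ j))]

omit h in
/-- The decomposition of a `p`-minimal linear group with an offender whose Sylow group has a fixed
point moved by the group. -/
theorem MinPar.exists_decomp {p : ℕ} [Fact p.Prime] {P M T A₀ : Subgroup (Γ W)} (h : MinPar p P M T)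
    (hA : Off p P A₀) : ∃ (r : ℕ) (E : Fin r → Subgroup (Γ W)), Decomp p P T r E ∧ Full p P E := by
  by_cases hq : 2 < Nat.card A₀
  · exact h.exists_decomp_large hA hq
  have hp : p.Prime := Fact.out
  obtain ⟨k, hk⟩ := IsPGroup.iff_card.1 hA.pgroup
  have h1 : 1 < Nat.card A₀ := by
    haveI := (Subgroup.nontrivial_iff_ne_bot A₀).2 hA.A1
    exact Finite.one_lt_card
  have h2 : Nat.card A₀ = 2 := by omega
  rw [h2] at hk
  obtain rfl : p = 2 := by
    have hdvd : p ∣ 2 := by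
      rw [hk]
      refine dvd_pow_self p ?_
      rintro rfl
      simp at hk
    exact (Nat.prime_dvd_prime_iff_eq hp Nat.prime_two).1 hdvd
  exact exists_decomp_small h hA h2

end CfsgLib.LocalEven.MinPar
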