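import Cfsg.Agent.Lib.LocalEven.OffenderSL2.Embedded

/-!
Offenders in a `p`-minimal linear group whose Sylow group fixes a vector moved by the group: every
minimal offender generates, with a conjugate, a subgroup of the type of `SL₂`; in particular no
elementary abelian subgroup is more than an exact offender.
-/

set_option autoImplicit false

namespace CfsgLib.LocalEven.MinPar

open CfsgLib.LocalEven.PGV CfsgLib.LocalEven.OffenderSL2

universe v

variable {W : Type v} [AddCommGroup W] {p : ℕ} {P M T A B D : Subgroup (Γ W)}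

/-- A `p`-minimal group `P` of automorphisms with Sylow group `T` and its maximal overgroup `M`,
such that some fixed point of `T` is moved by `P`. -/
structure MinPar (p : ℕ) (P M T : Subgroup (Γ W)) : Prop where
  hp : ∀ w : W, p • w = 0
  hT : IsPGroup p T
  TM : T ≤ M
  MP : M ≤ P
  ne : M ≠ P
  uniq : ∀ H, T ≤ H → H ≤ P → H ≠ P → H ≤ M
  syl : ∀ R ≤ P, IsPGroup p R → ∃ g ∈ P, R ≤ cj g T
  sylM : ∀ R ≤ M, IsPGroup p R → ∃ m ∈ M, R ≤ cj m T
  core : ∀ R ≤ P, IsPGroup p R → (∀ g ∈ P, cj g R = R) → R = ⊥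
  vec : ∃ v ∈ fix T, v ∉ fix P

/-- A minimal offender in `P`. -/
structure Off (p : ℕ) (P A : Subgroup (Γ W)) : Prop where
  AP : A ≤ P
  el : Cfsg.IsElementaryAbelian p A
  A1 : A ≠ ⊥
  off : Nat.card W ≤ Nat.card A * Nat.card (fix A)
  strict : ∀ B ≤ A, B ≠ ⊥ → B ≠ A → Nat.card B * Nat.card (fix B) < Nat.card A * Nat.card (fix A)

/-! ### Conjugation -/

theorem el_cj (g : Γ W) (hA : Cfsg.IsElementaryAbelian p A) : Cfsg.IsElementaryAbelian p (cj g A) := by
  refine ⟨⟨⟨fun x y => Subtype.ext ?_⟩⟩, fun x hx => ?_⟩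
  · obtain ⟨b, hb, eb⟩ := x.2
    obtain ⟨c, hc, ec⟩ := y.2
    show (x : Γ W) * y = y * x
    rw [← eb, ← ec, ← map_mul, ← map_mul, (commute_of_mem hA hb hc).eq]
  · obtain ⟨b, hb, rfl⟩ := hx
    rw [← map_pow, hA.2 b hb, map_one]

theorem cj_inv_cj (g : Γ W) (A : Subgroup (Γ W)) : cj g⁻¹ (cj g A) = A := by
  rw [← cj_mul, inv_mul_cancel, cj_one]

theorem cj_cj_inv (g : Γ W) (A : Subgroup (Γ W)) : cj g (cj g⁻¹ A) = A := by
  rw [← cj_mul, mul_inv_cancel, cj_one]

theorem cj_eq_bot {g : Γ W} (h : cj g A = ⊥) : A = ⊥ := by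
  rw [← cj_inv_cj g A, h, cj, Subgroup.map_bot]

theorem Off.conj {g : Γ W} (hA : Off p P A) (hg : g ∈ P) : Off p P (cj g A) where
  AP := cj_le hg hA.AP
  el := el_cj g hA.el
  A1 := fun e => hA.A1 (cj_eq_bot e)
  off := by rw [card_cj, card_fix_cj']; exact hA.off
  strict := fun B hB hB1 hBA => by
    have hB' : cj g⁻¹ B ≤ A := by rw [← cj_inv_cj g A]; exact cj_mono' hB
    have := hA.strict _ hB' (fun e => hB1 (cj_eq_bot e)) (fun e => hBA (by rw [← e, cj_cj_inv]))
    rw [card_cj, card_fix_cj'] at this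
    rwa [card_cj, card_fix_cj']

theorem Off.pgroup (hA : Off p P A) : IsPGroup p A :=
  fun a => ⟨1, Subtype.ext (by simpa using hA.el.2 a a.2)⟩

theorem el_sup (hA : Cfsg.IsElementaryAbelian p A) (hB : Cfsg.IsElementaryAbelian p B)
    (hc : ∀ a ∈ A, ∀ b ∈ B, Commute a b) : Cfsg.IsElementaryAbelian p (A ⊔ B : Subgroup (Γ W)) := by
  set C := Subgroup.centralizer (A : Set (Γ W)) ⊓ Subgroup.centralizer (B : Set (Γ W)) with hC
  have h1 : A ⊔ B ≤ C := by
    refine sup_le (fun a ha => ⟨Subgroup.mem_centralizer_iff.2 fun z hz => ?_,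
      Subgroup.mem_centralizer_iff.2 fun z hz => ?_⟩) (fun b hb => ⟨Subgroup.mem_centralizer_iff.2 fun z hz => ?_,
      Subgroup.mem_centralizer_iff.2 fun z hz => ?_⟩)
    · exact (commute_of_mem hA hz ha).eq
    · exact (hc a ha z hz).eq.symm
    · exact (hc z hz b hb).eq
    · exact (commute_of_mem hB hz hb).eq
  have hab : ∀ x ∈ A ⊔ B, ∀ y ∈ A ⊔ B, Commute x y := by
    intro x hx y hy
    have h2 : A ⊔ B ≤ Subgroup.centralizer ({x} : Set (Γ W)) := by
      refine sup_le (fun a ha => ?_) (fun b hb => ?_) <;> rw [Subgroup.mem_centralizer_singleton_iff]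
      · exact Subgroup.mem_centralizer_iff.1 (h1 hx).1 a ha
      · exact Subgroup.mem_centralizer_iff.1 (h1 hx).2 b hb
    exact (Subgroup.mem_centralizer_singleton_iff.1 (h2 hy)).symm
  refine ⟨⟨⟨fun x y => Subtype.ext (hab x x.2 y y.2).eq⟩⟩, fun x hx => ?_⟩
  obtain ⟨a, ha, b, hb, rfl⟩ : ∃ a ∈ A, ∃ b ∈ B, a * b = x := by
    let S : Subgroup (Γ W) :=
      { carrier := {x | ∃ a ∈ A, ∃ b ∈ B, a * b = x}
        one_mem' := ⟨1, one_mem _, 1, one_mem _, one_mul 1⟩
        mul_mem' := by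
          rintro _ _ ⟨a, ha, b, hb, rfl⟩ ⟨a', ha', b', hb', rfl⟩
          refine ⟨a * a', mul_mem ha ha', b * b', mul_mem hb hb', ?_⟩
          rw [mul_assoc a, ← mul_assoc a', (hc a' ha' b hb).eq, mul_assoc b, ← mul_assoc]
        inv_mem' := by
          rintro _ ⟨a, ha, b, hb, rfl⟩
          refine ⟨a⁻¹, inv_mem ha, b⁻¹, inv_mem hb, ?_⟩
          rw [mul_inv_rev, (hc a⁻¹ (inv_mem ha) b⁻¹ (inv_mem hb)).eq] }
    exact (sup_le (fun a ha => ⟨a, ha, 1, one_mem _, mul_one a⟩)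
      (fun b hb => ⟨1, one_mem _, b, hb, one_mul b⟩) : A ⊔ B ≤ S) hx
  rw [(hc a ha b hb).mul_pow, hA.2 a ha, hB.2 b hb, one_mul]

/-- The elements of `U`'s chain stabiliser: trivial on `U` and on `W / U`. -/
def ch (U : AddSubgroup W) : Subgroup (Γ W) where
  carrier := {g | (∀ u ∈ U, g • u = u) ∧ ∀ w : W, g • w - w ∈ U}
  one_mem' := ⟨fun u _ => one_smul _ u, fun w => by simp⟩
  mul_mem' := fun {a b} ha hb => ⟨fun u hu => by rw [mul_smul, hb.1 u hu, ha.1 u hu], fun w => by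
    have e : (a * b) • w - w = (a • b • w - b • w) + (b • w - w) := by rw [mul_smul]; abel
    rw [e]; exact add_mem (ha.2 _) (hb.2 w)⟩
  inv_mem' := fun {a} ha => ⟨fun u hu => by rw [inv_smul_eq_iff, ha.1 u hu], fun w => by
    have e : a⁻¹ • w - w = -(a • a⁻¹ • w - a⁻¹ • w) := by rw [smul_inv_smul]; abel
    rw [e]; exact neg_mem (ha.2 _)⟩

theorem ch_add {U : AddSubgroup W} {a b : Γ W} (ha : a ∈ ch U) (hb : b ∈ ch U) (w : W) :
    (a * b) • w - w = (a • w - w) + (b • w - w) := by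
  have e := ha.1 _ (hb.2 w)
  rw [smul_sub, sub_eq_iff_eq_add] at e
  rw [mul_smul, e]
  abel

theorem ch_comm {U : AddSubgroup W} {a b : Γ W} (ha : a ∈ ch U) (hb : b ∈ ch U) : a * b = b * a :=
  ext_smul fun w => by
    have h1 := ch_add ha hb w
    rw [add_comm, ← ch_add hb ha w, sub_left_inj] at h1
    exact h1

theorem ch_el {U : AddSubgroup W} (hp : ∀ w : W, p • w = 0) :
    Cfsg.IsElementaryAbelian p (ch U : Subgroup (Γ W)) := by
  refine ⟨⟨⟨fun a b => Subtype.ext (ch_comm a.2 b.2)⟩⟩, fun a ha => ext_smul fun w => ?_⟩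
  have key : ∀ n : ℕ, a ^ n • w = w + n • (a • w - w) := by
    intro n
    induction n with
    | zero => simp
    | succ n ih =>
      rw [pow_succ', mul_smul, ih, smul_add, smul_nsmul', ha.1 _ (ha.2 w), succ_nsmul]
      abel
  rw [key, hp, add_zero, one_smul]

theorem le_fix_ch {U : AddSubgroup W} : U ≤ fix (ch U) := fun u hu _ hg => hg.1 u hu

theorem ch_cj {U : AddSubgroup W} {g x : Γ W} (hx : x ∈ ch U) (hg : ∀ u ∈ U, g • u ∈ U)
    (hg' : ∀ u ∈ U, g⁻¹ • u ∈ U) : g * x * g⁻¹ ∈ ch U := by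
  refine ⟨fun u hu => ?_, fun w => ?_⟩
  · rw [mul_smul, mul_smul, hx.1 _ (hg' u hu), smul_inv_smul]
  · have e : (g * x * g⁻¹) • w - w = g • (x • g⁻¹ • w - g⁻¹ • w) := by
      rw [smul_sub, smul_inv_smul, mul_smul, mul_smul]
    rw [e]; exact hg _ (hx.2 _)

theorem inv_smul_mem [Finite W] {U : AddSubgroup W} {g : Γ W} (hg : ∀ u ∈ U, g • u ∈ U) {u : W}
    (hu : u ∈ U) : g⁻¹ • u ∈ U := by
  haveI : Finite U := inferInstance
  obtain ⟨u', hu'⟩ := (Finite.injective_iff_surjective.1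
    (show Function.Injective (fun x : U => (⟨g • (x : W), hg x x.2⟩ : U)) from fun x y e =>
      Subtype.ext (MulAction.injective g (congrArg Subtype.val e)))) ⟨u, hu⟩
  have e : g • (u' : W) = u := congrArg Subtype.val hu'
  rw [← e, inv_smul_smul]
  exact u'.2

/-! ### Setups -/

theorem Setup.conj {L N S : Subgroup (Γ W)} (h : Setup p L N S A) (g : Γ W) :
    Setup p (cj g L) (cj g N) (cj g S) (cj g A) where
  hp := h.hp
  AT := cj_mono' h.AT
  TM := cj_mono' h.TM
  MP := cj_mono' h.MP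
  ne := fun e => h.ne (by rw [← cj_inv_cj g N, e, cj_inv_cj])
  el := el_cj g h.el
  hT := h.hT.map _
  syl := fun R hR hRp => by
    have hR' : cj g⁻¹ R ≤ N := by rw [← cj_inv_cj g N]; exact cj_mono' hR
    obtain ⟨m, hm, hle⟩ := h.syl _ hR' (hRp.map _)
    refine ⟨g * m * g⁻¹, conj_mem_cj hm, ?_⟩
    have h2 := cj_mono' (g := g) hle
    rw [cj_cj_inv, ← cj_mul] at h2
    rwa [← cj_mul, inv_mul_cancel_right]
  off := by rw [card_cj, card_fix_cj']; exact h.off
  strict := fun B hB hB1 hBA => by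
    have hB' : cj g⁻¹ B ≤ A := by rw [← cj_inv_cj g A]; exact cj_mono' hB
    have := h.strict _ hB' (fun e => hB1 (cj_eq_bot e)) (fun e => hBA (by rw [← e, cj_cj_inv]))
    rw [card_cj, card_fix_cj'] at this
    rwa [card_cj, card_fix_cj']
  vec := by
    obtain ⟨v, hv, hvP, hvM⟩ := h.vec
    refine ⟨g • v, ?_, fun e => hvP fun x hx => ?_, fun x hx hxv => ?_⟩
    · exact mem_fix_cj.2 (by rwa [inv_smul_smul])
    · have := e _ (conj_mem_cj (c := g) hx)
      rw [mul_smul, mul_smul, inv_smul_smul] at this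
      exact MulAction.injective g this
    · refine mem_cj.2 (hvM _ (mem_cj.1 hx) ?_)
      rw [mul_smul, mul_smul, hxv, inv_smul_smul]
  gen := fun x hx hxN => by
    have hx' : g⁻¹ * x * g ∈ L := mem_cj.1 hx
    have e := h.gen _ hx' fun e => hxN (mem_cj.2 e)
    rw [← cj_mul, show x * g = g * (g⁻¹ * x * g) by group, cj_mul]
    conv_rhs => rw [← e]
    exact (Subgroup.map_sup _ _ _).symm

/-! ### The basic theorem -/

namespace MinPar

variable (h : MinPar p P M T)
include h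

theorem TP : T ≤ P := h.TM.trans h.MP

theorem stab_le {v : W} (hv : v ∈ fix T) (hvP : v ∉ fix P) {g : Γ W} (hg : g ∈ P) (hgv : g • v = v) :
    g ∈ M := by
  refine h.uniq (P ⊓ MulAction.stabilizer (Γ W) v) (fun t ht => ⟨h.TP ht, hv t ht⟩) inf_le_left
    (fun e => hvP fun x hx => ?_) ⟨hg, hgv⟩
  have : x ∈ P ⊓ MulAction.stabilizer (Γ W) v := e.symm ▸ hx
  exact this.2

variable [Finite W] [Fact p.Prime]

/-- Some conjugate in `T` of a minimal offender is the root group of a subgroup of type `SL₂` whose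
intersection with `M` is maximal in it. -/
theorem exists_setup {A₀ : Subgroup (Γ W)} (hA : Off p P A₀) :
    ∃ g ∈ P, ∃ L T', L ≤ P ∧ cj g A₀ ≤ T ∧ Setup p L (L ⊓ M) T' (cj g A₀) := by
  classical
  haveI := Fintype.ofFinite (Subgroup (Γ W))
  obtain ⟨J, hJ⟩ : ∃ J : Subgroup (Γ W) → Subgroup (Γ W),
      ∀ X, J X = ⨆ g ∈ P, ⨆ (_ : cj g A₀ ≤ X), cj g A₀ := ⟨_, fun _ => rfl⟩
  have hJle : ∀ X, J X ≤ X := fun X => hJ X ▸ iSup₂_le fun g _ => iSup_le fun e => e
  have hmemJ : ∀ X, ∀ g ∈ P, cj g A₀ ≤ X → cj g A₀ ≤ J X := fun X g hg e =>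
    hJ X ▸ le_iSup₂_of_le g hg (le_iSup_of_le e le_rfl)
  have hJmono : ∀ X Y, X ≤ Y → J X ≤ J Y := fun X Y e =>
    (hJ X).le.trans (iSup₂_le fun g hg => iSup_le fun e' => hmemJ Y g hg (e'.trans e))
  have hJidem : ∀ X, J (J X) = J X := fun X => le_antisymm (hJle _)
    ((hJ X).le.trans (iSup₂_le fun g hg => iSup_le fun e => hmemJ _ g hg (hmemJ X g hg e)))
  have hJcj' : ∀ X, ∀ x ∈ P, cj x (J X) ≤ J (cj x X) := by
    intro X x hx
    rw [hJ X]
    simp only [cj, Subgroup.map_iSup]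
    refine iSup₂_le fun g hg => iSup_le fun e => ?_
    have := hmemJ (cj x X) (x * g) (mul_mem hx hg) (by rw [cj_mul]; exact cj_mono' e)
    rwa [cj_mul] at this
  have hJcj : ∀ X, ∀ x ∈ P, cj x (J X) = J (cj x X) := fun X x hx => le_antisymm (hJcj' X x hx) (by
    have := cj_mono' (g := x) (hJcj' (cj x X) x⁻¹ (inv_mem hx))
    rwa [cj_cj_inv, cj_inv_cj] at this)
  -- a largest such subgroup of `T` whose normaliser is not in `M`
  obtain ⟨Y, hY, hmax⟩ := (Finset.univ.filter fun Y : Subgroup (Γ W) =>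
      Y ≤ T ∧ J Y = Y ∧ ¬ P ⊓ Subgroup.normalizer (Y : Set (Γ W)) ≤ M).exists_max_image
    (fun Y => Nat.card Y) ⟨⊥, by
      simp only [Finset.mem_filter, Finset.mem_univ, true_and]
      refine ⟨bot_le, le_bot_iff.1 (hJle ⊥), ?_⟩
      rw [Subgroup.normalizer_eq_top, inf_top_eq]
      exact fun e => h.ne (le_antisymm h.MP e)⟩
  simp only [Finset.mem_filter, Finset.mem_univ, true_and] at hY hmax
  obtain ⟨hYT, hJY, hYN⟩ := hY
  -- a member in `T` normalising `Y` but not inside it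
  have hmem : ∀ x, x ∈ P → Y ≠ cj x Y → ∃ g ∈ P, cj g A₀ ≤ cj x Y ∧ ¬ cj g A₀ ≤ Y := by
    intro x hx hne
    by_contra hcon
    push Not at hcon
    refine hne (Subgroup.eq_of_le_of_card_ge ?_ (card_cj x Y).ge).symm
    conv_lhs => rw [← hJY, hJcj Y x hx, hJ]
    exact iSup₂_le fun g hg => iSup_le fun e => hcon g hg e
  obtain ⟨g, hg, hgT, hgY, hgN⟩ : ∃ g ∈ P, cj g A₀ ≤ T ∧ ¬ cj g A₀ ≤ Y ∧
      cj g A₀ ≤ Subgroup.normalizer (Y : Set (Γ W)) := by
    by_cases hTN : T ≤ Subgroup.normalizer (Y : Set (Γ W))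
    · obtain ⟨x, hx, hle⟩ := h.syl _ hA.AP hA.pgroup
      have hle' : cj x⁻¹ A₀ ≤ T := by
        rw [← cj_inv_cj x T]; exact cj_mono' hle
      have hJT : J T ≠ Y := by
        intro e
        refine hYN ?_
        refine h.uniq _ (le_inf h.TP hTN) inf_le_left fun e' => ?_
        have hbot := h.core Y (hYT.trans h.TP) (h.hT.to_le hYT) fun z hz => by
          have hzN : z ∈ Subgroup.normalizer (Y : Set (Γ W)) := (show z ∈ P ⊓ Subgroup.normalizer (Y : Set (Γ W)) by rw [e']; exact hz).2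
          ext w
          rw [mem_cj]
          exact ((Subgroup.mem_normalizer_iff.1 (inv_mem hzN) w).trans (by simp)).symm
        refine hA.A1 (cj_eq_bot (g := x⁻¹) (le_bot_iff.1 ?_))
        rw [← hbot, ← e]
        exact hmemJ T _ (inv_mem hx) hle'
      by_contra hcon
      push Not at hcon
      refine hJT (le_antisymm ((hJ T).le.trans (iSup₂_le fun g hg => iSup_le fun e => ?_))
        (hJY ▸ hJmono Y T hYT))
      by_contra hgY
      exact hcon g hg e hgY (e.trans hTN)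
    · have hlt : (Subgroup.normalizer (Y : Set (Γ W))).subgroupOf T < ⊤ :=
        lt_top_iff_ne_top.2 fun e => hTN (Subgroup.subgroupOf_eq_top.1 e)
      haveI : Group.IsNilpotent T := h.hT.isNilpotent
      obtain ⟨⟨t, ht⟩, htN, htn⟩ :=
        SetLike.exists_of_lt (Group.normalizerCondition_of_isNilpotent _ hlt)
      have hne : Y ≠ cj t Y := by
        intro e
        refine htn (show t ∈ Subgroup.normalizer (Y : Set (Γ W)) from Subgroup.mem_normalizer_iff.2 fun w => ?_)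
        constructor
        · intro hw
          rw [e]
          exact conj_mem_cj hw
        · intro hw
          rw [e] at hw
          have := mem_cj.1 hw
          rwa [show t⁻¹ * (t * w * t⁻¹) * t = w by group] at this
      obtain ⟨g, hg, hle, hgY⟩ := hmem t (h.TP ht) hne
      refine ⟨g, hg, hle.trans (cj_le ht hYT), hgY, fun z hz => ?_⟩
      obtain ⟨y, hy, rfl⟩ := hle hz
      have h1 : (⟨y, hYT hy⟩ : T) ∈ (Subgroup.normalizer (Y : Set (Γ W))).subgroupOf T :=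
        Subgroup.le_normalizer hy
      exact (Subgroup.mem_normalizer_iff.1 htN ⟨y, hYT hy⟩).1 h1
  set B := cj g A₀ with hBdef
  have hBM : B ≤ M := hgT.trans h.TM
  set H := P ⊓ Subgroup.normalizer (Y : Set (Γ W)) with hH
  obtain ⟨L, hL, hLmin⟩ := (Finset.univ.filter fun L : Subgroup (Γ W) => B ≤ L ∧ L ≤ H ∧ ¬ L ≤ M).exists_min_image
    (fun L => Nat.card L) ⟨H, Finset.mem_filter.2 ⟨Finset.mem_univ _, le_inf (cj_le hg hA.AP) hgN, le_rfl, hYN⟩⟩
  simp only [Finset.mem_filter, Finset.mem_univ, true_and] at hL hLmin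
  obtain ⟨hBL, hLH, hLM⟩ := hL
  have hLP : L ≤ P := hLH.trans inf_le_left
  have hmin : ∀ L' ≤ L, B ≤ L' → L' ≠ L → L' ≤ L ⊓ M := by
    intro L' h1 h2 h3
    refine le_inf h1 ?_
    by_contra h4
    exact h3 (Subgroup.eq_of_le_of_card_ge h1 (hLmin L' ⟨h2, h1.trans hLH, h4⟩))
  have hBLM : B ≤ L ⊓ M := le_inf hBL hBM
  have hBp : IsPGroup p B := (hA.conj hg).pgroup
  obtain ⟨S₀, hS₀⟩ := (hBp.comap_of_injective (L ⊓ M).subtype (L ⊓ M).subtype_injective).exists_le_sylow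
  set TL := (S₀ : Subgroup ↥(L ⊓ M)).map (L ⊓ M).subtype with hTL
  have hBTL : B ≤ TL := fun b hb => ⟨⟨b, hBLM hb⟩, hS₀ hb, rfl⟩
  have hTLle : TL ≤ L ⊓ M := Subgroup.map_subtype_le _
  have hTLp : IsPGroup p TL := S₀.2.map _
  have hgen : ∀ x ∈ L, x ∉ M → ¬ cj x B ≤ M := by
    intro x hx hxM hle
    have h1 : cj x⁻¹ (L ⊓ M) ≠ L := fun e => hLM (by
      have e' : L ⊓ M = cj x L := (cj_cj_inv x (L ⊓ M)).symm.trans (congrArg (cj x) e)
      rw [cj_eq_self hx] at e'
      exact e'.ge.trans inf_le_right)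
    have h2 : cj x⁻¹ (L ⊓ M) = L ⊓ M := by
      refine Subgroup.eq_of_le_of_card_ge (hmin _ (cj_le (inv_mem hx) inf_le_left) ?_ h1) (card_cj _ _).ge
      rw [← cj_inv_cj x B]
      exact cj_mono' (le_inf (cj_le hx hBL) hle)
    -- Frattini
    have h3 : cj x⁻¹ TL ≤ L ⊓ M := (cj_mono' hTLle).trans h2.le
    obtain ⟨Q, hQ⟩ := ((hTLp.map (MulAut.conj x⁻¹).toMonoidHom).comap_of_injective (L ⊓ M).subtype
      (L ⊓ M).subtype_injective).exists_le_sylow
    obtain ⟨m, hm⟩ := MulAction.exists_smul_eq ↥(L ⊓ M) S₀ Q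
    set y := x * (m : Γ W) with hy
    have hyTL : cj y TL = TL := by
      refine (Subgroup.eq_of_le_of_card_ge ?_ (card_cj y TL).le).symm
      intro z hz
      have hz1 : x⁻¹ * z * x ∈ cj x⁻¹ TL := mem_cj.2 (by simpa [mul_assoc] using hz)
      have hz2 : (⟨_, h3 hz1⟩ : ↥(L ⊓ M)) ∈ (Q : Subgroup ↥(L ⊓ M)) := hQ hz1
      rw [← hm, Sylow.smul_def, Sylow.pointwise_smul_def, Subgroup.mem_pointwise_smul_iff_inv_smul_mem] at hz2
      refine mem_cj.2 ⟨_, hz2, ?_⟩
      simp [MulAut.smul_def, hy, mul_assoc]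
    have hyM : y ∉ M := fun e => hxM (by simpa [hy] using mul_mem e (inv_mem m.2.2))
    have hyL : y ∈ L := mul_mem hx m.2.1
    -- `y` normalises the join with `Y`
    set Z := TL ⊔ Y with hZdef
    have hTLN : TL ≤ Subgroup.normalizer (Y : Set (Γ W)) := hTLle.trans (inf_le_left.trans (hLH.trans inf_le_right))
    have hZp : IsPGroup p Z := hTLp.to_sup_of_normal_right' (h.hT.to_le hYT) hTLN
    have hZM : Z ≤ M := sup_le (hTLle.trans inf_le_right) (hYT.trans h.TM)
    have hyZ : cj y Z = Z := by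
      rw [hZdef, cj, Subgroup.map_sup]
      congr 1
      have hyN : y ∈ Subgroup.normalizer (Y : Set (Γ W)) := (hLH hyL).2
      ext w
      show w ∈ cj y Y ↔ _
      rw [mem_cj]
      exact ((Subgroup.mem_normalizer_iff.1 (inv_mem hyN) w).trans (by simp)).symm
    obtain ⟨m', hm', hZT⟩ := h.sylM Z hZM hZp
    have hm'P := h.MP hm'
    set Y' := J (cj m'⁻¹ Z) with hY'
    have hY'T : Y' ≤ T := (hJle _).trans (by rw [← cj_inv_cj m' T]; exact cj_mono' hZT)
    have hcard : Nat.card Y < Nat.card Y' := by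
      rw [hY', ← hJcj Z _ (inv_mem hm'P), card_cj]
      by_contra hc
      have e : Y = J Z := Subgroup.eq_of_le_of_card_ge (hJY ▸ hJmono Y Z le_sup_right) (not_lt.1 hc)
      exact hgY (e ▸ hmemJ Z g hg (hBTL.trans le_sup_left))
    have hN' : P ⊓ Subgroup.normalizer (Y' : Set (Γ W)) ≤ M := by
      by_contra hc
      exact absurd (hmax Y' ⟨hY'T, hY'.symm ▸ hJidem _, hc⟩) (not_le.2 hcard)
    have hy' : m'⁻¹ * y * m' ∈ M := by
      have hyP : m'⁻¹ * y * m' ∈ P := mul_mem (mul_mem (inv_mem hm'P) (hLP hyL)) hm'P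
      refine hN' ⟨hyP, ?_⟩
      have e : cj (m'⁻¹ * y * m') Y' = Y' := by
        rw [hY', hJcj _ _ hyP, ← cj_mul, mul_inv_cancel_right, cj_mul, hyZ]
      refine Subgroup.mem_normalizer_iff.2 fun w => ⟨fun hw => ?_, fun hw => ?_⟩
      · have := conj_mem_cj (c := m'⁻¹ * y * m') hw
        rwa [e] at this
      · rw [← e] at hw
        have := mem_cj.1 hw
        simpa [mul_assoc] using this
    refine hyM ?_
    simpa [mul_assoc] using mul_mem (mul_mem hm' hy') (inv_mem hm')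
  refine ⟨g, hg, L, TL, hLP, hgT, ⟨h.hp, hBTL, hTLle, inf_le_left, fun e => hLM (e ▸ inf_le_right),
    (hA.conj hg).el, hTLp, fun R hR hRp => ?_, (hA.conj hg).off, (hA.conj hg).strict, ?_, fun x hx hxM => ?_⟩⟩
  · obtain ⟨Q, hQ⟩ := (hRp.comap_of_injective (L ⊓ M).subtype (L ⊓ M).subtype_injective).exists_le_sylow
    obtain ⟨m, hm⟩ := MulAction.exists_smul_eq ↥(L ⊓ M) S₀ Q
    refine ⟨m, m.2, fun z hz => ?_⟩
    have hz2 : (⟨z, hR hz⟩ : ↥(L ⊓ M)) ∈ (Q : Subgroup ↥(L ⊓ M)) := hQ hz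
    rw [← hm, Sylow.smul_def, Sylow.pointwise_smul_def, Subgroup.mem_pointwise_smul_iff_inv_smul_mem] at hz2
    refine mem_cj.2 ⟨_, hz2, ?_⟩
    simp [MulAut.smul_def, mul_assoc]
  · obtain ⟨v, hvT, hvP⟩ := h.vec
    obtain ⟨m, hm, hTLT⟩ := h.sylM TL (hTLle.trans inf_le_right) hTLp
    have hmP := h.MP hm
    have hstab : ∀ y ∈ P, y • m • v = m • v → y ∈ M := by
      intro y hy hyv
      have h1 := h.stab_le hvT hvP (g := m⁻¹ * y * m) (mul_mem (mul_mem (inv_mem hmP) hy) hmP)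
        (by rw [mul_smul, mul_smul, hyv, inv_smul_smul])
      simpa [mul_assoc] using mul_mem (mul_mem hm h1) (inv_mem hm)
    refine ⟨m • v, fix_mono hTLT (smul_mem_fix_cj hvT), fun e => ?_, fun y hy e => ⟨hy, hstab y (hLP hy) e⟩⟩
    exact hLM fun y hy => hstab y (hLP hy) (e y hy)
  · have hxM' : x ∉ M := fun e => hxM ⟨hx, e⟩
    by_contra hne
    have := hmin _ (sup_le hBL (cj_le hx hBL)) le_sup_left hne
    exact hgen x hx hxM' ((le_sup_right.trans this).trans inf_le_right)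

/-- A minimal offender is exact and each of its nontrivial elements has the same fixed space. -/
theorem exact_and_fixElem (hA : Off p P A) :
    Nat.card A * Nat.card (fix A) = Nat.card W ∧
      ∀ a ∈ A, a ≠ 1 → ∀ w : W, a • w = w → w ∈ fix A := by
  obtain ⟨g, hg, L, T', hLP, -, hS⟩ := h.exists_setup hA
  obtain ⟨k, hk, hkM⟩ := hS.exists_outside
  obtain ⟨hc, hsup⟩ := hS.cards hk hkM
  have h2 := addCard_mul (fix (cj g A)) (fix (cj k (cj g A)))
  rw [hS.fix_inf hk hkM, card_fix_cj' k, hsup, AddSubgroup.card_top] at h2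
  constructor
  · rw [← card_cj g A, ← card_fix_cj' g]
    refine Nat.eq_of_mul_eq_mul_right (Nat.card_pos : 0 < Nat.card (fix L)) ?_
    rw [← h2]
    conv_rhs => rw [hc]
    conv_lhs => rw [hc]
    ring
  · intro a ha ha1 w hw
    set b := g * a * g⁻¹ with hb
    have hbA : b ∈ cj g A := conj_mem_cj ha
    have hb1 : b ≠ 1 := fun e => ha1 (conj_eq_one_iff.1 e)
    obtain ⟨n, hn, l, hl, hnl⟩ := AddSubgroup.mem_sup.1
      (hsup.symm ▸ AddSubgroup.mem_top (g • w) : g • w ∈ fix (cj g A) ⊔ fix (cj k (cj g A)))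
    have hbw : b • (g • w) = g • w := by rw [hb, mul_smul, mul_smul, inv_smul_smul, hw]
    have hlA : l ∈ fix (cj g A) := by
      by_contra hlA
      refine hb1 (hS.eq_one_of_sub_mem hk hkM hbA hl (fun e => hlA (hS.fix_le_self e)) ?_)
      rw [← hnl, smul_add, hn b hbA, add_right_inj] at hbw
      rw [hbw, sub_self]
      exact zero_mem _
    have h3 : g • w ∈ fix (cj g A) := hnl ▸ add_mem hn hlA
    have h4 := mem_fix_cj.1 h3
    rwa [inv_smul_smul] at h4

theorem exact (hA : Off p P A) : Nat.card A * Nat.card (fix A) = Nat.card W := (h.exact_and_fixElem hA).1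

theorem fixElem (hA : Off p P A) {a : Γ W} (ha : a ∈ A) (ha1 : a ≠ 1) {w : W} (hw : a • w = w) :
    w ∈ fix A :=
  (h.exact_and_fixElem hA).2 a ha ha1 w hw

/-- No elementary abelian subgroup is more than an exact offender. -/
theorem card_le (hD : D ≤ P) (hel : Cfsg.IsElementaryAbelian p D) :
    Nat.card D * Nat.card (fix D) ≤ Nat.card W := by
  classical
  haveI := Fintype.ofFinite (Subgroup (Γ W))
  by_contra hc
  obtain ⟨A, hA, hmin⟩ := (Finset.univ.filter fun A : Subgroup (Γ W) =>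
      A ≤ D ∧ Nat.card W < Nat.card A * Nat.card (fix A)).exists_min_image (fun A => Nat.card A)
    ⟨D, by simp [not_le.1 hc]⟩
  simp only [Finset.mem_filter, Finset.mem_univ, true_and] at hA hmin
  have hA1 : A ≠ ⊥ := by
    rintro rfl
    rw [Subgroup.card_bot, one_mul] at hA
    exact absurd (Nat.card_le_card_of_injective _ Subtype.val_injective : Nat.card _ ≤ Nat.card W) (not_le.2 hA.2)
  have hoff : Off p P A := ⟨hA.1.trans hD, el_mono hel hA.1, hA1, hA.2.le, fun B hB _ hBA => by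
    refine lt_of_le_of_lt ?_ hA.2
    by_contra hlt
    exact hBA (Subgroup.eq_of_le_of_card_ge hB (hmin B ⟨hB.trans hA.1, not_le.1 hlt⟩))⟩
  exact absurd (h.exact hoff) (ne_of_gt hA.2)

theorem best (hA : Off p P A) : Best A := fun B hB =>
  (h.card_le (hB.trans hA.AP) (el_mono hA.el hB)).trans (h.exact hA).ge

theorem quadratic (hA : Off p P A) {a : Γ W} (ha : a ∈ A) (w : W) : a • w - w ∈ fix A := by
  obtain ⟨e, -, hne⟩ := quad_spec h.hp hA.el (h.best hA) hA.A1
  have hq : quad A = A := by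
    by_contra hne'
    exact absurd e (hA.strict _ (quad_le A) hne hne').ne
  exact fun b hb => quad_fixes (hq.symm ▸ hb) ha (com_mem a w)

theorem le_ch (hA : Off p P A) : A ≤ ch (fix A) := fun _ ha => ⟨fun _ hu => hu _ ha, h.quadratic hA ha⟩

theorem eq_ch (hA : Off p P A) : A = P ⊓ ch (fix A) := by
  refine Subgroup.eq_of_le_of_card_ge (le_inf hA.AP (h.le_ch hA)) ?_
  have h1 := h.card_le (D := P ⊓ ch (fix A)) inf_le_left (el_mono (ch_el h.hp) inf_le_right)
  refine Nat.le_of_mul_le_mul_right ?_ (Nat.card_pos : 0 < Nat.card (fix A))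
  rw [h.exact hA]
  exact le_trans (Nat.mul_le_mul_left _ (AddSubgroup.card_le_of_le
    (le_fix_ch.trans (fix_mono inf_le_right)))) h1

theorem eq_of_fix_eq (hA : Off p P A) (hB : Off p P B) (e : fix A = fix B) : A = B := by
  rw [h.eq_ch hA, h.eq_ch hB, e]

theorem inf_eq_bot (hA : Off p P A) (hB : Off p P B) (hne : A ≠ B) : A ⊓ B = ⊥ := by
  refine (Subgroup.eq_bot_iff_forall _).2 fun a ha => by_contra fun ha1 => hne (h.eq_of_fix_eq hA hB ?_)
  exact le_antisymm (fun w hw => h.fixElem hB ha.2 ha1 (hw a ha.1))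
    fun w hw => h.fixElem hA ha.1 ha1 (hw a ha.2)

theorem cj_eq_of_smul_fix (hA : Off p P A) {g : Γ W} (hg : g ∈ P) (hgA : ∀ w ∈ fix A, g • w ∈ fix A) :
    cj g A = A := by
  refine h.eq_of_fix_eq (hA.conj hg) hA (AddSubgroup.eq_of_le_of_card_ge ?_ (card_fix_cj' g).ge)
  intro w hw
  have := hgA _ (mem_fix_cj.1 hw)
  rwa [smul_inv_smul] at this

/-- Two commuting minimal offenders have fixed spaces spanning `W`. -/
theorem sup_fix_eq_top (hA : Off p P A) (hB : Off p P B) (hne : A ≠ B)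
    (hc : ∀ a ∈ A, ∀ b ∈ B, Commute a b) : fix A ⊔ fix B = ⊤ := by
  refine AddSubgroup.eq_top_of_le_card _ ?_
  have h1 := h.card_le (D := A ⊔ B) (sup_le hA.AP hB.AP) (el_sup hA.el hB.el hc)
  have h2 := card_mul_commute hc
  rw [h.inf_eq_bot hA hB hne, Subgroup.card_bot, mul_one] at h2
  rw [← h2, fix_sup] at h1
  have h3 := addCard_mul (fix A) (fix B)
  refine Nat.le_of_mul_le_mul_right ?_ (Nat.card_pos : 0 < Nat.card W)
  calc Nat.card W * Nat.card W
      = (Nat.card A * Nat.card B) * (Nat.card (fix A) * Nat.card (fix B)) := by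
        conv_lhs => arg 1; rw [← h.exact hA]
        conv_lhs => arg 2; rw [← h.exact hB]
        ring
    _ = Nat.card ↥(fix A ⊔ fix B) * (Nat.card A * Nat.card B * Nat.card ↥(fix A ⊓ fix B)) := by
        rw [h3]; ring
    _ ≤ _ := Nat.mul_le_mul_left _ h1

/-- Commutators of one of two commuting minimal offenders are fixed by the other. -/
theorem sub_mem_of_commute (hA : Off p P A) (hB : Off p P B) (hne : A ≠ B)
    (hc : ∀ a ∈ A, ∀ b ∈ B, Commute a b) {a : Γ W} (ha : a ∈ A) (w : W) : a • w - w ∈ fix B := by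
  obtain ⟨n, hn, n', hn', rfl⟩ :=
    AddSubgroup.mem_sup.1 (h.sup_fix_eq_top hA hB hne hc ▸ AddSubgroup.mem_top w)
  intro b hb
  rw [smul_add, hn a ha, add_sub_add_left_eq_sub, smul_sub, ← mul_smul, ← (hc a ha b hb).eq, mul_smul,
    hn' b hb]

end MinPar

end CfsgLib.LocalEven.MinPar
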