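import Cfsg.Agent.Lib.LocalEven.MinPar.Commute

/-!
The torus of the subgroup of type `SL₂` of a minimal offender `B`: another minimal offender
commuting with `B` centralises the whole subgroup.
-/

set_option autoImplicit false

namespace CfsgLib.LocalEven.MinPar

open CfsgLib.LocalEven.PGV CfsgLib.LocalEven.OffenderSL2 CfsgLib.LocalEven.NaturalRecognition
open scoped MatrixGroups

universe v

variable {W : Type v} [AddCommGroup W]

/-- The diagonal matrices of determinant one. -/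
def dia {F : Type*} [Field F] : Fˣ →* SL(2, F) where
  toFun u := ⟨!![(u : F), 0; 0, (↑u⁻¹ : F)], by simp [Matrix.det_fin_two]⟩
  map_one' := by ext i j; fin_cases i <;> fin_cases j <;> simp
  map_mul' x y := by
    apply Subtype.ext
    show !![((x * y : Fˣ) : F), 0; 0, (↑(x * y)⁻¹ : F)] =
      !![(x : F), 0; 0, (↑x⁻¹ : F)] * !![(y : F), 0; 0, (↑y⁻¹ : F)]
    ext i j
    fin_cases i <;> fin_cases j <;> simp [Matrix.mul_apply, Fin.sum_univ_two, mul_comm]

theorem dia_coe {F : Type*} [Field F] (u : Fˣ) : (dia u).1 = !![(u : F), 0; 0, (↑u⁻¹ : F)] := rfl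

theorem dia_mulVec {F : Type*} [Field F] (u : Fˣ) (x : Fin 2 → F) :
    (dia u).1.mulVec x = ![(u : F) * x 0, (↑u⁻¹ : F) * x 1] := by
  ext i
  fin_cases i <;> simp [dia_coe, Matrix.mulVec, dotProduct, Fin.sum_univ_two]

/-- Coordinates for a setup, with the offender in standard position. -/
structure Frame (p : ℕ) (L A : Subgroup (Γ W)) where
  F : Type v
  fld : Field F
  fin : Fintype F
  ρ : ↥L ≃* SL(2, F)
  ψ : W →+ (Fin 2 → F)
  card : Fintype.card F = Nat.card A
  surj : Function.Surjective ψ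
  ker : ∀ w, ψ w = 0 ↔ w ∈ fix L
  compat : ∀ (g : L) (w : W), ψ ((g : Γ W) • w) = (ρ g).1.mulVec (ψ w)
  fix_eq : fix A = comA A ⊔ fix L
  mem_fix : ∀ w, w ∈ fix A ↔ ψ w 1 = 0
  rho_up : ∀ g : L, (g : Γ W) ∈ A → ∃ t, ρ g = up t
  up_surj : ∀ t, ∃ g : L, (g : Γ W) ∈ A ∧ ρ g = up t

attribute [instance] Frame.fld Frame.fin

variable {p : ℕ} {L N S A : Subgroup (Γ W)}

theorem exists_frame [Finite W] [Fact p.Prime] (hS : Setup p L N S A) : Nonempty (Frame p L A) := by
  obtain ⟨F, iF, fF, ρ, ψ, h1, h2, h3, h4, h5, h6, h7, h8⟩ := hS.exists_coords'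
  exact ⟨⟨F, iF, fF, ρ, ψ, h1, h2, h3, h4, h5, h6, h7, h8⟩⟩

namespace Frame

variable (C : Frame p L A)

/-- A generator of the multiplicative group of the field. -/
noncomputable def lam : C.Fˣ := Classical.choose (IsCyclic.exists_generator (α := C.Fˣ))

theorem lam_gen (u : C.Fˣ) : u ∈ Subgroup.zpowers C.lam :=
  Classical.choose_spec (IsCyclic.exists_generator (α := C.Fˣ)) u

theorem exists_pow (u : C.Fˣ) : ∃ i : ℕ, C.lam ^ i = u :=
  Submonoid.mem_powers_iff _ _ |>.1 (mem_powers_iff_mem_zpowers.2 (C.lam_gen u))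

/-- The torus element. -/
noncomputable def d : Γ W := (C.ρ.symm (dia C.lam) : L)

/-- The Weyl element. -/
noncomputable def n : Γ W := (C.ρ.symm (wel 1) : L)

theorem d_mem : C.d ∈ L := (C.ρ.symm (dia C.lam)).2

theorem n_mem : C.n ∈ L := (C.ρ.symm (wel 1)).2

theorem psi_d (w : W) : C.ψ (C.d • w) = ![(C.lam : C.F) * C.ψ w 0, (↑C.lam⁻¹ : C.F) * C.ψ w 1] := by
  show C.ψ (((C.ρ.symm (dia C.lam)) : Γ W) • w) = _
  rw [C.compat, MulEquiv.apply_symm_apply, dia_mulVec]

theorem psi_d_pow (w : W) (i : ℕ) :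
    C.ψ (C.d ^ i • w) = ![(C.lam : C.F) ^ i * C.ψ w 0, (↑C.lam⁻¹ : C.F) ^ i * C.ψ w 1] := by
  induction i with
  | zero => ext j; fin_cases j <;> simp
  | succ i ih =>
    rw [pow_succ', mul_smul, C.psi_d, ih]
    ext j
    fin_cases j <;> simp [pow_succ] <;> ring

theorem psi_n (w : W) : C.ψ (C.n • w) = ![C.ψ w 1, -C.ψ w 0] := by
  show C.ψ (((C.ρ.symm (wel 1)) : Γ W) • w) = _
  rw [C.compat, MulEquiv.apply_symm_apply, wel_coe one_ne_zero]
  ext j
  fin_cases j <;> simp [Matrix.mulVec, dotProduct, Fin.sum_univ_two]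

theorem smul_fix {w : W} (hw : w ∈ fix A) : C.d • w ∈ fix A := by
  rw [C.mem_fix] at hw ⊢
  rw [C.psi_d]
  simp [hw]

theorem lam_pow : C.lam ^ (Fintype.card C.F - 1) = 1 :=
  Units.ext (by rw [Units.val_pow_eq_pow_val]; exact FiniteField.pow_card_sub_one_eq_one _ C.lam.ne_zero)

theorem d_pow_card : C.d ^ (Fintype.card C.F - 1) = 1 := by
  rw [d, ← Subgroup.coe_pow, ← map_pow, ← map_pow, C.lam_pow, map_one, map_one, OneMemClass.coe_one]

theorem n_conj : C.n * C.d * C.n⁻¹ = C.d⁻¹ := by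
  rw [n, d, ← Subgroup.coe_inv, ← Subgroup.coe_mul, ← Subgroup.coe_mul, ← Subgroup.coe_inv]
  congr 1
  apply C.ρ.injective
  rw [map_mul, map_mul, map_inv, map_inv, MulEquiv.apply_symm_apply, MulEquiv.apply_symm_apply,
    mul_inv_eq_iff_eq_mul, ← map_inv]
  ext i j
  rw [Matrix.SpecialLinearGroup.coe_mul, Matrix.SpecialLinearGroup.coe_mul, wel_coe one_ne_zero]
  fin_cases i <;> fin_cases j <;> simp [dia_coe, Matrix.mul_apply, Fin.sum_univ_two]

variable [Finite W] [Fact p.Prime] (hS : Setup p L N S A)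
include hS

theorem n_not_mem : C.n ∉ N := by
  intro hn
  obtain ⟨v, hvT, hvP, -⟩ := hS.vec
  have hv : v ∈ fix A := fix_mono hS.AT hvT
  have h1 := (C.mem_fix _).1 (hS.smul_mem_fix hn hv)
  rw [C.psi_n] at h1
  refine hvP ((C.ker v).1 ?_)
  ext i
  fin_cases i
  · simpa using h1
  · simpa using (C.mem_fix v).1 hv

theorem coprime : (Fintype.card C.F - 1).Coprime p := by
  obtain ⟨k, hk⟩ := IsPGroup.iff_card.1 (hS.hT.to_le hS.AT)
  have hk0 : k ≠ 0 := by
    rintro rfl
    rw [pow_zero, ← C.card] at hk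
    exact (Fintype.one_lt_card (α := C.F)).ne' hk
  rw [C.card, hk]
  have hp : p.Prime := Fact.out
  refine ((hp.coprime_iff_not_dvd).2 fun hdvd => ?_).symm
  have h1 : p ∣ p ^ k := dvd_pow_self p hk0
  have h2 := Nat.dvd_sub h1 hdvd
  rw [Nat.sub_sub_self (Nat.one_le_pow _ _ hp.pos)] at h2
  exact hp.ne_one (Nat.dvd_one.1 h2)

variable (hq : 2 < Nat.card A)
include hq

theorem lam_ne_one : (C.lam : C.F) ≠ 1 := by
  classical
  intro e
  have h1 : C.lam = 1 := Units.ext e
  have h2 : (Finset.univ : Finset C.F) ⊆ {0, 1} := fun x _ => by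
    by_cases hx : x = 0
    · simp [hx]
    · obtain ⟨i, hi⟩ := C.exists_pow (Units.mk0 x hx)
      rw [h1, one_pow] at hi
      have : x = 1 := by simpa using (congrArg Units.val hi).symm
      simp [this]
  have h3 := (Finset.card_le_card h2).trans Finset.card_le_two
  rw [Finset.card_univ, C.card] at h3
  omega

omit [Finite W] [Fact p.Prime] hS in
theorem d_fix' (hl : (C.lam : C.F) ≠ 1) {w : W} (hw : C.d • w = w) : w ∈ fix L := by
  rw [← C.ker]
  have e := C.psi_d w
  rw [hw] at e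
  ext i
  fin_cases i
  · have := congrFun e 0
    simp at this
    rcases mul_left_eq_self₀.1 (this.symm) with h | h
    · exact absurd h hl
    · exact h
  · have := congrFun e 1
    simp at this
    have h2 : (C.lam : C.F) * C.ψ w 1 = C.ψ w 1 := by
      conv_lhs => rw [this]
      simp
    rcases mul_left_eq_self₀.1 h2 with h | h
    · exact absurd h hl
    · exact h

theorem d_fix {w : W} (hw : C.d • w = w) : w ∈ fix L := C.d_fix' hq (C.lam_ne_one hS hq) hw

theorem com_inf : com C.d ⊓ fix L = ⊥ := by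
  refine eq_bot_iff.2 fun w hw => ?_
  exact AddSubgroup.mem_bot.2 (eq_zero_of_fixed_com hS.hp C.d_pow_card (C.coprime hS) hw.1 (hw.2 _ C.d_mem))

theorem com_sup : com C.d ⊔ fix L = ⊤ := by
  refine AddSubgroup.eq_top_of_le_card _ ?_
  have h1 := addCard_mul (com C.d) (fix L)
  rw [C.com_inf hS hq, AddSubgroup.card_bot, mul_one] at h1
  rw [← h1, AddSubgroup.card_eq_card_quotient_mul_card_addSubgroup (der C.d).ker]
  have hk : (der C.d).ker = fix L := by
    ext w
    rw [AddMonoidHom.mem_ker]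
    show C.d • w - w = 0 ↔ _
    rw [sub_eq_zero]
    exact ⟨C.d_fix hS hq, fun e => e _ C.d_mem⟩
  rw [hk]
  refine Nat.mul_le_mul_right _ (le_of_eq ?_)
  rw [← hk]
  exact Nat.card_congr (QuotientAddGroup.quotientKerEquivRange (der C.d)).toEquiv

/-- The torus moves a non-central fixed point of `A` through all of the line. -/
theorem exists_line {v : W} (hv : v ∈ fix A) (hvL : v ∉ fix L) {x : W} (hx : x ∈ com C.d) (hxA : x ∈ fix A)
    (hx0 : x ≠ 0) : ∃ i : ℕ, x = C.d ^ i • (C.d • v - v) := by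
  have hv1 := (C.mem_fix v).1 hv
  have hx1 := (C.mem_fix x).1 hxA
  have hinf := C.com_inf hS hq
  have hv0 : C.ψ v 0 ≠ 0 := fun e => hvL ((C.ker v).1 (by ext i; fin_cases i; exacts [e, hv1]))
  have hx0' : C.ψ x 0 ≠ 0 := fun e => hx0 (by
    have : x ∈ com C.d ⊓ fix L := ⟨hx, (C.ker x).1 (by ext i; fin_cases i; exacts [e, hx1])⟩
    rwa [hinf, AddSubgroup.mem_bot] at this)
  have hl : (C.lam : C.F) - 1 ≠ 0 := sub_ne_zero.2 (C.lam_ne_one hS hq)
  obtain ⟨i, hi⟩ := C.exists_pow (Units.mk0 (C.ψ x 0 / (((C.lam : C.F) - 1) * C.ψ v 0))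
    (div_ne_zero hx0' (mul_ne_zero hl hv0)))
  refine ⟨i, ?_⟩
  have hi' : (C.lam : C.F) ^ i = C.ψ x 0 / (((C.lam : C.F) - 1) * C.ψ v 0) := by
    rw [← Units.val_pow_eq_pow_val, hi, Units.val_mk0]
  have hmem : x - C.d ^ i • (C.d • v - v) ∈ com C.d ⊓ fix L := by
    refine ⟨(com C.d).sub_mem hx (smul_mem_com ((Commute.refl C.d).pow_left i) (com_mem _ _)), (C.ker _).1 ?_⟩
    rw [map_sub, C.psi_d_pow, map_sub, C.psi_d]
    ext j
    fin_cases j
    · simp only [Fin.zero_eta, Pi.sub_apply, Matrix.cons_val_zero, Pi.zero_apply]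
      rw [hi']
      field_simp
      ring
    · simp [hx1, hv1]
  rw [hinf, AddSubgroup.mem_bot, sub_eq_zero] at hmem
  exact hmem

end Frame

namespace MinPar

variable [Finite W] [Fact p.Prime] {P M T B D : Subgroup (Γ W)} {Lr Nr Sr : Subgroup (Γ W)}
variable (h : MinPar p P M T)
include h

/-- A minimal offender commuting with `B` centralises the subgroup of type `SL₂` of `B`, and fixes
the complement given by its torus. -/
theorem centralizes (hB : Off p P B) (hD : Off p P D) (hne : B ≠ D) (hc : ∀ b ∈ B, ∀ c ∈ D, Commute b c)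
    (hS : Setup p Lr Nr Sr B) (hLP : Lr ≤ P) (C : Frame p Lr B) (hq : 2 < Nat.card B) :
    (∀ g ∈ Lr, ∀ c ∈ D, Commute g c) ∧ com C.d ≤ fix D := by
  classical
  set d := C.d with hddef
  set m := Fintype.card C.F - 1 with hm
  have hdP : d ∈ P := hLP C.d_mem
  set N := fix B with hN
  set I := fix B ⊓ fix D with hI
  have hcR : comA B ≤ fix D := iSup₂_le fun b hb => by
    rintro _ ⟨w, rfl⟩
    exact h.sub_mem_of_commute hB hD hne hc hb w
  have hRI : comA B ≤ I := le_inf (iSup₂_le fun b hb => by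
    rintro _ ⟨w, rfl⟩
    exact h.quadratic hB hb w) hcR
  have hdR : ∀ r ∈ comA B, d • r ∈ comA B := by
    have hdB : cj d B = B := h.cj_eq_of_smul_fix hB hdP fun w hw => C.smul_fix hw
    intro r hr
    have : comA B ≤ (comA B).comap (DistribSMul.toAddMonoidHom W d) := by
      refine iSup₂_le fun b hb => ?_
      rintro _ ⟨w, rfl⟩
      show d • (b • w - w) ∈ comA B
      have e : d • (b • w - w) = (d * b * d⁻¹) • (d • w) - d • w := by
        rw [smul_sub, mul_smul, mul_smul, inv_smul_smul]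
      rw [e]
      have hmem : d * b * d⁻¹ ∈ B := hdB.le (conj_mem_cj hb)
      exact AddSubgroup.mem_iSup_of_mem _ (AddSubgroup.mem_iSup_of_mem hmem (com_mem _ _))
    exact this hr
  have hdn : ∀ w ∈ N, d • w - w ∈ comA B := by
    intro w hw
    rw [hN, C.fix_eq, AddSubgroup.mem_sup] at hw
    obtain ⟨r, hr, z, hz, rfl⟩ := hw
    rw [smul_add, hz d C.d_mem, add_sub_add_right_eq_sub]
    exact sub_mem (hdR r hr) hr
  have hdI : ∀ w ∈ I, d • w ∈ I := fun w hw => by
    rw [← sub_add_cancel (d • w) w]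
    exact add_mem (hRI (hdn w hw.1)) hw
  -- the chain stabiliser of `I`
  set E := P ⊓ ch I with hE
  have hBE : B ≤ E := le_inf hB.AP fun b hb => ⟨fun u hu => hu.1 b hb, fun w =>
    ⟨h.quadratic hB hb w, h.sub_mem_of_commute hB hD hne hc hb w⟩⟩
  have hDE : D ≤ E := le_inf hD.AP fun c hc' => ⟨fun u hu => hu.2 c hc', fun w =>
    ⟨h.sub_mem_of_commute hD hB hne.symm (fun x hx y hy => (hc y hy x hx).symm) hc' w, h.quadratic hD hc' w⟩⟩
  have hEel : Cfsg.IsElementaryAbelian p E := el_mono (ch_el h.hp) inf_le_right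
  have hNN : Nat.card W * Nat.card I = Nat.card N * Nat.card (fix D) := by
    rw [addCard_mul, h.sup_fix_eq_top hB hD hne hc, AddSubgroup.card_top]
  have hEcard : Nat.card E ≤ Nat.card B * Nat.card D := by
    have h1 := h.card_le (D := E) inf_le_left hEel
    refine Nat.le_of_mul_le_mul_right ?_ (Nat.card_pos : 0 < Nat.card I)
    refine (Nat.mul_le_mul_left _ (AddSubgroup.card_le_of_le (le_fix_ch.trans (fix_mono inf_le_right)))).trans
      (h1.trans (le_of_eq ?_))
    refine Nat.eq_of_mul_eq_mul_left (Nat.card_pos : 0 < Nat.card W) ?_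
    calc Nat.card W * Nat.card W
        = (Nat.card B * Nat.card N) * (Nat.card D * Nat.card (fix D)) := by rw [hN, h.exact hB, h.exact hD]
      _ = Nat.card B * Nat.card D * (Nat.card N * Nat.card (fix D)) := by ring
      _ = _ := by rw [← hNN]; ring
  have hEdec : ∀ e ∈ E, ∃ b ∈ B, ∃ c ∈ D, b * c = e := by
    intro e he
    let μ : B × D → E := fun x => ⟨(x.1 : Γ W) * x.2, mul_mem (hBE x.1.2) (hDE x.2.2)⟩
    have hμ : Function.Injective μ := by
      rintro ⟨b, c⟩ ⟨b', c'⟩ e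
      have e' : (b : Γ W) * c = b' * c' := congrArg Subtype.val e
      have h1 : (b' : Γ W)⁻¹ * b = c' * (c : Γ W)⁻¹ := by
        rw [eq_mul_inv_iff_mul_eq, mul_assoc, e', inv_mul_cancel_left]
      have h2 : (b' : Γ W)⁻¹ * b ∈ B ⊓ D :=
        ⟨B.mul_mem (B.inv_mem b'.2) b.2, h1 ▸ D.mul_mem c'.2 (D.inv_mem c.2)⟩
      rw [h.inf_eq_bot hB hD hne, Subgroup.mem_bot, inv_mul_eq_one] at h2
      have h3 : b = b' := Subtype.ext h2.symm
      subst h3
      exact Prod.ext rfl (Subtype.ext (mul_left_cancel e'))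
    have hs := (Nat.bijective_iff_injective_and_card μ).2 ⟨hμ, le_antisymm
      (Nat.card_le_card_of_injective _ hμ) (by rw [Nat.card_prod]; exact hEcard)⟩
    obtain ⟨⟨b, c⟩, hbc⟩ := hs.2 ⟨e, he⟩
    exact ⟨b, b.2, c, c.2, congrArg Subtype.val hbc⟩
  have hdE : ∀ i : ℕ, ∀ e ∈ E, d ^ i * e * (d ^ i)⁻¹ ∈ E := by
    intro i e he
    have hpi : ∀ u ∈ I, d ^ i • u ∈ I := by
      induction i with
      | zero => simp
      | succ i ih => intro u hu; rw [pow_succ', mul_smul]; exact hdI _ (ih u hu)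
    exact ⟨P.mul_mem (P.mul_mem (P.pow_mem hdP i) he.1) (P.inv_mem (P.pow_mem hdP i)),
      ch_cj he.2 hpi fun u hu => inv_smul_mem hpi hu⟩
  have hdBi : ∀ i : ℕ, cj (d ^ i) B = B := by
    intro i
    refine h.cj_eq_of_smul_fix hB (pow_mem hdP i) ?_
    induction i with
    | zero => simp
    | succ i ih => intro w hw; rw [pow_succ', mul_smul]; exact C.smul_fix (ih w hw)
  -- the element of `cj (d ^ i) D` congruent to `c` modulo `B`
  have hrep : ∀ c ∈ D, ∀ i : ℕ, ∃ x ∈ cj (d ^ i) D, x * c⁻¹ ∈ B := by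
    intro c hc'
    intro i
    have hDi := hD.conj (pow_mem hdP i)
    have hne' : B ≠ cj (d ^ i) D := fun e => hne (by
      rw [← cj_inv_cj (d ^ i) D, ← e, ← hdBi i, cj_inv_cj, hdBi i])
    have hle : cj (d ^ i) D ≤ E := by
      rintro _ ⟨z, hz, rfl⟩
      exact hdE i z (hDE hz)
    choose fb hfb fc hfc hfe using fun x : cj (d ^ i) D => hEdec x (hle x.2)
    let f : cj (d ^ i) D → D := fun x => ⟨fc x, hfc x⟩
    have hf : Function.Injective f := by
      intro x y e
      have e' : fc x = fc y := congrArg Subtype.val e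
      have h1 : (x : Γ W) * (y : Γ W)⁻¹ ∈ B ⊓ cj (d ^ i) D := by
        refine ⟨?_, (cj (d ^ i) D).mul_mem x.2 ((cj (d ^ i) D).inv_mem y.2)⟩
        rw [← hfe x, ← hfe y, e', mul_inv_rev, mul_assoc, mul_inv_cancel_left]
        exact B.mul_mem (hfb x) (B.inv_mem (hfb y))
      rw [h.inf_eq_bot hB hDi hne', Subgroup.mem_bot, mul_inv_eq_one] at h1
      exact Subtype.ext h1
    obtain ⟨x, hx⟩ := ((Nat.bijective_iff_injective_and_card f).2 ⟨hf, card_cj _ D⟩).2 ⟨c, hc'⟩
    have hx' : fc x = c := congrArg Subtype.val hx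
    refine ⟨x, x.2, ?_⟩
    rw [← hfe x, hx', mul_inv_cancel_right]
    exact hfb x
  -- the part of `E` fixing the complement
  let X : Subgroup (Γ W) :=
    { carrier := {e | e ∈ E ∧ ∀ y ∈ com d, e • y = y}
      one_mem' := ⟨one_mem _, fun y _ => one_smul _ y⟩
      mul_mem' := fun {a b} ha hb => ⟨mul_mem ha.1 hb.1, fun y hy => by rw [mul_smul, hb.2 y hy, ha.2 y hy]⟩
      inv_mem' := fun {a} ha => ⟨inv_mem ha.1, fun y hy => by rw [inv_smul_eq_iff, ha.2 y hy]⟩ }
  have hXex : ∀ c ∈ D, ∃ x ∈ X, x * (c ^ m)⁻¹ ∈ B := by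
    intro c hc'
    choose r hr hrB using hrep c hc'
    have hle : ∀ i, r i ∈ E := fun i => by
      obtain ⟨z, hz, e⟩ := hr i
      rw [← e]
      exact hdE i z (hDE hz)
    have hper : r m = r 0 := by
      have hd : d ^ m = 1 := C.d_pow_card
      have h1 : r m ∈ D := by
        have := hr m
        rwa [hd, cj_one] at this
      have h0 : r 0 ∈ D := by
        have := hr 0
        rwa [pow_zero, cj_one] at this
      have h2 : r m * (r 0)⁻¹ ∈ B ⊓ D := by
        refine ⟨?_, D.mul_mem h1 (D.inv_mem h0)⟩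
        have := mul_mem (hrB m) (inv_mem (hrB 0))
        rwa [mul_inv_rev, inv_inv, mul_assoc, inv_mul_cancel_left] at this
      rw [h.inf_eq_bot hB hD hne, Subgroup.mem_bot, mul_inv_eq_one] at h2
      exact h2
    have hshift : ∀ (i : ℕ) (w : W), r (i + 1) • (d • w) - d • w = r i • w - w := by
      intro i w
      obtain ⟨n₁, hn₁, l, hl, hnl⟩ : ∃ n₁ ∈ N, ∃ l ∈ fix (cj (d ^ i) D), n₁ + l = w := by
        have htop := h.sup_fix_eq_top hB (hD.conj (pow_mem hdP i)) (fun e => hne (by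
          rw [← cj_inv_cj (d ^ i) D, ← e, ← hdBi i, cj_inv_cj, hdBi i])) (fun b hb z hz => by
          obtain ⟨y, hy, rfl⟩ := hz
          exact commute_of_mem hEel (hBE hb) (hdE i y (hDE hy)))
        exact AddSubgroup.mem_sup.1 (hN ▸ htop ▸ AddSubgroup.mem_top w)
      have hc_on : ∀ j, ∀ u ∈ N, r j • u - u = c • u - u := fun j u hu => by
        obtain ⟨b, hb, e⟩ : ∃ b ∈ B, r j = b * c := ⟨_, hrB j, by rw [inv_mul_cancel_right]⟩
        have hcu : c • u ∈ N := by
          rw [← sub_add_cancel (c • u) u]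
          exact add_mem (h.sub_mem_of_commute hD hB hne.symm (fun x hx y hy => (hc y hy x hx).symm) hc' u) hu
        rw [e, mul_smul, hcu b hb]
      have hdl : d • l ∈ fix (cj (d ^ (i + 1)) D) := by
        rw [pow_succ', mem_fix_cj_mul, inv_smul_smul]; exact hl
      have hdn₁ : d • n₁ ∈ N := C.smul_fix hn₁
      rw [← hnl, smul_add d n₁ l, smul_add, smul_add, hdl _ (hr (i + 1)), hl _ (hr i), add_sub_add_right_eq_sub,
        add_sub_add_right_eq_sub, hc_on _ _ hdn₁, hc_on _ _ hn₁]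
      have h1 : c • (d • n₁ - n₁) = d • n₁ - n₁ := hcR (hdn n₁ hn₁) c hc'
      rw [smul_sub] at h1
      calc c • d • n₁ - d • n₁ = (c • d • n₁ - c • n₁) - (d • n₁ - c • n₁) := by abel
        _ = (d • n₁ - n₁) - (d • n₁ - c • n₁) := by rw [h1]
        _ = c • n₁ - n₁ := by abel
    have hprod : ∀ k : ℕ, ∃ x ∈ E, x * (c ^ k)⁻¹ ∈ B ∧
        ∀ w : W, x • w - w = ∑ i ∈ Finset.range k, (r i • w - w) := by
      intro k
      induction k with
      | zero => exact ⟨1, one_mem _, by simp, fun w => by simp⟩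
      | succ k ih =>
        obtain ⟨x, hx, hxB, hxw⟩ := ih
        refine ⟨x * r k, mul_mem hx (hle k), ?_, fun w => ?_⟩
        · have hxk : x * (c ^ k)⁻¹ * (r k * c⁻¹) = x * r k * (c ^ (k + 1))⁻¹ := by
            have hcE : ∀ j : ℕ, c ^ j ∈ E := fun j => pow_mem (hDE hc') j
            rw [pow_succ', mul_inv_rev]
            calc x * (c ^ k)⁻¹ * (r k * c⁻¹) = x * ((c ^ k)⁻¹ * r k) * c⁻¹ := by group
              _ = x * (r k * (c ^ k)⁻¹) * c⁻¹ := by
                  rw [(commute_of_mem hEel (inv_mem (hcE k)) (hle k)).eq]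
              _ = _ := by group
          rw [← hxk]
          exact mul_mem hxB (hrB k)
        · rw [ch_add hx.2 (hle k).2, hxw, Finset.sum_range_succ]
    obtain ⟨x, hx, hxB, hxw⟩ := hprod m
    refine ⟨x, ⟨hx, ?_⟩, hxB⟩
    rintro _ ⟨w, rfl⟩
    show x • (d • w - w) = d • w - w
    rw [← sub_eq_zero, show x • (d • w - w) - (d • w - w) = (x • (d • w) - d • w) - (x • w - w) by
      rw [smul_sub]; abel, hxw, hxw, sub_eq_zero]
    calc ∑ i ∈ Finset.range m, (r i • (d • w) - d • w)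
        = ∑ i ∈ Finset.range m, (r (i + 1) • (d • w) - d • w) := by
          have h1 := Finset.sum_range_succ (fun i => r i • (d • w) - d • w) m
          have h2 := Finset.sum_range_succ' (fun i => r i • (d • w) - d • w) m
          rw [h1, hper] at h2
          exact add_right_cancel h2
      _ = ∑ i ∈ Finset.range m, (r i • w - w) := Finset.sum_congr rfl fun i _ => hshift i w
  -- `X` has the order of `D`
  have hXB : ∀ b ∈ B, (∀ y ∈ com d, b • y = y) → b = 1 := fun b hb hby => ext_smul fun w => by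
    obtain ⟨y, hy, z, hz, rfl⟩ := AddSubgroup.mem_sup.1 (C.com_sup hS hq ▸ AddSubgroup.mem_top w)
    rw [smul_add, hby y hy, hz b (hS.AP hb), one_smul]
  have hpow : Function.Injective (fun c : D => c ^ m) := by
    have hco : (Nat.card D).Coprime m := by
      obtain ⟨k, hk⟩ := IsPGroup.iff_card.1 hD.pgroup
      rw [hk]
      exact Nat.Coprime.pow_left k (C.coprime hS).symm
    intro a b e
    exact (powCoprime hco).injective e
  choose xf hxf hxfB using hXex
  have hXcard : Nat.card D ≤ Nat.card X := by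
    refine Nat.card_le_card_of_injective (fun c : D => (⟨xf c c.2, hxf c c.2⟩ : X)) fun a b e => ?_
    have e' : xf a a.2 = xf b b.2 := congrArg Subtype.val e
    have h1 : ((a : Γ W) ^ m) * ((b : Γ W) ^ m)⁻¹ ∈ B ⊓ D := by
      refine ⟨?_, D.mul_mem (D.pow_mem a.2 m) (D.inv_mem (D.pow_mem b.2 m))⟩
      have := mul_mem (inv_mem (hxfB a a.2)) (hxfB b b.2)
      rw [e', mul_inv_rev, inv_inv] at this
      simpa [mul_assoc] using this
    rw [h.inf_eq_bot hB hD hne, Subgroup.mem_bot, mul_inv_eq_one] at h1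
    exact hpow (Subtype.ext h1)
  set Xf := com d ⊔ I with hXf
  have hXle : X ≤ P ⊓ ch Xf := fun x hx => ⟨hx.1.1, fun u hu => by
    obtain ⟨y, hy, i, hi, rfl⟩ := AddSubgroup.mem_sup.1 hu
    rw [smul_add, hx.2 y hy, hx.1.2.1 i hi], fun w => AddSubgroup.mem_sup_right (hx.1.2.2 w)⟩
  have hXfeq : P ⊓ ch Xf = X := by
    refine (Subgroup.eq_of_le_of_card_ge hXle (le_trans ?_ hXcard)).symm
    have h1 := h.card_le (D := P ⊓ ch Xf) inf_le_left (el_mono (ch_el h.hp) inf_le_right)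
    have h2 : Nat.card ↥Xf ≤ Nat.card (fix (P ⊓ ch Xf)) :=
      AddSubgroup.card_le_of_le (le_fix_ch.trans (fix_mono inf_le_right))
    have h3 : Xf ⊔ N = ⊤ := top_le_iff.1 (by
      rw [← C.com_sup hS hq]
      exact sup_le_sup le_sup_left (fix_mono hS.AP))
    have h4 := addCard_mul Xf N
    rw [h3, AddSubgroup.card_top] at h4
    have h5 : Nat.card I ≤ Nat.card ↥(Xf ⊓ N) := AddSubgroup.card_le_of_le (le_inf le_sup_right inf_le_left)
    have h6 : Nat.card (fix D) ≤ Nat.card Xf := by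
      refine Nat.le_of_mul_le_mul_right ?_ (Nat.card_pos : 0 < Nat.card N)
      rw [h4, mul_comm (Nat.card (fix D)), ← hNN]
      exact Nat.mul_le_mul_left _ h5
    refine Nat.le_of_mul_le_mul_right ?_ (Nat.card_pos : 0 < Nat.card (fix D))
    rw [h.exact hD]
    exact (Nat.mul_le_mul_left _ (h6.trans h2)).trans h1
  -- the Weyl element normalises `X`
  have hncom : ∀ y ∈ com d, C.n • y ∈ com d := by
    rintro _ ⟨w, rfl⟩
    show C.n • (d • w - w) ∈ com d
    have e : C.n • (d • w - w) = (C.n * d * C.n⁻¹) • (C.n • w) - C.n • w := by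
      rw [smul_sub, mul_smul, mul_smul, inv_smul_smul]
    rw [e, hddef, C.n_conj, ← hddef]
    have e2 : d⁻¹ • C.n • w - C.n • w = -(d • d⁻¹ • C.n • w - d⁻¹ • C.n • w) := by rw [smul_inv_smul]; abel
    rw [e2]
    exact neg_mem (com_mem _ _)
  have hnXf : ∀ u ∈ Xf, C.n • u ∈ Xf := by
    intro u hu
    obtain ⟨y, hy, z, hz, rfl⟩ := AddSubgroup.mem_sup.1 (C.com_sup hS hq ▸ AddSubgroup.mem_top u)
    rw [smul_add, hz _ C.n_mem]
    refine add_mem (AddSubgroup.mem_sup_left (hncom y hy)) ?_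
    have e : z = (y + z) - y := by abel
    rw [e]
    exact sub_mem hu (AddSubgroup.mem_sup_left hy)
  have hnX : ∀ x ∈ X, C.n⁻¹ * x * C.n ∈ X := by
    intro x hx
    rw [← hXfeq] at hx ⊢
    refine ⟨P.mul_mem (P.mul_mem (P.inv_mem (hLP C.n_mem)) hx.1) (hLP C.n_mem), ?_⟩
    have := ch_cj (g := C.n⁻¹) hx.2 (fun u hu => inv_smul_mem hnXf hu) (fun u hu => by rw [inv_inv]; exact hnXf u hu)
    rwa [inv_inv] at this
  have hLX : ∀ x ∈ X, ∀ g ∈ Lr, Commute g x := by
    intro x hx g hg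
    have hle : Lr ≤ Subgroup.centralizer (X : Set (Γ W)) := by
      rw [← hS.gen C.n C.n_mem (C.n_not_mem hS)]
      refine sup_le (fun b hb => Subgroup.mem_centralizer_iff.2 fun x hx =>
        (commute_of_mem hEel hx.1 (hBE hb)).eq) ?_
      rintro _ ⟨b, hb, rfl⟩
      refine Subgroup.mem_centralizer_iff.2 fun x hx => ?_
      have e := (commute_of_mem hEel (hnX x hx).1 (hBE hb)).eq
      show x * (C.n * b * C.n⁻¹) = C.n * b * C.n⁻¹ * x
      calc x * (C.n * b * C.n⁻¹) = C.n * ((C.n⁻¹ * x * C.n) * b) * C.n⁻¹ := by group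
        _ = C.n * (b * (C.n⁻¹ * x * C.n)) * C.n⁻¹ := by rw [e]
        _ = _ := by group
    exact (Subgroup.mem_centralizer_iff.1 (hle hg) x hx).symm
  -- `D ≤ X`
  have hDX : ∀ c ∈ D, c ∈ X := by
    intro c hc'
    obtain ⟨⟨c₀, hc₀⟩, e⟩ := (Finite.injective_iff_surjective.1 hpow) ⟨c, hc'⟩
    have e' : c₀ ^ m = c := congrArg Subtype.val e
    obtain ⟨b, hbdef⟩ : ∃ b, b = xf c₀ hc₀ * (c₀ ^ m)⁻¹ := ⟨_, rfl⟩
    have hb : b ∈ B := hbdef ▸ hxfB c₀ hc₀
    have hx : xf c₀ hc₀ ∈ X := hxf c₀ hc₀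
    have hxc : xf c₀ hc₀ = b * c := by rw [hbdef, e', inv_mul_cancel_right]
    by_cases hb1 : b = 1
    · rw [hb1, one_mul] at hxc
      exact hxc ▸ hx
    exfalso
    have hNle : fix D ≤ N := by
      intro w hw
      obtain ⟨y, hy, z, hz, rfl⟩ := AddSubgroup.mem_sup.1 (C.com_sup hS hq ▸ AddSubgroup.mem_top w)
      have hzN : z ∈ N := fix_mono hS.AP hz
      refine add_mem ?_ hzN
      have hxz : xf c₀ hc₀ • z ∈ fix Lr := fun g hg => by
        rw [← mul_smul, (hLX _ hx g hg).eq, mul_smul, hz g hg]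
      have hbw : b • (y + z) = xf c₀ hc₀ • (y + z) := by rw [hxc, mul_smul, hw c hc']
      have h1 : b • y - y ∈ fix Lr := by
        have e1 : b • y - y = xf c₀ hc₀ • z - z := by
          rw [smul_add, smul_add, hx.2 y hy, hzN b hb] at hbw
          calc b • y - y = (b • y + z) - (y + z) := by abel
            _ = (y + xf c₀ hc₀ • z) - (y + z) := by rw [hbw]
            _ = _ := by abel
        rw [e1]
        exact sub_mem hxz hz
      obtain ⟨k, hk, hkM⟩ := hS.exists_outside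
      obtain ⟨n₁, hn₁, l, hl, rfl⟩ := AddSubgroup.mem_sup.1 ((hS.cards hk hkM).2 ▸ AddSubgroup.mem_top y)
      refine add_mem hn₁ ?_
      by_contra hlN
      refine hb1 (hS.eq_one_of_sub_mem hk hkM hb hl (fun e => hlN (hS.fix_le_self e)) ?_)
      rwa [smul_add, hn₁ b hb, add_sub_add_left_eq_sub] at h1
    have e1 : fix B = ⊤ := by
      rw [← h.sup_fix_eq_top hB hD hne hc]
      exact (sup_eq_left.2 hNle).symm
    refine hb1 (ext_smul fun w => ?_)
    rw [one_smul]
    exact (e1.symm ▸ AddSubgroup.mem_top w : w ∈ fix B) b hb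
  exact ⟨fun g hg c hc' => hLX c (hDX c hc') g hg, fun y hy c hc' => (hDX c hc').2 y hy⟩

end MinPar

end CfsgLib.LocalEven.MinPar
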