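import Cfsg.Agent.Lib.LocalEven.MinPar.Large

/-!
The conclusion of the theorem on `p`-minimal linear groups with an offender, and its proof when some
minimal offender has order more than 2.
-/

set_option autoImplicit false

namespace CfsgLib.LocalEven.MinPar

open CfsgLib.LocalEven.PGV CfsgLib.LocalEven.OffenderSL2
open scoped MatrixGroups

universe v

variable {W : Type v} [AddCommGroup W] {p : ℕ} {P M T E : Subgroup (Γ W)}

/-- `E` is `SL₂(pⁿ)` on a natural module modulo its fixed points. -/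
def IsSL2 (p : ℕ) (E : Subgroup (Γ W)) : Prop :=
  ∃ (F : Type v) (_ : Field F) (_ : Fintype F) (n : ℕ) (ρ : ↥E ≃* SL(2, F)) (ψ : W →+ (Fin 2 → F)),
    1 ≤ n ∧ Fintype.card F = p ^ n ∧ Function.Surjective ψ ∧ (∀ w, ψ w = 0 ↔ w ∈ fix E) ∧
      ∀ (g : ↥E) (w : W), ψ ((g : Γ W) • w) = (ρ g).1.mulVec (ψ w)

/-- `E` is the symmetric group of degree `2ⁿ + 1` on the even-weight module modulo its fixed points. -/
def IsSym (p : ℕ) (E : Subgroup (Γ W)) : Prop :=
  p = 2 ∧ ∃ (n : ℕ) (ρ : ↥E ≃* Equiv.Perm (Fin (2 ^ n + 1))) (ψ : W →+ (Fin (2 ^ n + 1) → ZMod 2)),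
    1 ≤ n ∧ (∀ w, ∑ i, ψ w i = 0) ∧ (∀ v, ∑ i, v i = 0 → ∃ w, ψ w = v) ∧
      (∀ w, ψ w = 0 ↔ w ∈ fix E) ∧ ∀ (g : ↥E) (w : W) i, ψ ((g : Γ W) • w) i = ψ w ((ρ g)⁻¹ i)

/-- The decomposition of `P` and of `W`. -/
structure Decomp (p : ℕ) (P T : Subgroup (Γ W)) (r : ℕ) (E : Fin r → Subgroup (Γ W)) : Prop where
  pos : 1 ≤ r
  le : ∀ i, E i ≤ P
  comm : ∀ i j, i ≠ j → ∀ g ∈ E i, ∀ g' ∈ E j, Commute g g'
  disj : ∀ i, E i ⊓ (⨆ j ∈ {j | j ≠ i}, E j) = ⊥
  gen : (⨆ i, E i) ⊔ T = P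
  conj : ∀ i j, ∃ t ∈ T, cj t (E i) = E j
  span : fix (⨆ i, E i) ⊔ (⨆ i, comA (E i)) = ⊤
  kill : ∀ i j, i ≠ j → comA (E i) ≤ fix (E j)
  model : ∀ i, IsSL2 p (E i) ∨ IsSym p (E i)

theorem fix_iSup {ι : Sort*} (E : ι → Subgroup (Γ W)) : fix (⨆ i, E i) = ⨅ i, fix (E i) := by
  refine le_antisymm (le_iInf fun i => fix_mono (le_iSup E i)) fun w hw => ?_
  rw [AddSubgroup.mem_iInf] at hw
  intro g hg
  exact (iSup_le fun i x hx => hw i x hx : (⨆ i, E i) ≤ MulAction.stabilizer (Γ W) w) hg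

/-- Commuting subgroups of `P`, conjugate under `T`, each with a complement in `W` fixed by the others,
give the decomposition. -/
theorem Decomp.of_complements [Finite W] [Fact p.Prime] (h : MinPar p P M T) {r : ℕ} (hr : 1 ≤ r)
    (E : Fin r → Subgroup (Γ W)) (hEP : ∀ i, E i ≤ P) (hEM : ∀ i, ¬ E i ≤ M)
    (hcomm : ∀ i j, i ≠ j → ∀ g ∈ E i, ∀ g' ∈ E j, Commute g g')
    (hconj : ∀ i j, ∃ t ∈ T, cj t (E i) = E j)
    (C : Fin r → AddSubgroup W) (hC : ∀ i, C i ⊔ fix (E i) = ⊤) (hCle : ∀ i, C i ≤ comA (E i))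
    (hCfix : ∀ i j, i ≠ j → C i ≤ fix (E j)) (hmodel : ∀ i, IsSL2 p (E i) ∨ IsSym p (E i)) :
    Decomp p P T r E where
  pos := hr
  le := hEP
  comm := hcomm
  conj := hconj
  model := hmodel
  gen := by
    by_contra hne
    have hle := h.uniq ((⨆ i, E i) ⊔ T) le_sup_right (sup_le (iSup_le hEP) h.TP) hne
    exact hEM ⟨0, hr⟩ ((le_iSup E _).trans (le_sup_left.trans hle))
  kill := fun i j hij => iSup₂_le fun g hg => by
    rintro _ ⟨w, rfl⟩
    obtain ⟨y, hy, z, hz, rfl⟩ := AddSubgroup.mem_sup.1 (hC i ▸ AddSubgroup.mem_top w)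
    intro g' hg'
    show g' • (g • (y + z) - (y + z)) = g • (y + z) - (y + z)
    rw [smul_add, hz g hg, add_sub_add_right_eq_sub, smul_sub, ← mul_smul,
      (hcomm i j hij g hg g' hg').eq.symm, mul_smul, hCfix i j hij hy g' hg']
  disj := fun i => by
    refine (Subgroup.eq_bot_iff_forall _).2 fun g hg => ext_smul fun w => ?_
    obtain ⟨y, hy, z, hz, rfl⟩ := AddSubgroup.mem_sup.1 (hC i ▸ AddSubgroup.mem_top w)
    have hle : (⨆ j ∈ {j | j ≠ i}, E j) ≤ MulAction.stabilizer (Γ W) y :=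
      iSup₂_le fun j hj x hx => hCfix i j (Ne.symm hj) hy x hx
    have hgy : g • y = y := hle hg.2
    rw [smul_add, hgy, hz g hg.1, one_smul]
  span := by
    classical
    refine top_le_iff.1 fun w _ => ?_
    suffices key : ∀ s : Finset (Fin r), ∃ z, (∀ j ∈ s, z ∈ fix (E j)) ∧ w - z ∈ ⨆ i, comA (E i) by
      obtain ⟨z, hz, hwz⟩ := key Finset.univ
      refine AddSubgroup.mem_sup.2 ⟨z, ?_, w - z, hwz, add_sub_cancel z w⟩
      rw [fix_iSup]
      simp only [AddSubgroup.mem_iInf]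
      exact fun j => hz j (Finset.mem_univ j)
    intro s
    induction s using Finset.induction with
    | empty => exact ⟨w, by simp, by simp⟩
    | insert i s his ih =>
      obtain ⟨z, hz, hwz⟩ := ih
      obtain ⟨y, hy, z', hz', e⟩ := AddSubgroup.mem_sup.1 (hC i ▸ AddSubgroup.mem_top z)
      refine ⟨z', fun j hj => ?_, ?_⟩
      · rcases Finset.mem_insert.1 hj with rfl | hj
        · exact hz'
        · have := sub_mem (hz j hj) (hCfix i j (fun e' => his (e' ▸ hj)) hy)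
          rwa [← e, add_sub_cancel_left] at this
      · have e' : w - z' = (w - z) + y := by rw [← e]; abel
        rw [e']
        exact add_mem hwz (AddSubgroup.mem_iSup_of_mem i (hCle i hy))

/-- Every minimal offender lies in one of the subgroups and `P` permutes them. -/
def Full (p : ℕ) (P : Subgroup (Γ W)) {r : ℕ} (E : Fin r → Subgroup (Γ W)) : Prop :=
  (∀ g ∈ P, ∀ i, ∃ j, cj g (E i) = E j) ∧ ∀ D, Off p P D → ∃ i, D ≤ E i

variable [Finite W] [Fact p.Prime] {A₀ : Subgroup (Γ W)}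

theorem Decomp.full {r : ℕ} {E : Fin r → Subgroup (Γ W)} (hE : Decomp p P T r E) (h : MinPar p P M T)
    (hT : ∀ t ∈ T, ∀ i, ∃ j, cj t (E i) = E j)
    (hD : ∀ D, Off p P D → D ≤ T → ∃ i, D ≤ E i) : Full p P E := by
  let H : Subgroup (Γ W) :=
    { carrier := {g | ∀ i, ∃ j, cj g (E i) = E j}
      one_mem' := fun i => ⟨i, cj_one⟩
      mul_mem' := fun {a b} ha hb i => by
        obtain ⟨j, hj⟩ := hb i
        obtain ⟨k, hk⟩ := ha j
        exact ⟨k, by rw [cj_mul, hj, hk]⟩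
      inv_mem' := fun {a} ha i => by
        choose f hf using ha
        let F : Set.range E → Set.range E := fun x => ⟨cj a x, by
          obtain ⟨i, hi⟩ := x.2
          exact ⟨f i, by rw [← hf i, hi]⟩⟩
        have hF : Function.Injective F := fun x y e => Subtype.ext (by
          have := congrArg (fun z : Set.range E => cj a⁻¹ (z : Subgroup (Γ W))) e
          simpa [F, cj_inv_cj] using this)
        obtain ⟨⟨_, j, rfl⟩, hx⟩ := (Finite.injective_iff_surjective.1 hF) ⟨E i, i, rfl⟩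
        have hx' : cj a (E j) = E i := congrArg Subtype.val hx
        exact ⟨j, by rw [← hx']; exact cj_inv_cj a (E j)⟩ }
  have hperm : P ≤ H := by
    rw [← hE.gen]
    refine sup_le (iSup_le fun k g hg i => ⟨i, ?_⟩) fun t ht => hT t ht
    by_cases hki : k = i
    · subst hki; exact cj_eq_self hg
    · exact cj_eq_of_commute fun c hc => hE.comm k i hki g hg c hc
  refine ⟨fun g hg i => hperm hg i, fun D hD' => ?_⟩
  obtain ⟨g, hg, hle⟩ := h.syl D hD'.AP hD'.pgroup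
  obtain ⟨i, hi⟩ := hD (cj g⁻¹ D) (hD'.conj (inv_mem hg)) (by rw [← cj_inv_cj g T]; exact cj_mono' hle)
  obtain ⟨j, hj⟩ := hperm hg i
  refine ⟨j, ?_⟩
  rw [← hj, ← cj_cj_inv g D]
  exact cj_mono' hi

namespace MinPar

variable (h : MinPar p P M T)
include h

theorem exists_comp (hA : Off p P A₀) (hq : 2 < Nat.card A₀) :
    ∃ g ∈ P, ∃ L S, Comp p P M T (cj g A₀) L S := by
  obtain ⟨g, hg, L, S, hLP, hgT, hS⟩ := h.exists_setup hA
  exact ⟨g, hg, L, S, hA.conj hg, hgT, hLP, hS, by rwa [card_cj]⟩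

/-- The decomposition when some minimal offender has order more than 2. -/
theorem exists_decomp_large (hA : Off p P A₀) (hq : 2 < Nat.card A₀) :
    ∃ (r : ℕ) (E : Fin r → Subgroup (Γ W)), Decomp p P T r E ∧ Full p P E := by
  classical
  obtain ⟨g, hg, L, S, x⟩ := h.exists_comp hA hq
  set B := cj g A₀
  let O := {C : Subgroup (Γ W) // ∃ t ∈ T, cj t B = C}
  haveI : Finite O := Subtype.finite
  haveI := Fintype.ofFinite O
  choose τ hτ hτe using fun i : Fin (Fintype.card O) => ((Fintype.equivFin O).symm i).2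
  have hne : ∀ i j, i ≠ j → cj (τ i) B ≠ cj (τ j) B := fun i j hij e =>
    hij ((Fintype.equivFin O).symm.injective (Subtype.ext ((hτe i).symm.trans (e.trans (hτe j)))))
  have y := fun i => x.conj h (hτ i)
  suffices hdec : Decomp p P T (Fintype.card O) (fun i => cj (τ i) L) by
    refine ⟨_, _, hdec, hdec.full h (fun t ht i => ?_) (fun D hD hDT => ?_)⟩
    · obtain ⟨j, hj⟩ : ∃ j, cj (τ j) B = cj (t * τ i) B := ⟨Fintype.equivFin O ⟨_, t * τ i,
        mul_mem ht (hτ i), rfl⟩, by rw [hτe, Equiv.symm_apply_apply]⟩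
      refine ⟨j, ?_⟩
      have z : Comp p P M T (cj (τ j) B) (cj (t * τ i) L) (cj (t * τ i) S) :=
        hj.symm ▸ x.conj h (mul_mem ht (hτ i))
      rw [← cj_mul]
      exact le_antisymm ((y j).le_of_eq_root h z) (z.le_of_eq_root h (y j))
    · obtain ⟨t, ht, rfl⟩ := x.exists_eq_cj h hD hDT
      refine ⟨Fintype.equivFin O ⟨_, t, ht, rfl⟩, ?_⟩
      show cj t B ≤ _
      have e : cj (τ (Fintype.equivFin O ⟨cj t B, t, ht, rfl⟩)) B = cj t B := by
        rw [hτe, Equiv.symm_apply_apply]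
      exact e.symm.le.trans (y _).hS.AP
  refine Decomp.of_complements h
    (Fintype.card_pos_iff.2 ⟨⟨B, 1, one_mem T, cj_one⟩⟩) _ (fun i => (y i).LP) (fun i hle => ?_)
    (fun i j hij g hg g' hg' => ((y i).commute_comp h (y j) (hne i j hij)).1 g hg g' hg')
    (fun i j => ?_) (fun i => com (y i).fr.d) (fun i => (y i).fr.com_sup (y i).hS (y i).hq) (fun i => ?_)
    (fun i j hij => ((y j).commute_comp h (y i) (hne j i (Ne.symm hij))).2) (fun i => Or.inl ?_)
  · exact (y i).n_not_M h (hle (y i).fr.n_mem)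
  · refine ⟨τ j * (τ i)⁻¹, mul_mem (hτ j) (inv_mem (hτ i)), ?_⟩
    rw [← cj_mul, inv_mul_cancel_right]
  · exact le_iSup₂_of_le _ (y i).fr.d_mem le_rfl
  · obtain ⟨k, hk⟩ := IsPGroup.iff_card.1 (y i).hB.pgroup
    refine ⟨(y i).fr.F, (y i).fr.fld, (y i).fr.fin, k, (y i).fr.ρ, (y i).fr.ψ, ?_,
      (y i).fr.card.trans hk, (y i).fr.surj, (y i).fr.ker, (y i).fr.compat⟩
    rcases Nat.eq_zero_or_pos k with rfl | hk'
    · have := (y i).hq
      rw [hk, pow_zero] at this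
      omega
    · exact hk'

end MinPar

end CfsgLib.LocalEven.MinPar
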