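import Cfsg.Agent.Lib.LocalEven.MinPar.Basic

/-!
Two minimal offenders generating a `p`-group commute.
-/

set_option autoImplicit false

namespace CfsgLib.LocalEven.MinPar

open CfsgLib.LocalEven.PGV CfsgLib.LocalEven.OffenderSL2

universe v

variable {W : Type v} [AddCommGroup W] [Finite W] {p : ℕ} [Fact p.Prime] {P M T A B : Subgroup (Γ W)}

namespace MinPar

variable (h : MinPar p P M T)
include h

/-- The commutator space of a nontrivial element of a minimal offender `A` has `|A|` elements. -/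
theorem card_com (hA : Off p P A) {a : Γ W} (ha : a ∈ A) (ha1 : a ≠ 1) :
    Nat.card (com a) = Nat.card A := by
  have hk : (der a).ker = fix A := by
    ext w
    rw [AddMonoidHom.mem_ker]
    show a • w - w = 0 ↔ _
    rw [sub_eq_zero]
    exact ⟨h.fixElem hA ha ha1, fun e => e a ha⟩
  refine Nat.eq_of_mul_eq_mul_right (Nat.card_pos : 0 < Nat.card (fix A)) ?_
  rw [h.exact hA, AddSubgroup.card_eq_card_quotient_mul_card_addSubgroup (der a).ker, hk]
  congr 1
  rw [← hk]
  exact Nat.card_congr (QuotientAddGroup.quotientKerEquivRange (der a)).toEquiv.symm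

omit h in
theorem inv_sub {x : Γ W} {w : W} (hfix : x • (x • w - w) = x • w - w) :
    x⁻¹ • w - w = -(x • w - w) := by
  have e : x⁻¹ • (x • w - w) = x • w - w := by rw [inv_smul_eq_iff, hfix]
  rw [smul_sub, inv_smul_smul] at e
  rw [← e, neg_sub]

/-- A minimal offender normalising another one is not moved by it to a commuting conjugate. -/
theorem cj_eq_of_normalizes (hA : Off p P A) (hB : Off p P B) (hAB : ∀ a ∈ A, cj a B = B)
    {b : Γ W} (hb : b ∈ B) (hc : ∀ x ∈ A, ∀ y ∈ cj b A, Commute x y) : cj b A = A := by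
  classical
  by_contra hne
  have hbP : b ∈ P := hB.AP hb
  have hA' := hA.conj hbP
  have hk : ∀ a ∈ A, a * (b * a⁻¹ * b⁻¹) ∈ B := fun a ha => by
    rw [show a * (b * a⁻¹ * b⁻¹) = a * b * a⁻¹ * b⁻¹ by group]
    refine mul_mem ?_ (inv_mem hb)
    rw [← hAB a ha]
    exact conj_mem_cj hb
  let κ : A →* B :=
    { toFun := fun a => ⟨(a : Γ W) * (b * (a : Γ W)⁻¹ * b⁻¹), hk a a.2⟩
      map_one' := Subtype.ext (by simp)
      map_mul' := fun x y => Subtype.ext (by
        show (x : Γ W) * y * (b * ((x : Γ W) * y)⁻¹ * b⁻¹) =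
          (x : Γ W) * (b * (x : Γ W)⁻¹ * b⁻¹) * ((y : Γ W) * (b * (y : Γ W)⁻¹ * b⁻¹))
        have e1 : ((x : Γ W) * y)⁻¹ = (x : Γ W)⁻¹ * (y : Γ W)⁻¹ := by
          rw [(commute_of_mem hA.el x.2 y.2).eq, mul_inv_rev]
        have e2 := (hc y y.2 (b * (x : Γ W)⁻¹ * b⁻¹) (conj_mem_cj (inv_mem x.2))).eq
        calc (x : Γ W) * y * (b * ((x : Γ W) * y)⁻¹ * b⁻¹)
            = (x : Γ W) * ((y : Γ W) * (b * (x : Γ W)⁻¹ * b⁻¹)) * (b * (y : Γ W)⁻¹ * b⁻¹) := by
              rw [e1]; group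
          _ = _ := by rw [e2]; group) }
  have hκ : Function.Injective κ := (injective_iff_map_eq_one κ).2 fun a ha => by
    have e : (a : Γ W) * (b * (a : Γ W)⁻¹ * b⁻¹) = 1 := congrArg Subtype.val ha
    have h1 : (a : Γ W) = b * a * b⁻¹ := by
      exact (mul_eq_one_iff_eq_inv.1 e).trans (by group)
    have h2 : (a : Γ W) ∈ A ⊓ cj b A := ⟨a.2, h1 ▸ conj_mem_cj a.2⟩
    rw [h.inf_eq_bot hA hA' (Ne.symm hne), Subgroup.mem_bot] at h2
    exact Subtype.ext h2
  have hle : Nat.card A ≤ Nat.card B := Nat.card_le_card_of_injective κ hκ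
  have hge : Nat.card B ≤ Nat.card A := by
    obtain ⟨a, ha, ha1⟩ := (Subgroup.bot_or_exists_ne_one A).resolve_left hA.A1
    -- `b` fixes `[W, a]`
    have hfix : ∀ δ ∈ com a, b • δ = δ := by
      rintro δ hδ
      obtain ⟨w, rfl⟩ := mem_com.1 hδ
      obtain ⟨n₀, hn₀, n', hn', rfl⟩ :=
        AddSubgroup.mem_sup.1 (h.sup_fix_eq_top hA hA' (Ne.symm hne) hc ▸ AddSubgroup.mem_top w)
      set n := b⁻¹ • n' with hn
      have hnA : n ∈ fix A := mem_fix_cj.1 hn'
      have hbn : b • n = n' := smul_inv_smul b n'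
      have hε : b • (b • n - n) = b • n - n := h.quadratic hB hb n b hb
      have hbin : b⁻¹ • n = n - (b • n - n) := by rw [inv_smul_eq_iff, smul_sub, hε]; abel
      have ha'' : b * a⁻¹ * b⁻¹ ∈ cj b A := conj_mem_cj (inv_mem ha)
      have hai : a⁻¹ • n' - n' = -(a • n' - n') := inv_sub (h.quadratic hA ha n' a ha)
      have hani : a⁻¹ • n = n := hnA _ (inv_mem ha)
      have e1 : (b * a⁻¹ * b⁻¹) • n = n + b • (a • n' - n') := by
        have e : a⁻¹ • b⁻¹ • n - b⁻¹ • n = a • n' - n' := by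
          rw [hbin, smul_sub, smul_sub, hani, hbn]
          have : a⁻¹ • n' - n' = -(a • n' - n') := hai
          rw [← neg_neg (a • n' - n'), ← this]
          abel
        rw [← e, smul_sub, smul_inv_smul, mul_smul, mul_smul]
        abel
      have hbd : b • (a • n' - n') ∈ fix A :=
        (h.sub_mem_of_commute hA' hA hne (fun x hx y hy => (hc y hy x hx).symm) ha'' n |>
          fun t => by rwa [e1, add_sub_cancel_left] at t)
      have hk1 : (a * (b * a⁻¹ * b⁻¹)) • (b • n - n) = b • n - n := h.quadratic hB hb n _ (hk a ha)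
      have e2 : (a * (b * a⁻¹ * b⁻¹)) • n = n + b • (a • n' - n') := by
        rw [mul_smul, e1, smul_add, hnA a ha, hbd a ha]
      have e3 : (a * (b * a⁻¹ * b⁻¹)) • n' = a • n' := by rw [mul_smul, hn' _ ha'']
      rw [smul_sub, hbn, e2, e3] at hk1
      have hδ : b • (a • n' - n') = a • n' - n' := by
        calc b • (a • n' - n') = (a • n' - (n' - n)) - n := by rw [← hk1]; abel
          _ = _ := by abel
      rwa [smul_add, hn₀ a ha, add_sub_add_left_eq_sub]
    set k := a * (b * a⁻¹ * b⁻¹) with hkdef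
    have hk1 : k ≠ 1 := fun e => ha1 (congrArg Subtype.val
      ((injective_iff_map_eq_one κ).1 hκ ⟨a, ha⟩ (Subtype.ext e)))
    rw [← h.card_com hB (hk a ha) hk1, ← h.card_com hA ha ha1]
    refine AddSubgroup.card_le_of_le ?_
    rintro _ ⟨w, rfl⟩
    show k • w - w ∈ com a
    have ha'' : b * a⁻¹ * b⁻¹ ∈ cj b A := conj_mem_cj (inv_mem ha)
    have e1 : (b * a⁻¹ * b⁻¹) • w - w ∈ com a := by
      have e : (b * a⁻¹ * b⁻¹) • w - w = b • (a⁻¹ • b⁻¹ • w - b⁻¹ • w) := by
        rw [smul_sub, smul_inv_smul, mul_smul, mul_smul]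
      have hm : a⁻¹ • b⁻¹ • w - b⁻¹ • w ∈ com a := by
        rw [inv_sub (h.quadratic hA ha _ a ha)]
        exact neg_mem (com_mem a _)
      rw [e, hfix _ hm]
      exact hm
    have e : k • w - w = a • ((b * a⁻¹ * b⁻¹) • w - w) + (a • w - w) := by
      rw [hkdef, mul_smul, smul_sub]; abel
    rw [e, h.sub_mem_of_commute hA' hA hne (fun x hx y hy => (hc y hy x hx).symm) ha'' w a ha]
    exact add_mem e1 (com_mem a w)
  obtain ⟨⟨a, ha⟩, he⟩ := ((Nat.bijective_iff_injective_and_card κ).2 ⟨hκ, le_antisymm hle hge⟩).2 ⟨b, hb⟩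
  have he' : a * (b * a⁻¹ * b⁻¹) = b := congrArg Subtype.val he
  refine hne ?_
  have hcb : ∀ x ∈ A, x * b = b * x := fun x hx => by
    rw [← he', ← mul_assoc, (commute_of_mem hA.el hx ha).eq, mul_assoc,
      (hc x hx _ (conj_mem_cj (inv_mem ha))).eq, ← mul_assoc]
  ext x
  rw [mem_cj]
  constructor
  · intro hx
    have := hcb _ hx
    have e : b⁻¹ * x * b = x := mul_right_cancel (b := b) (by rw [this]; group)
    rwa [e] at hx
  · intro hx
    rwa [mul_assoc, hcb x hx, ← mul_assoc, inv_mul_cancel, one_mul]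

/-- Two minimal offenders generating a `p`-group commute. -/
theorem commute_of_pgroup (hA : Off p P A) (hB : Off p P B) (hX : IsPGroup p ↥(A ⊔ B)) :
    ∀ a ∈ A, ∀ b ∈ B, Commute a b := by
  suffices key : ∀ n : ℕ, ∀ A B, Off p P A → Off p P B → IsPGroup p ↥(A ⊔ B) →
      Nat.card ↥(A ⊔ B) ≤ n → ∀ a ∈ A, ∀ b ∈ B, Commute a b from key _ A B hA hB hX le_rfl
  intro n
  induction n with
  | zero => intro A B _ _ _ h0; exact absurd h0 (not_le.2 Nat.card_pos)
  | succ n ih =>
    intro A B hA hB hX hn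
    by_cases hBA : B ≤ A
    · exact fun a ha b hb => commute_of_mem hA.el ha (hBA hb)
    by_cases hAB : A ≤ B
    · exact fun a ha b hb => commute_of_mem hB.el (hAB ha) hb
    -- conjugates of `A` in `A ⊔ B` commute
    have conjs : ∀ {A B : Subgroup (Γ W)}, Off p P A → Off p P B → IsPGroup p ↥(A ⊔ B) →
        Nat.card ↥(A ⊔ B) ≤ n + 1 → ¬ B ≤ A → ∀ x ∈ A ⊔ B, ∀ y ∈ A, ∀ z ∈ cj x A, Commute y z := by
      intro A B hA hB hX hn hBA x hx
      have hxP : x ∈ P := (sup_le hA.AP hB.AP) hx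
      haveI : Group.IsNilpotent ↥(A ⊔ B) := hX.isNilpotent
      have hAne : A.subgroupOf (A ⊔ B) ≠ ⊤ := fun e =>
        hBA (le_sup_right.trans (Subgroup.subgroupOf_eq_top.1 e))
      obtain ⟨K, hK, hAK⟩ := (eq_top_or_exists_le_coatom (A.subgroupOf (A ⊔ B))).resolve_left hAne
      have hKn : K.Normal := Subgroup.NormalizerCondition.normal_of_coatom K
        Group.normalizerCondition_of_isNilpotent hK
      have hle : A ⊔ cj x A ≤ K.map (A ⊔ B).subtype := by
        refine sup_le (fun a ha => ⟨⟨a, Subgroup.mem_sup_left ha⟩, hAK ha, rfl⟩) ?_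
        rintro _ ⟨a, ha, rfl⟩
        exact ⟨⟨x, hx⟩ * ⟨a, Subgroup.mem_sup_left ha⟩ * ⟨x, hx⟩⁻¹,
          hKn.conj_mem _ (hAK (show (⟨a, Subgroup.mem_sup_left ha⟩ : ↥(A ⊔ B)) ∈ A.subgroupOf (A ⊔ B) from ha)) _, rfl⟩
      refine ih A (cj x A) hA (hA.conj hxP) (hX.to_le (hle.trans (Subgroup.map_subtype_le K))) ?_
      have hKlt : Nat.card (K.map (A ⊔ B).subtype) < Nat.card ↥(A ⊔ B) := by
        by_contra hc
        refine hK.1 ?_
        have e := Subgroup.eq_of_le_of_card_ge (Subgroup.map_subtype_le K) (not_lt.1 hc)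
        exact Subgroup.map_injective (A ⊔ B).subtype_injective (by
          rw [e, ← MonoidHom.range_eq_map, Subgroup.range_subtype])
      have := Subgroup.card_le_of_le hle
      omega
    have cA := conjs hA hB hX hn hBA
    have cB := conjs hB hA (by rwa [sup_comm]) (by rwa [sup_comm]) hAB
    have norm : ∀ {C D : Subgroup (Γ W)}, Off p P C → Off p P D →
        (∀ x ∈ C ⊔ D, ∀ y ∈ C, ∀ z ∈ cj x C, Commute y z) →
        (∀ x ∈ D ⊔ C, ∀ y ∈ D, ∀ z ∈ cj x D, Commute y z) →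
        (∃ a ∈ C, cj a D ≠ D) → ∀ b ∈ D, cj b C = C := by
      intro C D hC hD cC cD hex b hb
      obtain ⟨a, ha, haD⟩ := hex
      set I : AddSubgroup W := ⨅ x ∈ C ⊔ D, fix (cj x C) with hI
      have hcomI : ∀ w : W, ∀ c ∈ C, c • w - w ∈ I := by
        intro w c hc
        simp only [hI, AddSubgroup.mem_iInf]
        intro x hx
        by_cases e : cj x C = C
        · rw [e]; exact h.quadratic hC hc w
        · exact h.sub_mem_of_commute hC (hC.conj (sup_le hC.AP hD.AP hx)) (Ne.symm e) (cC x hx) hc w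
      have hIC : ∀ w ∈ I, w ∈ fix C := by
        intro w hw
        simp only [hI, AddSubgroup.mem_iInf] at hw
        have := hw 1 (one_mem _)
        rwa [cj_one] at this
      have hIinv : ∀ y ∈ C ⊔ D, ∀ w ∈ I, y • w ∈ I := by
        intro y hy w hw
        simp only [hI, AddSubgroup.mem_iInf] at hw ⊢
        intro x hx
        have := hw (y⁻¹ * x) (mul_mem (inv_mem hy) hx)
        rwa [mem_fix_cj_mul, inv_inv] at this
      refine h.cj_eq_of_smul_fix hC (hD.AP hb) fun w hw => ?_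
      have htop := h.sup_fix_eq_top hD (hD.conj (hC.AP ha)) (Ne.symm haD)
        (cD a (Subgroup.mem_sup_right ha))
      obtain ⟨n₁, hn₁, u, hu, hnu⟩ := AddSubgroup.mem_sup.1 (htop ▸ AddSubgroup.mem_top w)
      set n₂ := a⁻¹ • u with hn₂
      have hn₂' : n₂ ∈ fix D := mem_fix_cj.1 hu
      set i := a • n₂ - n₂ with hidef
      have hi : i ∈ I := hcomI n₂ a ha
      have e : w = (n₁ + n₂) + i := by rw [← hnu, hidef, hn₂, smul_inv_smul]; abel
      rw [e, smul_add, (add_mem hn₁ hn₂' : n₁ + n₂ ∈ fix D) b hb]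
      have h1 : n₁ + n₂ ∈ fix C := by
        have : n₁ + n₂ = w - i := by rw [e]; abel
        rw [this]; exact sub_mem hw (hIC _ hi)
      exact add_mem h1 (hIC _ (hIinv b (Subgroup.mem_sup_right hb) _ hi))
    have hAB' : (∀ a ∈ A, cj a B = B) ∧ (∀ b ∈ B, cj b A = A) := by
      by_cases e1 : ∀ a ∈ A, cj a B = B
      · exact ⟨e1, fun b hb => h.cj_eq_of_normalizes hA hB e1 hb (cA b (Subgroup.mem_sup_right hb))⟩
      · push Not at e1
        have e2 := norm hA hB cA cB e1
        exact ⟨fun a ha => h.cj_eq_of_normalizes hB hA e2 ha (cB a (Subgroup.mem_sup_right ha)), e2⟩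
    intro a ha b hb
    by_cases hne : A = B
    · exact commute_of_mem hA.el ha (hne ▸ hb)
    have h1 : a * b * a⁻¹ * b⁻¹ ∈ A ⊓ B := by
      refine ⟨?_, B.mul_mem ?_ (B.inv_mem hb)⟩
      · rw [show a * b * a⁻¹ * b⁻¹ = a * (b * a⁻¹ * b⁻¹) by group]
        refine mul_mem ha ?_
        rw [← hAB'.2 b hb]
        exact conj_mem_cj (inv_mem ha)
      · rw [← hAB'.1 a ha]
        exact conj_mem_cj hb
    rw [h.inf_eq_bot hA hB hne, Subgroup.mem_bot] at h1
    rwa [mul_inv_eq_one, mul_inv_eq_iff_eq_mul] at h1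

/-- Minimal offenders in `T` commute. -/
theorem commute_of_le (hA : Off p P A) (hB : Off p P B) (hAT : A ≤ T) (hBT : B ≤ T) :
    ∀ a ∈ A, ∀ b ∈ B, Commute a b :=
  h.commute_of_pgroup hA hB (h.hT.to_le (sup_le hAT hBT))

end MinPar

end CfsgLib.LocalEven.MinPar
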