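import Cfsg.Agent.Lib.LocalEven.MinPar.Transvection
import Cfsg.Agent.Lib.LocalEven.MinPar.Decomp

/-!
Systems of transvection centres of the shape `uᵢ + uⱼ`: the transvections of a maximal one generate a
symmetric group; for odd degree `W` is its even-weight module extended by fixed points.
-/

set_option autoImplicit false

namespace CfsgLib.LocalEven.MinPar

open CfsgLib.LocalEven.PGV CfsgLib.LocalEven.OffenderSL2 Equiv

universe v

variable {W : Type v} [AddCommGroup W] {P M T : Subgroup (Γ W)}

/-- The Kronecker symbol in `ZMod 2`. -/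
def dlt {ι : Type*} [DecidableEq ι] (a b : ι) : ZMod 2 := if a = b then 1 else 0

/-- Centres indexed by the pairs of `Fin m`. -/
structure Emb (P : Subgroup (Γ W)) {m : ℕ} (u : Fin m → W) : Prop where
  mem : ∀ i j, i ≠ j → u i + u j ∈ Cn P
  form : ∀ i j k l, i ≠ j → Bf P (u i + u j) (u k + u l) = dlt i k + dlt i l + dlt j k + dlt j l
  inj : ∀ i j k l, i ≠ j → k ≠ l → u i + u j = u k + u l → (i = k ∧ j = l) ∨ (i = l ∧ j = k)

/-- The centres of a system. -/
def cset {m : ℕ} (u : Fin m → W) : Set W := {x | ∃ i j, i ≠ j ∧ u i + u j = x}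

/-- No further centre meets the system. -/
def Closed (P : Subgroup (Γ W)) {m : ℕ} (u : Fin m → W) : Prop :=
  ∀ x ∈ Cn P, x ∉ cset u → ∀ y ∈ cset u, Bf P x y = 0

/-- The group generated by the transvections of a system. -/
def grp (P : Subgroup (Γ W)) {m : ℕ} (u : Fin m → W) : Subgroup (Γ W) :=
  Subgroup.closure (tvOf P '' cset u)

/-- The elements of `P` permuting the indices. -/
def stabP (P : Subgroup (Γ W)) {m : ℕ} (u : Fin m → W) : Subgroup (Γ W) where
  carrier := {g | g ∈ P ∧ ∃ σ : Perm (Fin m), ∀ i j, g • (u i + u j) = u (σ i) + u (σ j)}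
  one_mem' := ⟨one_mem P, 1, fun i j => by simp⟩
  mul_mem' := fun {a b} ⟨ha, σ, hσ⟩ ⟨hb, τ, hτ⟩ => ⟨mul_mem ha hb, σ * τ, fun i j => by
    rw [mul_smul, hτ, hσ]; rfl⟩
  inv_mem' := fun {a} ⟨ha, σ, hσ⟩ => ⟨inv_mem ha, σ⁻¹, fun i j => by
    rw [inv_smul_eq_iff, hσ]; simp⟩

theorem exists_third {m : ℕ} (hm : 3 ≤ m) (a b : Fin m) : ∃ k, k ≠ a ∧ k ≠ b := by
  by_contra hcon
  push Not at hcon
  have hsub : (Finset.univ : Finset (Fin m)) ⊆ {a, b} := fun k _ => by
    by_cases hk : k = a
    · simp [hk]
    · simp [hcon k hk]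
  have := (Finset.card_le_card hsub).trans Finset.card_le_two
  simp at this
  omega

theorem dlt_self {ι : Type*} [DecidableEq ι] (a : ι) : dlt a a = 1 := if_pos rfl

theorem dlt_ne {ι : Type*} [DecidableEq ι] {a b : ι} (h : a ≠ b) : dlt a b = 0 := if_neg h

theorem dlt_comm {ι : Type*} [DecidableEq ι] (a b : ι) : dlt a b = dlt b a := by
  unfold dlt; split_ifs <;> simp_all

theorem dlt_apply {m : ℕ} (σ : Perm (Fin m)) (a b : Fin m) : dlt (σ a) (σ b) = dlt a b := by
  unfold dlt; simp

variable [Finite W] {m : ℕ} {u : Fin m → W} (h : MinPar 2 P M T)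
include h

theorem add_pair (a b c : W) : (a + b) + (a + c) = b + c := by
  rw [show (a + b) + (a + c) = b + c + (a + a) by abel, h.add_self, add_zero]

namespace Emb

variable (hu : Emb P u)
include hu

theorem cut {x : W} (hx : x ∈ Cn P) (hxu : x ∉ cset u) (hne : ∃ y ∈ cset u, Bf P x y ≠ 0) :
    ∃ i, ∀ k l, Bf P x (u k + u l) = dlt i k + dlt i l := by
  classical
  haveI : Fact (Nat.Prime 2) := ⟨Nat.prime_two⟩
  obtain ⟨_, ⟨a, c, hac, rfl⟩, hy⟩ := hne
  rw [h.Bf_add hx] at hy
  have hnac : Bf P x (u a) ≠ Bf P x (u c) := fun e => hy (by rw [e]; exact CharTwo.add_self_eq_zero _)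
  have hor : (∀ k, k ≠ a → Bf P x (u k) = Bf P x (u c)) ∨ (∀ k, k ≠ c → Bf P x (u k) = Bf P x (u a)) := by
    by_contra hcon
    rw [not_or] at hcon
    obtain ⟨hc1, hc2⟩ := hcon
    push Not at hc1 hc2
    obtain ⟨b, hba, hbc⟩ := hc1
    obtain ⟨e, hec, hea⟩ := hc2
    have gb : Bf P x (u b) = Bf P x (u a) := by
      revert hbc hnac
      generalize Bf P x (u b) = q
      generalize Bf P x (u a) = r
      generalize Bf P x (u c) = s
      revert q r s; decide
    have ge : Bf P x (u e) = Bf P x (u c) := by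
      revert hea hnac
      generalize Bf P x (u e) = q
      generalize Bf P x (u a) = r
      generalize Bf P x (u c) = s
      revert q r s; decide
    have hbne : b ≠ e := fun e' => hnac (by rw [← gb, ← ge, e'])
    have hbc' : b ≠ c := fun e' => hbc (by rw [e'])
    have hea' : e ≠ a := fun e' => hea (by rw [e'])
    have hab := hu.mem a b (Ne.symm hba)
    have hce := hu.mem c e (Ne.symm hec)
    refine h.no_star hab hx hce (hu.mem a c hac) ?_ ?_ ?_ (fun e' => hxu ⟨a, b, Ne.symm hba, e'⟩)
      (fun e' => ?_) (fun e' => hxu ⟨c, e, Ne.symm hec, e'.symm⟩) ?_ ?_ ?_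
    · rw [h.Bf_symm hab hx, h.Bf_add hx, gb, CharTwo.add_self_eq_zero]
    · rw [hu.form a b c e (Ne.symm hba), dlt_ne hac, dlt_ne (Ne.symm hea'), dlt_ne hbc', dlt_ne hbne]
      simp
    · rw [h.Bf_add hx, ge, CharTwo.add_self_eq_zero]
    · rcases hu.inj a b c e (Ne.symm hba) (Ne.symm hec) e' with ⟨e1, -⟩ | ⟨e1, -⟩
      · exact hac e1
      · exact hea' e1.symm
    · rw [hu.form a b a c (Ne.symm hba), dlt_self, dlt_ne hac, dlt_ne hba, dlt_ne hbc']
      simp
    · rw [h.Bf_add hx]
      exact (zmod2_cases _).resolve_left hy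
    · rw [hu.form c e a c (Ne.symm hec), dlt_self, dlt_ne (Ne.symm hac), dlt_ne hea', dlt_ne hec]
      simp
  rcases hor with hi | hi
  · refine ⟨a, fun k l => ?_⟩
    rw [h.Bf_add hx]
    revert hnac
    by_cases hk : k = a <;> by_cases hl : l = a <;>
      (first
        | simp only [dlt_ne (Ne.symm hk), dlt_ne (Ne.symm hl), hi k hk, hi l hl]
        | simp only [hk, dlt_self, dlt_ne (Ne.symm hl), hi l hl]
        | simp only [hl, dlt_self, dlt_ne (Ne.symm hk), hi k hk]
        | simp only [hk, hl, dlt_self]) <;>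
      generalize Bf P x (u a) = r <;> generalize Bf P x (u c) = s <;> revert r s <;> decide
  · refine ⟨c, fun k l => ?_⟩
    rw [h.Bf_add hx]
    revert hnac
    by_cases hk : k = c <;> by_cases hl : l = c <;>
      (first
        | simp only [dlt_ne (Ne.symm hk), dlt_ne (Ne.symm hl), hi k hk, hi l hl]
        | simp only [hk, dlt_self, dlt_ne (Ne.symm hl), hi l hl]
        | simp only [hl, dlt_self, dlt_ne (Ne.symm hk), hi k hk]
        | simp only [hk, hl, dlt_self]) <;>
      generalize Bf P x (u a) = r <;> generalize Bf P x (u c) = s <;> revert r s <;> decide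

theorem extend {x : W} (hx : x ∈ Cn P) (hxu : x ∉ cset u) {i : Fin m}
    (hi : ∀ k l, Bf P x (u k + u l) = dlt i k + dlt i l) : Emb P (Fin.cons (x + u i) u : Fin (m + 1) → W) := by
  classical
  haveI : Fact (Nat.Prime 2) := ⟨Nat.prime_two⟩
  have hsum : ∀ j, (x + u i) + u j = x + (u i + u j) := fun j => add_assoc _ _ _
  have hone : ∀ j, j ≠ i → Bf P x (u i + u j) = 1 := fun j hj => by
    rw [hi, dlt_self, dlt_ne (Ne.symm hj)]; simp
  have hmem : ∀ j, (x + u i) + u j ∈ Cn P := fun j => by
    rw [hsum]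
    by_cases hj : j = i
    · rw [hj, h.add_self, add_zero]; exact hx
    · exact (h.add_mem_cn hx (hu.mem i j (Ne.symm hj)) (hone j hj)).1
  have hform : ∀ j k l, Bf P ((x + u i) + u j) (u k + u l) = dlt j k + dlt j l := fun j k l => by
    rw [hsum]
    by_cases hj : j = i
    · rw [hj, h.add_self, add_zero, hi]
    · rw [(h.add_mem_cn hx (hu.mem i j (Ne.symm hj)) (hone j hj)).2, hi, hu.form i j k l (Ne.symm hj)]
      have e1 := CharTwo.add_self_eq_zero (dlt i k : ZMod 2)
      have e2 := CharTwo.add_self_eq_zero (dlt i l : ZMod 2)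
      linear_combination e1 + e2
  have hnew2 : ∀ j l, Bf P ((x + u i) + u j) ((x + u i) + u l) = if j = l then 0 else 1 := fun j l => by
    by_cases hjl : j = l
    · rw [if_pos hjl, hjl, h.Bf_self (hmem l)]
    · rw [if_neg hjl, show (x + u i) + u l = ((x + u i) + u j) + (u j + u l) by
        rw [show ((x + u i) + u j) + (u j + u l) = (x + u i) + u l + (u j + u j) by abel, h.add_self, add_zero],
        h.Bf_add (hmem j), h.Bf_self (hmem j), hform, dlt_self, dlt_ne hjl]
      simp
  refine ⟨fun a b hab => ?_, fun a b k l hab => ?_, fun a b k l hab hkl e => ?_⟩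
  · induction a using Fin.cases with
    | zero =>
      induction b using Fin.cases with
      | zero => exact absurd rfl hab
      | succ b => simp only [Fin.cons_zero, Fin.cons_succ]; exact hmem b
    | succ a =>
      induction b using Fin.cases with
      | zero => simp only [Fin.cons_zero, Fin.cons_succ]; rw [add_comm]; exact hmem a
      | succ b => simp only [Fin.cons_succ]; exact hu.mem a b fun e => hab (by rw [e])
  · have key1 : ∀ (b : Fin m) (k l : Fin (m + 1)),
        Bf P ((x + u i) + u b) ((Fin.cons (x + u i) u : Fin (m + 1) → W) k + (Fin.cons (x + u i) u : Fin (m + 1) → W) l) =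
          dlt 0 k + dlt 0 l + dlt b.succ k + dlt b.succ l := by
      intro b k l
      induction k using Fin.cases with
      | zero =>
        induction l using Fin.cases with
        | zero =>
          simp only [Fin.cons_zero]
          rw [h.add_self, h.Bf_zero (hmem b), dlt_self, dlt_ne (Fin.succ_ne_zero b)]
          simp [CharTwo.add_self_eq_zero]
        | succ l =>
          simp only [Fin.cons_zero, Fin.cons_succ]
          rw [hnew2, dlt_self, dlt_ne (Fin.succ_ne_zero l).symm, dlt_ne (Fin.succ_ne_zero b)]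
          by_cases hbl : b = l <;> simp [dlt, hbl, CharTwo.add_self_eq_zero]
      | succ k =>
        induction l using Fin.cases with
        | zero =>
          simp only [Fin.cons_zero, Fin.cons_succ]
          rw [add_comm (u k), hnew2, dlt_self, dlt_ne (Fin.succ_ne_zero k).symm, dlt_ne (Fin.succ_ne_zero b)]
          by_cases hbl : b = k <;> simp [dlt, hbl, CharTwo.add_self_eq_zero]
        | succ l =>
          simp only [Fin.cons_succ]
          rw [hform, dlt_ne (Fin.succ_ne_zero k).symm, dlt_ne (Fin.succ_ne_zero l).symm]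
          simp [dlt]
    induction a using Fin.cases with
    | zero =>
      induction b using Fin.cases with
      | zero => exact absurd rfl hab
      | succ b => simp only [Fin.cons_zero, Fin.cons_succ]; exact key1 b k l
    | succ a =>
      induction b using Fin.cases with
      | zero =>
        simp only [Fin.cons_zero, Fin.cons_succ]
        rw [add_comm (u a), key1 a k l]
        ring
      | succ b =>
        have hab' : a ≠ b := fun e => hab (by rw [e])
        have hm' := hu.mem a b hab'
        simp only [Fin.cons_succ]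
        induction k using Fin.cases with
        | zero =>
          induction l using Fin.cases with
          | zero =>
            simp only [Fin.cons_zero]
            rw [h.add_self, h.Bf_zero hm', dlt_ne (Fin.succ_ne_zero a), dlt_ne (Fin.succ_ne_zero b)]
            simp
          | succ l =>
            simp only [Fin.cons_zero, Fin.cons_succ]
            rw [h.Bf_symm hm' (hmem l), hform, dlt_ne (Fin.succ_ne_zero a), dlt_ne (Fin.succ_ne_zero b)]
            simp [dlt, eq_comm]
        | succ k =>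
          induction l using Fin.cases with
          | zero =>
            simp only [Fin.cons_zero, Fin.cons_succ]
            rw [add_comm (u k), h.Bf_symm hm' (hmem k), hform, dlt_ne (Fin.succ_ne_zero a),
              dlt_ne (Fin.succ_ne_zero b)]
            simp [dlt, eq_comm]
          | succ l =>
            simp only [Fin.cons_succ]
            rw [hu.form a b k l hab']
            simp [dlt]
  · have hold : ∀ j k l, k ≠ l → (x + u i) + u j ≠ u k + u l := fun j k l hkl e' => by
      by_cases hj : j = i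
      · refine hxu ⟨k, l, hkl, ?_⟩
        rw [← e', hj, add_assoc, h.add_self, add_zero]
      have h1 : Bf P x ((x + u i) + u j) = 1 := by
        rw [hsum, h.Bf_add hx, h.Bf_self hx, hone j hj, zero_add]
      rw [e', hi] at h1
      have main : ∀ l, i ≠ l → (x + u i) + u j = u i + u l → False := fun l hil e'' => by
        have hx' : x = u j + u l := by
          calc x = ((x + u i) + u j) + (u i + u j) := by
                rw [show ((x + u i) + u j) + (u i + u j) = x + ((u i + u j) + (u i + u j)) by abel,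
                  h.add_self, add_zero]
            _ = (u i + u l) + (u i + u j) := by rw [e'']
            _ = _ := by rw [add_pair h, add_comm]
        by_cases hjl : j = l
        · exact hx.1 (by rw [hx', hjl, h.add_self])
        · exact hxu ⟨j, l, hjl, hx'.symm⟩
      by_cases hki : i = k
      · exact main l (fun e'' => hkl (hki ▸ e'')) (hki.symm ▸ e')
      by_cases hli : i = l
      · exact main k hki (by rw [add_comm (u i), e', ← hli])
      rw [dlt_ne hki, dlt_ne hli, add_zero] at h1
      exact zero_ne_one h1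
    have hnn : ∀ j l, (x + u i) + u j = (x + u i) + u l → j = l := fun j l e' => by
      by_contra hjl
      exact (hu.mem j l hjl).1 (by rw [add_left_cancel e', h.add_self])
    induction a using Fin.cases with
    | zero =>
      induction b using Fin.cases with
      | zero => exact absurd rfl hab
      | succ b =>
        induction k using Fin.cases with
        | zero =>
          induction l using Fin.cases with
          | zero => exact absurd rfl hkl
          | succ l =>
            simp only [Fin.cons_zero, Fin.cons_succ] at e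
            exact Or.inl ⟨rfl, by rw [hnn b l e]⟩
        | succ k =>
          induction l using Fin.cases with
          | zero =>
            simp only [Fin.cons_zero, Fin.cons_succ] at e
            rw [add_comm (u k)] at e
            exact Or.inr ⟨rfl, by rw [hnn b k e]⟩
          | succ l =>
            simp only [Fin.cons_zero, Fin.cons_succ] at e
            exact absurd e (hold b k l fun e' => hkl (by rw [e']))
    | succ a =>
      induction b using Fin.cases with
      | zero =>
        induction k using Fin.cases with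
        | zero =>
          induction l using Fin.cases with
          | zero => exact absurd rfl hkl
          | succ l =>
            simp only [Fin.cons_zero, Fin.cons_succ] at e
            rw [add_comm (u a)] at e
            exact Or.inr ⟨by rw [hnn a l e], rfl⟩
        | succ k =>
          induction l using Fin.cases with
          | zero =>
            simp only [Fin.cons_zero, Fin.cons_succ] at e
            rw [add_comm (u a), add_comm (u k)] at e
            exact Or.inl ⟨by rw [hnn a k e], rfl⟩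
          | succ l =>
            simp only [Fin.cons_zero, Fin.cons_succ] at e
            rw [add_comm (u a)] at e
            exact absurd e (hold a k l fun e' => hkl (by rw [e']))
      | succ b =>
        have hab' : a ≠ b := fun e => hab (by rw [e])
        induction k using Fin.cases with
        | zero =>
          induction l using Fin.cases with
          | zero => exact absurd rfl hkl
          | succ l =>
            simp only [Fin.cons_zero, Fin.cons_succ] at e
            exact absurd e.symm (hold l a b hab')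
        | succ k =>
          induction l using Fin.cases with
          | zero =>
            simp only [Fin.cons_zero, Fin.cons_succ] at e
            rw [add_comm (u k)] at e
            exact absurd e.symm (hold k a b hab')
          | succ l =>
            simp only [Fin.cons_succ] at e
            rcases hu.inj a b k l hab' (fun e' => hkl (by rw [e'])) e with ⟨rfl, rfl⟩ | ⟨rfl, rfl⟩
            · exact Or.inl ⟨rfl, rfl⟩
            · exact Or.inr ⟨rfl, rfl⟩

/-- Two closed systems with a common centre have the same centres. -/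
theorem cset_subset {m' : ℕ} {u' : Fin m' → W} (hcl : Closed P u) (hu' : Emb P u') {y : W}
    (hy : y ∈ cset u) (hy' : y ∈ cset u') : cset u' ⊆ cset u := by
  classical
  have hstep : ∀ y ∈ cset u, ∀ z ∈ cset u', y ∈ cset u' → Bf P y z = 1 → z ∈ cset u := by
    intro y hy z hz hy' hyz
    by_contra hzu
    obtain ⟨a, b, hab, rfl⟩ := hz
    obtain ⟨c, d, hcd, rfl⟩ := hy'
    rw [h.Bf_symm (hu'.mem c d hcd) (hu'.mem a b hab), hcl _ (hu'.mem a b hab) hzu _ hy] at hyz
    exact zero_ne_one hyz
  rintro z ⟨a, b, hab, rfl⟩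
  obtain ⟨c, d, hcd, rfl⟩ := hy'
  by_cases heq : ({a, b} : Finset (Fin m')) = {c, d}
  · have h1 : a ∈ ({c, d} : Finset (Fin m')) := by rw [← heq]; simp
    have h2 : b ∈ ({c, d} : Finset (Fin m')) := by rw [← heq]; simp
    simp only [Finset.mem_insert, Finset.mem_singleton] at h1 h2
    rcases h1 with rfl | rfl <;> rcases h2 with rfl | rfl
    · exact absurd rfl hab
    · exact hy
    · rw [add_comm]; exact hy
    · exact absurd rfl hab
  by_cases hone : Bf P (u' c + u' d) (u' a + u' b) = 1
  · exact hstep _ hy _ ⟨a, b, hab, rfl⟩ ⟨c, d, hcd, rfl⟩ hone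
  rw [hu'.form c d a b hcd] at hone
  have hdisj : c ≠ a ∧ c ≠ b ∧ d ≠ a ∧ d ≠ b := by
    refine ⟨?_, ?_, ?_, ?_⟩ <;> rintro rfl
    · by_cases hdb : d = b
      · exact heq (by rw [hdb])
      · exact hone (by simp [dlt, Ne.symm hcd, hdb, hab])
    · by_cases hda : d = a
      · exact heq (by rw [hda, Finset.pair_comm])
      · exact hone (by simp [dlt, Ne.symm hcd, hda, Ne.symm hab])
    · by_cases hcb : c = b
      · exact heq (by rw [hcb, Finset.pair_comm])
      · exact hone (by simp [dlt, hcd, hcb, hab])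
    · by_cases hca : c = a
      · exact heq (by rw [hca])
      · exact hone (by simp [dlt, hcd, hca, Ne.symm hab])
  obtain ⟨h1, h2, h3, h4⟩ := hdisj
  have hw := hstep _ hy _ (⟨c, a, h1, rfl⟩ : u' c + u' a ∈ cset u') ⟨c, d, hcd, rfl⟩ (by
    rw [hu'.form c d c a hcd]; simp [dlt, h1, Ne.symm hcd, h3])
  exact hstep _ hw _ ⟨a, b, hab, rfl⟩ ⟨c, a, h1, rfl⟩ (by
    rw [hu'.form c a a b h1]; simp [dlt, h1, h2, hab])

/-- Two systems on the same centres differ by a permutation. -/
theorem exists_perm (hm : 3 ≤ m) {u' : Fin m → W} (hu' : Emb P u') (hsub : cset u' ⊆ cset u) :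
    ∃ σ : Perm (Fin m), ∀ i j, u' i + u' j = u (σ i) + u (σ j) := by
  classical
  let o : Fin m := ⟨0, by omega⟩
  obtain ⟨l₁, hl₁, -⟩ := exists_third hm o o
  obtain ⟨l₂, hl₂, hl₂'⟩ := exists_third hm o l₁
  choose fa fb hfab hf using fun (l : Fin m) (hl : l ≠ o) => hsub ⟨o, l, Ne.symm hl, rfl⟩
  have hmeet : ∀ l k (hl : l ≠ o) (hk : k ≠ o), l ≠ k →
      dlt (fa l hl) (fa k hk) + dlt (fa l hl) (fb k hk) + dlt (fb l hl) (fa k hk) + dlt (fb l hl) (fb k hk) = 1 := by
    intro l k hl hk hlk
    rw [← hu.form _ _ _ _ (hfab l hl), hf l hl, hf k hk, hu'.form o l o k (Ne.symm hl)]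
    simp [dlt, Ne.symm hk, hl, hlk]
  obtain ⟨a, b, c, hab, hac, hbc, h1, h2⟩ : ∃ a b c, a ≠ b ∧ a ≠ c ∧ b ≠ c ∧
      u' o + u' l₁ = u a + u b ∧ u' o + u' l₂ = u a + u c := by
    have h0 := hmeet l₁ l₂ hl₁ hl₂ (Ne.symm hl₂')
    have e1 := hf l₁ hl₁
    have e2 := hf l₂ hl₂
    have n1 := hfab l₁ hl₁
    have n2 := hfab l₂ hl₂
    revert h0 e1 e2 n1 n2
    generalize fa l₁ hl₁ = a₁
    generalize fb l₁ hl₁ = b₁
    generalize fa l₂ hl₂ = a₂
    generalize fb l₂ hl₂ = b₂
    intro h0 e1 e2 n1 n2
    by_cases q1 : a₁ = a₂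
    · subst q1
      refine ⟨a₁, b₁, b₂, n1, n2, fun e => ?_, e1.symm, e2.symm⟩
      subst e
      simp [dlt, n1, Ne.symm n1, CharTwo.add_self_eq_zero] at h0
    by_cases q2 : a₁ = b₂
    · subst q2
      refine ⟨a₁, b₁, a₂, n1, Ne.symm n2, fun e => ?_, e1.symm, by rw [← e2, add_comm]⟩
      subst e
      simp [dlt, n1, Ne.symm n1, CharTwo.add_self_eq_zero] at h0
    by_cases q3 : b₁ = a₂
    · subst q3
      exact ⟨b₁, a₁, b₂, Ne.symm n1, n2, q2, by rw [← e1, add_comm], e2.symm⟩
    by_cases q4 : b₁ = b₂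
    · subst q4
      exact ⟨b₁, a₁, a₂, Ne.symm n1, Ne.symm n2, q1, by rw [← e1, add_comm], by rw [← e2, add_comm]⟩
    simp [dlt, q1, q2, q3, q4] at h0
  have hstar : ∀ l, l ≠ o → ∃ f, f ≠ a ∧ u' o + u' l = u a + u f := by
    intro l hl
    by_cases hla : fa l hl = a
    · exact ⟨fb l hl, fun e => hfab l hl (hla.trans e.symm), by rw [← hla, hf]⟩
    by_cases hlb : fb l hl = a
    · exact ⟨fa l hl, hla, by rw [← hlb, add_comm (u (fb l hl)), hf]⟩
    exfalso
    have hne1 : l ≠ l₁ := by
      rintro rfl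
      rcases hu.inj _ _ a b (hfab l hl) hab ((hf l hl).trans h1) with ⟨e, -⟩ | ⟨-, e⟩
      · exact hla e
      · exact hlb e
    have hne2 : l ≠ l₂ := by
      rintro rfl
      rcases hu.inj _ _ a c (hfab l hl) hac ((hf l hl).trans h2) with ⟨e, -⟩ | ⟨-, e⟩
      · exact hla e
      · exact hlb e
    have m1 : dlt (fa l hl) b + dlt (fb l hl) b = 1 := by
      have := hu.form (fa l hl) (fb l hl) a b (hfab l hl)
      rw [hf, ← h1, hu'.form o l o l₁ (Ne.symm hl)] at this
      simp [dlt, Ne.symm hl₁, hl, hne1, hla, hlb] at this ⊢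
      exact this.symm
    have m2 : dlt (fa l hl) c + dlt (fb l hl) c = 1 := by
      have := hu.form (fa l hl) (fb l hl) a c (hfab l hl)
      rw [hf, ← h2, hu'.form o l o l₂ (Ne.symm hl)] at this
      simp [dlt, Ne.symm hl₂, hl, hne2, hla, hlb] at this ⊢
      exact this.symm
    have e : u' o + u' l = u' l₁ + u' l₂ := by
      rw [← add_pair h (u' o) (u' l₁) (u' l₂), h1, h2, add_pair h, ← hf l hl]
      by_cases q : fa l hl = b
      · have q' : fb l hl = c := by
          by_contra q'
          simp [dlt, q', q, hbc] at m2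
        rw [q, q']
      · have q' : fb l hl = b := by
          by_contra q'
          simp [dlt, q, q'] at m1
        have q'' : fa l hl = c := by
          by_contra q''
          simp [dlt, q'', q', hbc] at m2
        rw [q', q'', add_comm]
    rcases hu'.inj o l l₁ l₂ (Ne.symm hl) (Ne.symm hl₂') e with ⟨e', -⟩ | ⟨e', -⟩
    · exact hl₁ e'.symm
    · exact hl₂ e'.symm
  choose f hfa hf' using hstar
  let τ : Fin m → Fin m := fun l => if hl : l = o then a else f l hl
  have hτo : τ o = a := dif_pos rfl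
  have hτ : ∀ l (hl : l ≠ o), τ l = f l hl := fun l hl => dif_neg hl
  have hτinj : Function.Injective τ := by
    intro k l e
    by_cases hk : k = o <;> by_cases hl : l = o
    · rw [hk, hl]
    · rw [hk, hτo, hτ l hl] at e; exact absurd e.symm (hfa l hl)
    · rw [hl, hτo, hτ k hk] at e; exact absurd e (hfa k hk)
    · rw [hτ k hk, hτ l hl] at e
      have e' : u' o + u' k = u' o + u' l := by rw [hf' k hk, hf' l hl, e]
      rcases hu'.inj o k o l (Ne.symm hk) (Ne.symm hl) e' with ⟨-, e''⟩ | ⟨e'', -⟩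
      · exact e''
      · exact absurd e''.symm hl
  refine ⟨Equiv.ofBijective τ (Finite.injective_iff_bijective.1 hτinj), fun i j => ?_⟩
  show u' i + u' j = u (τ i) + u (τ j)
  by_cases hi : i = o <;> by_cases hj : j = o
  · subst hi; subst hj; rw [h.add_self, h.add_self]
  · subst hi; rw [hτo, hτ j hj]; exact hf' j hj
  · subst hj; rw [hτo, hτ i hi, add_comm (u' i), hf' i hi, add_comm (u a)]
  · rw [hτ i hi, hτ j hj, ← add_pair h (u' o), hf' i hi, hf' j hj, add_pair h]

theorem perm_unique (hm : 3 ≤ m) {σ τ : Perm (Fin m)}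
    (e : ∀ i j, u (σ i) + u (σ j) = u (τ i) + u (τ j)) : σ = τ := by
  refine Equiv.ext fun i => ?_
  obtain ⟨j, hji, -⟩ := exists_third hm i i
  obtain ⟨k, hki, hkj⟩ := exists_third hm i j
  rcases hu.inj _ _ _ _ (fun e' => hji (σ.injective e').symm) (fun e' => hji (τ.injective e').symm) (e i j)
    with ⟨e1, -⟩ | ⟨e1, -⟩
  · exact e1
  rcases hu.inj _ _ _ _ (fun e' => hki (σ.injective e').symm) (fun e' => hki (τ.injective e').symm) (e i k)
    with ⟨e2, -⟩ | ⟨e2, -⟩
  · exact e2
  · exact absurd (τ.injective (e2.symm.trans e1)) hkj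

theorem image {g : Γ W} (hg : g ∈ P) : Emb P (fun i => g • u i) where
  mem i j hij := by rw [← smul_add]; exact cn_smul hg (hu.mem i j hij)
  form i j k l hij := by rw [← smul_add, ← smul_add, h.Bf_smul hg (hu.mem i j hij), hu.form i j k l hij]
  inj i j k l hij hkl e := hu.inj i j k l hij hkl (MulAction.injective g (by simpa [smul_add] using e))

omit hu in
theorem closed_image (hcl : Closed P u) {g : Γ W} (hg : g ∈ P) : Closed P (fun i => g • u i) := by
  intro x hx hxu y hy
  obtain ⟨i, j, hij, rfl⟩ := hy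
  have hx' : g⁻¹ • x ∈ Cn P := cn_smul (inv_mem hg) hx
  have := hcl _ hx' (fun ⟨a, b, hab, e⟩ => hxu ⟨a, b, hab, by rw [← smul_add, e, smul_inv_smul]⟩) _
    ⟨i, j, hij, rfl⟩
  rw [← h.Bf_smul hg hx', smul_inv_smul, smul_add] at this
  exact this

theorem tv_swap {a b : Fin m} (hab : a ≠ b) (i j : Fin m) :
    tvOf P (u a + u b) • (u i + u j) = u (swap a b i) + u (swap a b j) := by
  haveI : Fact (Nat.Prime 2) := ⟨Nat.prime_two⟩
  have hx := hu.mem a b hab
  have hone : ∀ k, u (swap a b k) = u k + (if k = a ∨ k = b then u a + u b else 0) := by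
    intro k
    by_cases h1 : k = a
    · subst h1; rw [swap_apply_left, if_pos (Or.inl rfl), ← add_assoc, h.add_self, zero_add]
    by_cases h2 : k = b
    · subst h2
      rw [swap_apply_right, if_pos (Or.inr rfl), add_comm (u a), ← add_assoc, h.add_self, zero_add]
    rw [swap_apply_of_ne_of_ne h1 h2, if_neg (by tauto), add_zero]
  have hind : ∀ k, dlt a k + dlt b k = if k = a ∨ k = b then (1 : ZMod 2) else 0 := by
    intro k
    by_cases h1 : k = a
    · subst h1; simp [dlt, Ne.symm hab]
    by_cases h2 : k = b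
    · subst h2; simp [dlt, hab]
    rw [dlt_ne (Ne.symm h1), dlt_ne (Ne.symm h2), if_neg (by tauto), add_zero]
  have hf : Bf P (u a + u b) (u i + u j) = (dlt a i + dlt b i) + (dlt a j + dlt b j) := by
    rw [hu.form a b i j hab]; ring
  rw [hind, hind] at hf
  rw [hone, hone]
  by_cases hi : i = a ∨ i = b <;> by_cases hj : j = a ∨ j = b <;> simp only [hi, hj, if_true, if_false] at hf ⊢
  · rw [MinPar.smul_of_zero (hf.trans (CharTwo.add_self_eq_zero 1)),
      show u i + (u a + u b) + (u j + (u a + u b)) = u i + u j + ((u a + u b) + (u a + u b)) by abel,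
      h.add_self, add_zero]
  · rw [h.smul_of_one hx (hf.trans (add_zero 1))]; abel
  · rw [h.smul_of_one hx (hf.trans (zero_add 1))]; abel
  · rw [MinPar.smul_of_zero (hf.trans (add_zero 0))]; abel

theorem tv_mem_stab (hcl : Closed P u) {x : W} (hx : x ∈ Cn P) : tvOf P x ∈ stabP P u := by
  refine ⟨(tvOf_spec hx).1.1, ?_⟩
  by_cases hxu : x ∈ cset u
  · obtain ⟨a, b, hab, rfl⟩ := hxu
    exact ⟨swap a b, fun i j => hu.tv_swap h hab i j⟩
  · refine ⟨1, fun i j => ?_⟩
    by_cases hij : i = j
    · subst hij; rw [h.add_self, smul_zero]; simp [h.add_self]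
    · exact MinPar.smul_of_zero (hcl x hx hxu _ ⟨i, j, hij, rfl⟩)

theorem grp_le (hcl : Closed P u) : grp P u ≤ stabP P u := by
  rw [grp, Subgroup.closure_le]
  rintro _ ⟨x, ⟨i, j, hij, rfl⟩, rfl⟩
  exact hu.tv_mem_stab h hcl (hu.mem i j hij)

end Emb

/-- The permutation induced by an element of `stabP`. -/
noncomputable def perm (hu : Emb P u) (hm : 3 ≤ m) : stabP P u →* Perm (Fin m) where
  toFun g := g.2.2.choose
  map_one' := hu.perm_unique h hm fun i j => by
    rw [← (1 : stabP P u).2.2.choose_spec, OneMemClass.coe_one, one_smul]; simp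
  map_mul' a b := hu.perm_unique h hm fun i j => by
    rw [← (a * b).2.2.choose_spec, Subgroup.coe_mul, mul_smul, b.2.2.choose_spec, a.2.2.choose_spec]
    rfl

theorem perm_spec (hu : Emb P u) (hm : 3 ≤ m) (g : stabP P u) (i j : Fin m) :
    (g : Γ W) • (u i + u j) = u (perm h hu hm g i) + u (perm h hu hm g j) :=
  g.2.2.choose_spec i j

theorem perm_eq (hu : Emb P u) (hm : 3 ≤ m) (g : stabP P u) {σ : Perm (Fin m)}
    (e : ∀ i j, (g : Γ W) • (u i + u j) = u (σ i) + u (σ j)) : perm h hu hm g = σ :=
  hu.perm_unique h hm fun i j => by rw [← perm_spec, e]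

/-- The span of the centres. -/
def span (u : Fin m → W) : AddSubgroup W := AddSubgroup.closure (cset u)

omit h in
theorem span_smul {g : Γ W} (hg : g ∈ stabP P u) {w : W} (hw : w ∈ span u) : g • w ∈ span u := by
  obtain ⟨-, σ, hσ⟩ := hg
  induction hw using AddSubgroup.closure_induction with
  | mem x hx =>
    obtain ⟨i, j, hij, rfl⟩ := hx
    rw [hσ]
    exact AddSubgroup.subset_closure ⟨σ i, σ j, fun e => hij (σ.injective e), rfl⟩
  | zero => rw [smul_zero]; exact zero_mem _
  | add a b _ _ ha hb => rw [smul_add]; exact add_mem ha hb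
  | neg a _ ha => rw [smul_neg]; exact neg_mem ha

/-- The kernel acts as a part of the chain stabiliser of the centres. -/
theorem mem_ch (hu : Emb P u) (hm : 3 ≤ m) (hcl : Closed P u) {g : Γ W} (hg : g ∈ grp P u)
    (h1 : perm h hu hm ⟨g, hu.grp_le h hcl hg⟩ = 1) : g ∈ ch (span u) := by
  refine ⟨fun w hw => ?_, ?_⟩
  · induction hw using AddSubgroup.closure_induction with
    | mem x hx =>
      obtain ⟨i, j, hij, rfl⟩ := hx
      have := perm_spec h hu hm ⟨g, hu.grp_le h hcl hg⟩ i j
      rwa [h1] at this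
    | zero => exact smul_zero _
    | add a b _ _ ha hb => rw [smul_add, ha, hb]
    | neg a _ ha => rw [smul_neg, ha]
  · let G : Subgroup (Γ W) :=
      { carrier := {g | g ∈ stabP P u ∧ ∀ w : W, g • w - w ∈ span u}
        one_mem' := ⟨one_mem _, fun w => by simp⟩
        mul_mem' := fun {a b} ha hb => ⟨mul_mem ha.1 hb.1, fun w => by
          have e : (a * b) • w - w = a • (b • w - w) + (a • w - w) := by rw [mul_smul, smul_sub]; abel
          rw [e]
          exact add_mem (span_smul ha.1 (hb.2 w)) (ha.2 w)⟩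
        inv_mem' := fun {a} ha => ⟨inv_mem ha.1, fun w => by
          have e : a⁻¹ • w - w = -(a⁻¹ • (a • w - w)) := by rw [smul_sub, inv_smul_smul]; abel
          rw [e]; exact neg_mem (span_smul (inv_mem ha.1) (ha.2 w))⟩ }
    have hle : grp P u ≤ G := by
      rw [grp, Subgroup.closure_le]
      rintro _ ⟨x, hx, rfl⟩
      obtain ⟨i, j, hij, rfl⟩ := hx
      refine ⟨hu.tv_mem_stab h hcl (hu.mem i j hij), fun w => ?_⟩
      rcases (tvOf_spec (hu.mem i j hij)).2 w with e | e <;> rw [e]
      · simp
      · rw [add_sub_cancel_left]; exact AddSubgroup.subset_closure ⟨i, j, hij, rfl⟩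
    exact (hle hg).2

theorem perm_surj (hu : Emb P u) (hm : 3 ≤ m) (hcl : Closed P u) (σ : Perm (Fin m)) :
    ∃ g, ∃ hg : g ∈ grp P u, perm h hu hm ⟨g, hu.grp_le h hcl hg⟩ = σ := by
  classical
  let f : ↥(grp P u) →* Perm (Fin m) := (perm h hu hm).comp (Subgroup.inclusion (hu.grp_le h hcl))
  have htop : f.range = ⊤ := by
    rw [eq_top_iff, ← Perm.closure_isSwap, Subgroup.closure_le]
    rintro _ ⟨a, b, hab, rfl⟩
    exact ⟨⟨tvOf P (u a + u b), Subgroup.subset_closure ⟨_, ⟨a, b, hab, rfl⟩, rfl⟩⟩,
      perm_eq h hu hm _ fun i j => hu.tv_swap h hab i j⟩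
  obtain ⟨⟨g, hg⟩, e⟩ := htop ▸ Subgroup.mem_top σ
  exact ⟨g, hg, e⟩

/-- A closed system of odd degree gives the symmetric group on its even-weight module. -/
theorem model {n : ℕ} {u : Fin (2 ^ n + 1) → W} (hn : 1 ≤ n) (hu : Emb P u) (hcl : Closed P u) :
    IsSym 2 (grp P u) ∧ span u ⊔ fix (grp P u) = ⊤ ∧ span u ≤ comA (grp P u) := by
  classical
  haveI : Fact (Nat.Prime 2) := ⟨Nat.prime_two⟩
  have hm : 3 ≤ 2 ^ n + 1 := by
    have : 2 ^ 1 ≤ 2 ^ n := Nat.pow_le_pow_right (by norm_num) hn
    omega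
  have hodd : ((2 ^ n + 1 : ℕ) : ZMod 2) = 1 := by
    rw [Nat.cast_add, Nat.cast_pow, ZMod.natCast_self, zero_pow (show n ≠ 0 by omega), Nat.cast_one, zero_add]
  let c : Fin (2 ^ n + 1) → W → ZMod 2 := fun i w => if i = 0 then 0 else Bf P (u i + u 0) w
  have hcmem : ∀ i, i ≠ 0 → u i + u 0 ∈ Cn P := fun i hi => hu.mem i 0 hi
  have hcadd : ∀ i a b, c i (a + b) = c i a + c i b := fun i a b => by
    simp only [c]; split_ifs with hi
    · simp
    · exact h.Bf_add (hcmem i hi) a b
  let ψ : W →+ (Fin (2 ^ n + 1) → ZMod 2) := AddMonoidHom.mk'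
    (fun w i => c i w + ∑ k, c k w) fun a b => by
      ext i; simp only [hcadd, Finset.sum_add_distrib, Pi.add_apply]; abel
  have hψe : ∀ w, ∑ i, ψ w i = 0 := fun w => by
    show ∑ i, (c i w + ∑ k, c k w) = 0
    rw [Finset.sum_add_distrib, Finset.sum_const, Finset.card_univ, Fintype.card_fin, nsmul_eq_mul,
      hodd, one_mul]
    exact CharTwo.add_self_eq_zero _
  have hψ : ∀ i j, i ≠ j → ∀ w, Bf P (u i + u j) w = ψ w i + ψ w j := by
    intro i j hij w
    have e : ψ w i + ψ w j = c i w + c j w := by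
      show c i w + ∑ k, c k w + (c j w + ∑ k, c k w) = _
      linear_combination CharTwo.add_self_eq_zero (∑ k, c k w)
    rw [e]
    by_cases hi : i = 0
    · subst hi
      simp [c, Ne.symm hij, add_comm (u 0)]
    by_cases hj : j = 0
    · subst hj
      simp [c, hi]
    simp only [c, if_neg hi, if_neg hj]
    have h1 : Bf P (u i + u 0) (u j + u 0) = 1 := by
      rw [hu.form i 0 j 0 hi]; simp [dlt, hij, hi, Ne.symm hj, CharTwo.add_self_eq_zero]
    have h2 := (h.add_mem_cn (hcmem i hi) (hcmem j hj) h1).2 w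
    rwa [show u i + u 0 + (u j + u 0) = u i + u j by
      rw [add_comm (u i), add_comm (u j), add_pair h]] at h2
  have hext : ∀ f g : Fin (2 ^ n + 1) → ZMod 2, ∑ i, f i = 0 → ∑ i, g i = 0 →
      (∀ i j, i ≠ j → f i + f j = g i + g j) → f = g := by
    intro f g hf hg he
    have hconst : ∀ i, f i + g i = f 0 + g 0 := fun i => by
      by_cases hi : i = 0
      · rw [hi]
      · linear_combination he i 0 hi + CharTwo.add_self_eq_zero (g i) - CharTwo.add_self_eq_zero (f 0)
    have h0 : f 0 + g 0 = 0 := by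
      have : ∑ i, (f i + g i) = 0 := by rw [Finset.sum_add_distrib, hf, hg, add_zero]
      rwa [Finset.sum_congr rfl (fun i _ => hconst i), Finset.sum_const, Finset.card_univ, Fintype.card_fin,
        nsmul_eq_mul, hodd, one_mul] at this
    funext i
    exact CharTwo.add_eq_zero.1 ((hconst i).trans h0)
  have hψu : ∀ k l, k ≠ l → ψ (u k + u l) = fun i => dlt i k + dlt i l := fun k l hkl => by
    refine hext _ _ (hψe _) ?_ fun i j hij => ?_
    · simp [Finset.sum_add_distrib, dlt, CharTwo.add_self_eq_zero]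
    · rw [← hψ i j hij, hu.form i j k l hij]; ring
  have hker : ∀ w, ψ w = 0 ↔ w ∈ fix (grp P u) := fun w => by
    constructor
    · intro e g hg
      have hle : grp P u ≤ MulAction.stabilizer (Γ W) w := by
        rw [grp, Subgroup.closure_le]
        rintro _ ⟨_, ⟨i, j, hij, rfl⟩, rfl⟩
        exact MinPar.smul_of_zero (by rw [hψ i j hij, e]; rfl)
      exact hle hg
    · intro e
      refine hext _ _ (hψe w) (by simp) fun i j hij => ?_
      rw [← hψ i j hij]
      simp only [Pi.zero_apply, add_zero]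
      exact phi_eq_zero.2 (e _ (Subgroup.subset_closure ⟨_, ⟨i, j, hij, rfl⟩, rfl⟩))
  have hequiv : ∀ (g : stabP P u) (w : W) i, ψ ((g : Γ W) • w) i = ψ w ((perm h hu hm g)⁻¹ i) := by
    intro g w
    refine congrFun (hext _ _ (hψe _) ?_ fun i j hij => ?_)
    · exact (Equiv.sum_comp (perm h hu hm g)⁻¹ (ψ w)).trans (hψe w)
    · obtain ⟨a, rfl⟩ := (perm h hu hm g).surjective i
      obtain ⟨b, rfl⟩ := (perm h hu hm g).surjective j
      have hab : a ≠ b := fun e => hij (by rw [e])
      rw [← hψ _ _ hij, ← perm_spec, h.Bf_smul g.2.1 (hu.mem a b hab), hψ a b hab]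
      simp
  have hlift : ∀ v : Fin (2 ^ n + 1) → ZMod 2, ∑ i, v i = 0 → ∃ w ∈ span u, ψ w = v := by
    intro v hv
    refine ⟨∑ k ∈ Finset.univ.filter (fun k => k ≠ 0 ∧ v k = 1), (u k + u 0),
      sum_mem fun k hk => AddSubgroup.subset_closure ⟨k, 0, (Finset.mem_filter.1 hk).2.1, rfl⟩, ?_⟩
    refine hext _ _ (hψe _) hv fun i j hij => ?_
    have hval : ∀ i, i ≠ 0 → ψ (∑ k ∈ Finset.univ.filter (fun k => k ≠ 0 ∧ v k = 1), (u k + u 0)) i = v i := by
      intro i hi
      rw [map_sum, Finset.sum_apply, Finset.sum_congr rfl fun k hk =>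
        congrFun (hψu k 0 (Finset.mem_filter.1 hk).2.1) i]
      simp only [dlt, hi, if_false, add_zero, Finset.sum_ite_eq, Finset.mem_filter, Finset.mem_univ, true_and]
      rcases zmod2_cases (v i) with e | e <;> simp [e, hi]
    have hall : ∀ i, ψ (∑ k ∈ Finset.univ.filter (fun k => k ≠ 0 ∧ v k = 1), (u k + u 0)) i = v i := by
      intro i
      by_cases hi : i = 0
      swap
      · exact hval i hi
      subst hi
      have h1 := hψe (∑ k ∈ Finset.univ.filter (fun k => k ≠ 0 ∧ v k = 1), (u k + u 0))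
      rw [← Finset.add_sum_erase _ _ (Finset.mem_univ 0),
        Finset.sum_congr rfl (fun k hk => hval k (Finset.ne_of_mem_erase hk))] at h1
      rw [← Finset.add_sum_erase _ _ (Finset.mem_univ (0 : Fin (2 ^ n + 1)))] at hv
      exact add_right_cancel (h1.trans hv.symm)
    rw [hall, hall]
  have hsplit : span u ⊔ fix (grp P u) = ⊤ := top_le_iff.1 fun w _ => by
    obtain ⟨y, hy, e⟩ := hlift _ (hψe w)
    refine AddSubgroup.mem_sup.2 ⟨y, hy, w - y, (hker _).1 ?_, add_sub_cancel y w⟩
    rw [map_sub, e, sub_self]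
  let ρh : ↥(grp P u) →* Perm (Fin (2 ^ n + 1)) :=
    (perm h hu hm).comp (Subgroup.inclusion (hu.grp_le h hcl))
  have hρ : Function.Bijective ρh := by
    constructor
    · refine (injective_iff_map_eq_one ρh).2 fun g hg => Subtype.ext (ext_smul fun w => ?_)
      obtain ⟨y, hy, z, hz, rfl⟩ := AddSubgroup.mem_sup.1 (hsplit ▸ AddSubgroup.mem_top w)
      rw [OneMemClass.coe_one, one_smul, smul_add, (mem_ch h hu hm hcl g.2 hg).1 y hy, hz g g.2]
    · intro σ
      obtain ⟨g, hg, e⟩ := perm_surj h hu hm hcl σ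
      exact ⟨⟨g, hg⟩, e⟩
  refine ⟨⟨rfl, n, MulEquiv.ofBijective ρh hρ, ψ, hn, hψe, fun v hv => ?_, hker,
    fun g w i => hequiv (Subgroup.inclusion (hu.grp_le h hcl) g) w i⟩, hsplit, ?_⟩
  · obtain ⟨w, -, e⟩ := hlift v hv
    exact ⟨w, e⟩
  · rw [span, AddSubgroup.closure_le]
    rintro _ ⟨i, j, hij, rfl⟩
    obtain ⟨w, hw⟩ : ∃ w, Bf P (u i + u j) w = 1 := by
      by_contra hcon
      push Not at hcon
      refine (tvOf_spec (hu.mem i j hij)).1.2.1 (ext_smul fun w => ?_)
      rw [MinPar.smul_of_zero ((zmod2_cases _).resolve_right (hcon w)), one_smul]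
    have := h.smul_of_one (hu.mem i j hij) hw
    refine AddSubgroup.mem_iSup_of_mem (tvOf P (u i + u j))
      (AddSubgroup.mem_iSup_of_mem (Subgroup.subset_closure (Set.mem_image_of_mem (tvOf P) (show u i + u j ∈ cset u from ⟨i, j, hij, rfl⟩))) (AddMonoidHom.mem_range.2 ⟨w, ?_⟩))
    show tvOf P (u i + u j) • w - w = _
    rw [this, add_sub_cancel_left]

/-- Every centre lies in a closed system. -/
theorem exists_closed {x : W} (hx : x ∈ Cn P) :
    ∃ (m : ℕ) (u : Fin m → W), Emb P u ∧ Closed P u ∧ x ∈ cset u := by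
  classical
  haveI : Fact (Nat.Prime 2) := ⟨Nat.prime_two⟩
  let Q : ℕ → Prop := fun m => ∃ u : Fin m → W, Emb P u ∧ x ∈ cset u
  have hb : ∀ m, Q m → m ≤ Nat.card W := by
    rintro m ⟨u, hu, a, b, hab, -⟩
    refine le_trans (le_of_eq (by simp)) (Nat.card_le_card_of_injective (fun j : Fin m => u a + u j) ?_)
    intro j l e
    by_contra hjl
    exact (hu.mem j l hjl).1 (by rw [add_left_cancel e, h.add_self])
  have h2 : Q 2 := by
    refine ⟨![0, x], ⟨fun i j hij => ?_, fun i j k l hij => ?_, fun i j k l hij hkl _ => ?_⟩, 0, 1, by decide,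
      by simp⟩
    · fin_cases i <;> fin_cases j <;> simp at hij ⊢ <;> exact hx
    · fin_cases i <;> fin_cases j <;> simp at hij <;> fin_cases k <;> fin_cases l <;>
        simp [dlt, h.Bf_self hx, h.Bf_zero hx, h.add_self, CharTwo.add_self_eq_zero]
    · fin_cases i <;> fin_cases j <;> fin_cases k <;> fin_cases l <;> simp_all
  have h2' := hb 2 h2
  obtain ⟨u, hu, hxu⟩ : Q (Nat.findGreatest Q (Nat.card W)) := Nat.findGreatest_spec h2' h2
  refine ⟨_, u, hu, fun z hz hzu y hy => ?_, hxu⟩
  by_contra hne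
  obtain ⟨i, hi⟩ := hu.cut h hz hzu ⟨y, hy, hne⟩
  have hnew := hu.extend h hz hzu hi
  obtain ⟨a, b, hab, hxab⟩ := hxu
  have hQ : Q (Nat.findGreatest Q (Nat.card W) + 1) :=
    ⟨_, hnew, a.succ, b.succ, fun e => hab (Fin.succ_injective _ e), by simpa using hxab⟩
  exact absurd (Nat.le_findGreatest (hb _ hQ) hQ) (by omega)

end CfsgLib.LocalEven.MinPar
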