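import Mathlib
import Cfsg.Agent.Lib.FinField.AutSpan

/-!
Additive maps `A`, `Y`, `Φ`, `Γ` of a field of order `2^n ≥ 4` with `A a * Y y = Φ (a y) + Γ (a y²)`,
where `A` and `Y` are injective: one of `Φ`, `Γ` vanishes.
-/

set_option autoImplicit false

namespace CfsgLib.LocalEven.MinPar

open CfsgLib.FinFieldAut

attribute [local instance] autFintype

variable {F : Type*} [Field F] [Fintype F]

/-- A combination of three automorphisms vanishes only if the coefficient of one different from the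
other two is zero. -/
theorem coeff_eq_zero {σ₁ σ₂ σ₃ : F ≃+* F} {a b c : F} (h₁ : σ₁ ≠ σ₃) (h₂ : σ₂ ≠ σ₃)
    (h : ∀ y, a * σ₁ y + b * σ₂ y + c * σ₃ y = 0) : c = 0 := by
  classical
  have hli := linearIndependent_iff'.1 (aut_linearIndependent (F := F)) {σ₁, σ₂, σ₃}
    (fun σ => (if σ = σ₁ then a else 0) + (if σ = σ₂ then b else 0) + (if σ = σ₃ then c else 0))
    (by
      funext y
      simp only [Finset.sum_apply, Pi.smul_apply, smul_eq_mul, Pi.zero_apply, add_mul, ite_mul,
        zero_mul, Finset.sum_add_distrib, Finset.sum_ite_eq', Finset.mem_insert, Finset.mem_singleton,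
        true_or, or_true, if_true, RingEquiv.coe_toRingHom]
      exact h y) σ₃ (by simp)
  simpa [Ne.symm h₁, Ne.symm h₂] using hli

variable [CharP F 2]

theorem dichotomy (hF : 2 < Fintype.card F) (A Y Φ Γ : F →+ F) (hA : Function.Injective A)
    (hY : Function.Injective Y) (h : ∀ a y, A a * Y y = Φ (a * y) + Γ (a * (y * y))) :
    Φ = 0 ∨ Γ = 0 := by
  classical
  let φ : F ≃+* F := frobeniusEquiv F 2
  have hφ : ∀ (σ : F ≃+* F) y, (σ.trans φ) y = σ y * σ y := fun σ y => by
    show frobeniusEquiv F 2 (σ y) = _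
    rw [frobeniusEquiv_apply, frobenius_def, pow_two]
  have hne : ∀ σ : F ≃+* F, σ.trans φ ≠ σ := by
    intro σ e
    have hsub : (Finset.univ : Finset F) ⊆ {0, 1} := fun x _ => by
      obtain ⟨y, rfl⟩ := σ.surjective x
      have e' := RingEquiv.congr_fun e y
      rw [hφ] at e'
      by_cases h0 : σ y = 0
      · simp [h0]
      · simp [mul_left_cancel₀ h0 (e'.trans (mul_one (σ y)).symm)]
    have := (Finset.card_le_card hsub).trans Finset.card_le_two
    rw [Finset.card_univ] at this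
    omega
  -- two adjacent terms have a common zero
  have hroot : ∀ (σ : F ≃+* F) (u v : F), u ≠ 0 → v ≠ 0 →
      ∃ y, y ≠ 0 ∧ u * σ y + v * (σ y * σ y) = 0 := fun σ u v hu hv =>
    ⟨σ.symm (u / v), fun e => div_ne_zero hu hv (by simpa using congrArg σ e), by
      rw [σ.apply_symm_apply, show v * (u / v * (u / v)) = u * (u / v) by field_simp]
      exact CharTwo.add_self_eq_zero _⟩
  obtain ⟨α, hα⟩ := addHom_eq_sum A
  obtain ⟨f, hf⟩ := addHom_eq_sum Φ
  obtain ⟨g, hg⟩ := addHom_eq_sum Γ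
  have hc : ∀ σ y, α σ * Y y = f σ * σ y + g σ * (σ y * σ y) := by
    intro σ y
    have h0 : ∑ τ : F ≃+* F, (α τ * Y y - (f τ * τ y + g τ * (τ y * τ y))) •
        ((τ : F →+* F) : F → F) = 0 := by
      funext a
      simp only [Finset.sum_apply, Pi.smul_apply, smul_eq_mul, Pi.zero_apply, sub_mul, add_mul,
        Finset.sum_sub_distrib, Finset.sum_add_distrib, RingEquiv.coe_toRingHom]
      have e := h a y
      rw [hα, hf, hg, Finset.sum_mul] at e
      rw [sub_eq_zero]
      refine (Finset.sum_congr rfl fun τ _ => by ring).trans (e.trans ?_)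
      congr 1 <;> refine Finset.sum_congr rfl fun τ _ => ?_ <;> simp only [map_mul] <;> ring
    exact sub_eq_zero.1 (Fintype.linearIndependent_iff.1 aut_linearIndependent _ h0 σ)
  obtain ⟨σ, hσ⟩ : ∃ σ, α σ ≠ 0 := by
    by_contra hall
    push Not at hall
    exact one_ne_zero (hA (a₁ := 1) (a₂ := 0) (by rw [hα, map_zero]; simp [hall]))
  have hsum : ∀ {τ : F ≃+* F}, τ ≠ σ → (∀ ρ, ρ ≠ σ → ρ ≠ τ → α ρ = 0) →
      ∀ a, A a = α σ * σ a + α τ * τ a := fun {τ} hτ h0 a => by
    rw [hα, ← Finset.sum_pair (Ne.symm hτ) (f := fun ρ => α ρ * ρ a)]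
    refine (Finset.sum_subset (Finset.subset_univ _) fun ρ _ hρ => ?_).symm
    rw [Finset.mem_insert, Finset.mem_singleton, not_or] at hρ
    rw [h0 ρ hρ.1 hρ.2, zero_mul]
  have hg0 : (∀ τ, g τ = 0) → Γ = 0 := fun h0 => AddMonoidHom.ext fun x => by simp [hg, h0]
  have hf0 : (∀ τ, f τ = 0) → Φ = 0 := fun h0 => AddMonoidHom.ext fun x => by simp [hf, h0]
  have hzero : f σ = 0 ∨ g σ = 0 := by
    by_contra hcon
    rw [not_or] at hcon
    obtain ⟨y, hy, hy'⟩ := hroot σ _ _ hcon.1 hcon.2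
    rw [← hc, mul_eq_zero] at hy'
    exact hy (hY ((hy'.resolve_left hσ).trans (map_zero Y).symm))
  rcases hzero with hf' | hg'
  · -- `Y` is a multiple of `σ²`
    left
    set σ₂ := σ.trans φ with hσ₂
    have hYσ : ∀ y, Y y = g σ / α σ * σ₂ y := fun y => by
      have e := hc σ y
      rw [hf', zero_mul, zero_add] at e
      rw [hσ₂, hφ]
      field_simp
      linear_combination e
    have hcz : g σ / α σ ≠ 0 := fun e => one_ne_zero (hY (a₁ := 1) (a₂ := 0) (by
      rw [hYσ, hYσ, e, zero_mul, zero_mul]))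
    have heq : ∀ τ y, (g τ) * (τ.trans φ) y + (f τ) * τ y + (-(α τ * (g σ / α σ))) * σ₂ y = 0 :=
      fun τ y => by
        have e := hc τ y
        rw [hYσ] at e
        rw [hφ]
        linear_combination -e
    have hfz : ∀ τ, τ ≠ σ₂ → f τ = 0 := fun τ hτ => coeff_eq_zero (σ₁ := τ.trans φ) (σ₂ := σ₂)
      (a := g τ) (b := -(α τ * (g σ / α σ))) (c := f τ)
      (hne τ) (Ne.symm hτ) fun y => by linear_combination heq τ y
    have hαz : ∀ τ, τ ≠ σ → τ ≠ σ₂ → α τ = 0 := fun τ h1 h2 => by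
      have := coeff_eq_zero (σ₁ := τ.trans φ) (σ₂ := τ) (fun e => h1 (RingEquiv.ext fun y => ?_)) h2
        (heq τ)
      · simpa [hcz] using this
      · exact φ.injective (RingEquiv.congr_fun e y)
    have hα2 : α σ₂ = 0 := by
      by_contra hne'
      obtain ⟨a, ha, ha'⟩ := hroot σ _ _ hσ hne'
      exact ha (hA (by rw [hsum (hne σ) hαz]; simpa [hσ₂, hφ] using ha'))
    refine hf0 fun τ => ?_
    by_cases hτ : τ = σ₂
    · subst hτ
      exact coeff_eq_zero (σ₁ := σ₂.trans φ) (σ₂ := σ₂.trans φ) (hne _) (hne _) (a := g σ₂) (b := 0) (c := f σ₂) fun y => by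
        have e := heq σ₂ y
        rw [hα2] at e
        linear_combination e
    · exact hfz τ hτ
  · -- `Y` is a multiple of `σ`
    right
    have hYσ : ∀ y, Y y = f σ / α σ * σ y := fun y => by
      have e := hc σ y
      rw [hg', zero_mul, add_zero] at e
      field_simp
      linear_combination e
    have hcz : f σ / α σ ≠ 0 := fun e => one_ne_zero (hY (a₁ := 1) (a₂ := 0) (by
      rw [hYσ, hYσ, e, zero_mul, zero_mul]))
    have heq : ∀ τ y, (f τ) * τ y + (g τ) * (τ.trans φ) y + (-(α τ * (f σ / α σ))) * σ y = 0 :=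
      fun τ y => by
        have e := hc τ y
        rw [hYσ] at e
        rw [hφ]
        linear_combination -e
    have hgz : ∀ τ, τ.trans φ ≠ σ → g τ = 0 := fun τ hτ => coeff_eq_zero (σ₁ := τ) (σ₂ := σ)
      (a := f τ) (b := -(α τ * (f σ / α σ))) (c := g τ)
      (Ne.symm (hne τ)) (Ne.symm hτ) fun y => by linear_combination heq τ y
    obtain ⟨σ₀, hσ₀⟩ : ∃ σ₀ : F ≃+* F, σ₀.trans φ = σ :=
      ⟨σ.trans φ.symm, RingEquiv.ext fun y => φ.apply_symm_apply _⟩
    have hσ₀ne : σ₀ ≠ σ := fun e => hne σ₀ (hσ₀.trans e.symm)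
    have hαz : ∀ τ, τ ≠ σ → τ ≠ σ₀ → α τ = 0 := fun τ h1 h2 => by
      have := coeff_eq_zero (σ₁ := τ) (σ₂ := τ.trans φ) h1
        (fun e => h2 (RingEquiv.ext fun y => φ.injective (RingEquiv.congr_fun (e.trans hσ₀.symm) y)))
        (heq τ)
      simpa [hcz] using this
    have hα0 : α σ₀ = 0 := by
      by_contra hne'
      obtain ⟨a, ha, ha'⟩ := hroot σ₀ _ _ hne' hσ
      refine ha (hA ?_)
      rw [hsum hσ₀ne hαz, map_zero, ← hσ₀, hφ]
      rw [hσ₀]
      linear_combination ha'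
    refine hg0 fun τ => ?_
    by_cases hτ : τ.trans φ = σ
    · have hτ0 : τ = σ₀ := RingEquiv.ext fun y => φ.injective (RingEquiv.congr_fun (hτ.trans hσ₀.symm) y)
      subst hτ0
      exact coeff_eq_zero (σ₁ := τ) (σ₂ := τ) (Ne.symm (hne _)) (Ne.symm (hne _)) (a := f τ) (b := 0) (c := g τ) fun y => by
        have e := heq τ y
        rw [hα0] at e
        linear_combination e
    · exact hgz τ hτ

end CfsgLib.LocalEven.MinPar
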