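import Cfsg.Agent.Lib.LocalEven.MinPar.Pairing

/-!
A minimal offender of order more than 2 in a `p`-minimal group: the minimal offenders in `T` form one
orbit of `T`, and the subgroups of type `SL₂` attached to them commute pairwise and act on independent
parts of `W`.
-/

set_option autoImplicit false

namespace CfsgLib.LocalEven.MinPar

open CfsgLib.LocalEven.PGV CfsgLib.LocalEven.OffenderSL2

universe v

variable {W : Type v} [AddCommGroup W] {p : ℕ} {P M T B L S B' L' S' : Subgroup (Γ W)}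

/-- A minimal offender `B ≤ T` of order more than 2 with its subgroup of type `SL₂`. -/
structure Comp (p : ℕ) (P M T B L S : Subgroup (Γ W)) : Prop where
  hB : Off p P B
  BT : B ≤ T
  LP : L ≤ P
  hS : OffenderSL2.Setup p L (L ⊓ M) S B
  hq : 2 < Nat.card B

theorem mem_normalizer_of_cj {g : Γ W} {R : Subgroup (Γ W)} (e : cj g R = R) :
    g ∈ Subgroup.normalizer (R : Set (Γ W)) := by
  refine Subgroup.mem_normalizer_iff.2 fun w => ⟨fun hw => ?_, fun hw => ?_⟩
  · have := conj_mem_cj (c := g) hw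
    rwa [e] at this
  · rw [← e] at hw
    have := mem_cj.1 hw
    simpa [mul_assoc] using this

theorem cj_eq_of_commute {g : Γ W} {R : Subgroup (Γ W)} (hc : ∀ c ∈ R, Commute g c) : cj g R = R := by
  ext x
  rw [mem_cj]
  refine ⟨fun hx => ?_, fun hx => ?_⟩
  · have e := (hc _ hx).eq
    have : g⁻¹ * x * g = x := by
      calc g⁻¹ * x * g = g * (g⁻¹ * x * g) * g⁻¹ := by rw [e]; group
        _ = x := by group
    rwa [this] at hx
  · have e : g⁻¹ * x * g = x := by rw [mul_assoc, ← (hc x hx).eq, inv_mul_cancel_left]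
    rwa [e]

namespace MinPar

variable (h : MinPar p P M T)
include h

/-- A subgroup of `T` whose conjugates under `T` it contains is normalised only within `M`. -/
theorem mem_M_of_normalizes {R : Subgroup (Γ W)} (hR : R ≤ T) (hR1 : R ≠ ⊥)
    (hTR : ∀ t ∈ T, cj t R = R) {g : Γ W} (hg : g ∈ P) (hgR : cj g R = R) : g ∈ M := by
  refine h.uniq (P ⊓ Subgroup.normalizer (R : Set (Γ W)))
    (fun t ht => ⟨h.TP ht, mem_normalizer_of_cj (hTR t ht)⟩) inf_le_left (fun e => hR1 ?_)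
    ⟨hg, mem_normalizer_of_cj hgR⟩
  refine h.core R (hR.trans h.TP) (h.hT.to_le hR) fun z hz => ?_
  have hzN : z ∈ Subgroup.normalizer (R : Set (Γ W)) :=
    (show z ∈ P ⊓ Subgroup.normalizer (R : Set (Γ W)) by rw [e]; exact hz).2
  ext w
  rw [mem_cj]
  exact ((Subgroup.mem_normalizer_iff.1 (inv_mem hzN) w).trans (by simp)).symm

/-- The `T`-orbit sum of a subgroup. -/
theorem cj_orbit {R : Subgroup (Γ W)} {t : Γ W} (ht : t ∈ T) :
    cj t (⨆ s ∈ T, cj s R) = ⨆ s ∈ T, cj s R := by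
  have key : ∀ u ∈ T, cj u (⨆ s ∈ T, cj s R) ≤ ⨆ s ∈ T, cj s R := by
    intro u hu
    simp only [cj, Subgroup.map_iSup]
    refine iSup₂_le fun s hs => ?_
    refine le_iSup₂_of_le (u * s) (mul_mem hu hs) ?_
    exact le_of_eq (cj_mul u s).symm
  refine le_antisymm (key t ht) ?_
  have := cj_mono' (g := t) (key t⁻¹ (inv_mem ht))
  rwa [cj_cj_inv] at this

end MinPar

/-- The span of the points with stabiliser in `M`. -/
def star (P M : Subgroup (Γ W)) : AddSubgroup W :=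
  AddSubgroup.closure {u | ∀ g ∈ P, g • u = u → g ∈ M}

/-- The points fixed by all conjugates of `B`. -/
def ker0 (P B : Subgroup (Γ W)) : AddSubgroup W := ⨅ g ∈ P, fix (cj g B)

theorem smul_mem_ker0 {g : Γ W} (hg : g ∈ P) {k : W} (hk : k ∈ ker0 P B) : g • k ∈ ker0 P B := by
  simp only [ker0, AddSubgroup.mem_iInf] at hk ⊢
  intro x hx
  have := hk (g⁻¹ * x) (mul_mem (inv_mem hg) hx)
  rwa [mem_fix_cj_mul, inv_inv] at this

theorem smul_mem_star (hMP : M ≤ P) {m : Γ W} (hm : m ∈ M) {u : W} (hu : u ∈ star P M) :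
    m • u ∈ star P M := by
  have : star P M ≤ (star P M).comap (DistribSMul.toAddMonoidHom W m) := by
    refine (AddSubgroup.closure_le _).2 fun u hu => ?_
    refine AddSubgroup.subset_closure fun g hg hgu => ?_
    have hmP := hMP hm
    have h1 := hu (m⁻¹ * g * m) (mul_mem (mul_mem (inv_mem hmP) hg) hmP) (by
      rw [mul_smul, mul_smul, show g • m • u = m • u from hgu, inv_smul_smul])
    simpa [mul_assoc] using mul_mem (mul_mem hm h1) (inv_mem hm)
  exact this hu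

variable [Finite W] [Fact p.Prime]

/-- A chosen frame. -/
noncomputable def Comp.fr (x : Comp p P M T B L S) : Frame p L B := Classical.choice (exists_frame x.hS)

namespace Comp

variable (x : Comp p P M T B L S) (h : MinPar p P M T)
include x h

theorem conj {t : Γ W} (ht : t ∈ T) : Comp p P M T (cj t B) (cj t L) (cj t S) where
  hB := x.hB.conj (h.TP ht)
  BT := cj_le ht x.BT
  LP := cj_le (h.TP ht) x.LP
  hS := by
    have e : cj t (L ⊓ M) = cj t L ⊓ M := by
      conv_rhs => rw [← cj_eq_self (h.TM ht)]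
      exact Subgroup.map_inf _ _ _ (MulAut.conj t).injective
    rw [← e]
    exact Setup.conj x.hS t
  hq := by rw [card_cj]; exact x.hq

theorem n_not_M : x.fr.n ∉ M := fun e => x.fr.n_not_mem x.hS ⟨x.fr.n_mem, e⟩

theorem mem_fix_of_stab {u : W} (hu : ∀ g ∈ P, g • u = u → g ∈ M) : u ∈ fix B := by
  by_contra hne
  obtain ⟨k, hk, hkM⟩ := x.hS.exists_outside
  obtain ⟨a, ha, hua⟩ := x.hS.exists_cover hk hkM hne
  obtain ⟨b, hb, hb1⟩ := (Subgroup.bot_or_exists_ne_one B).resolve_left x.hB.A1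
  have hg : a * k ∈ L := mul_mem (x.hS.AP ha) hk
  have hgN : (a * k)⁻¹ ∉ L ⊓ M := fun e => hkM (by
    have := mul_mem (inv_mem (x.hS.AM ha)) ((inv_mem_iff (x := a * k)).1 e)
    rwa [inv_mul_cancel_left] at this)
  have hbM : (a * k) * b * (a * k)⁻¹ ∈ L ⊓ M :=
    ⟨L.mul_mem (L.mul_mem hg (x.hS.AP hb)) (L.inv_mem hg),
      hu _ (mul_mem (mul_mem (x.LP hg) (x.hB.AP hb)) (inv_mem (x.LP hg))) (hua _ (conj_mem_cj hb))⟩
  rcases x.hS.eq_one_or_not_mem (inv_mem hg) hgN hb with e | e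
  · exact hb1 e
  · rw [inv_inv] at e
    exact e hbM

theorem star_le : star P M ≤ fix B :=
  (AddSubgroup.closure_le _).2 fun _ hu => x.mem_fix_of_stab h hu

theorem star_le_cj {m : Γ W} (hm : m ∈ M) : star P M ≤ fix (cj m B) := fun u hu =>
  mem_fix_cj.2 (x.star_le h (smul_mem_star h.MP (inv_mem hm) hu))

theorem exists_vec : ∃ v ∈ fix B, v ∉ fix L ∧ v ∈ star P M := by
  obtain ⟨v, hv, hvP⟩ := h.vec
  refine ⟨v, fix_mono x.BT hv, fun e => x.hS.ne ?_,
    AddSubgroup.subset_closure fun g hg hgv => h.stab_le hv hvP hg hgv⟩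
  exact inf_eq_left.2 fun g hg => h.stab_le hv hvP (x.LP hg) (e g hg)

theorem d_mem_M : x.fr.d ∈ M := by
  by_contra hd
  obtain ⟨v, hv, hvL, -⟩ := x.exists_vec h
  have h1 := x.hS.fix_inter_one x.fr.d_mem (fun e => hd e.2) (x.fr.smul_fix hv) (smul_mem_fix_cj hv)
  refine hvL ?_
  have e : x.fr.d • x.fr.d • v = x.fr.d • v := h1 _ x.fr.d_mem
  rwa [← MulAction.injective _ e]

theorem Rd_le_star : x.fr.Rd ≤ star P M := by
  rintro y ⟨hy, hyB⟩
  by_cases hy0 : y = 0
  · rw [hy0]; exact zero_mem _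
  obtain ⟨v, hv, hvL, hvs⟩ := x.exists_vec h
  obtain ⟨i, rfl⟩ := x.fr.exists_line x.hS x.hq hv hvL hy hyB hy0
  exact smul_mem_star h.MP (pow_mem (x.d_mem_M h) i)
    (sub_mem (smul_mem_star h.MP (x.d_mem_M h) hvs) hvs)

/-- The subgroup of type `SL₂` centralises the other minimal offenders in `T` and the commutators of
these are fixed by it. -/
theorem comA_le_fix' {D : Subgroup (Γ W)} (hD : Off p P D) (hne : B ≠ D)
    (hc : ∀ b ∈ B, ∀ c ∈ D, Commute b c) : comA D ≤ fix L := by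
  obtain ⟨h1, h2⟩ := h.centralizes x.hB hD hne hc x.hS x.LP x.fr x.hq
  refine iSup₂_le fun c hc' => ?_
  rintro _ ⟨w, rfl⟩
  intro g hg
  show g • (c • w - w) = c • w - w
  obtain ⟨y, hy, z, hz, rfl⟩ := AddSubgroup.mem_sup.1 (x.fr.com_sup x.hS x.hq ▸ AddSubgroup.mem_top w)
  rw [smul_add, h2 hy c hc', add_sub_add_left_eq_sub, smul_sub, ← mul_smul, (h1 g hg c hc').eq,
    mul_smul, hz g hg]

theorem comA_le_U : comA B ≤ star P M ⊔ ker0 P B := by
  classical
  refine (x.fr.comA_le x.hS x.hq).trans (sup_le ((x.Rd_le_star h).trans le_sup_left) ?_)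
  by_cases hall : ∀ t ∈ T, cj t B = B → ∀ z ∈ x.fr.Z1, t • z ∈ x.fr.Z1
  swap
  · push Not at hall
    obtain ⟨t, ht, htB, z₀, hz₀, hne⟩ := hall
    refine le_trans (fun z hz => ?_) le_sup_left
    obtain ⟨r, hr, rfl⟩ :=
      ((x.fr.pairing x.hS x.hq htB).resolve_left fun e => hne (e z₀ hz₀)) z hz
    exact smul_mem_star h.MP (h.TM ht) (x.Rd_le_star h hr)
  refine le_trans ?_ le_sup_right
  set Z : AddSubgroup W := ⨆ t ∈ T, x.fr.Z1.map (DistribSMul.toAddMonoidHom W t) with hZ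
  have hZL : Z ≤ fix L := iSup₂_le fun t ht => by
    rintro _ ⟨z, hz, rfl⟩
    show t • z ∈ fix L
    by_cases htB : cj t B = B
    · exact (hall t ht htB z hz).2
    · refine x.comA_le_fix' h (x.hB.conj (h.TP ht)) (Ne.symm htB)
        (h.commute_of_le x.hB (x.hB.conj (h.TP ht)) x.BT (cj_le ht x.BT)) ?_
      have hz' : z ∈ comA B := hz.1
      have : comA B ≤ (comA (cj t B)).comap (DistribSMul.toAddMonoidHom W t) := by
        refine iSup₂_le fun b hb => ?_
        rintro _ ⟨w, rfl⟩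
        show t • (b • w - w) ∈ comA (cj t B)
        have e : t • (b • w - w) = (t * b * t⁻¹) • (t • w) - t • w := by
          rw [smul_sub, mul_smul, mul_smul, inv_smul_smul]
        rw [e]
        exact AddSubgroup.mem_iSup_of_mem _ (AddSubgroup.mem_iSup_of_mem (conj_mem_cj hb) (com_mem _ _))
      exact this hz'
  have hZinv : ∀ t ∈ T, ∀ z ∈ Z, t • z ∈ Z := by
    intro t ht z hz
    have : Z ≤ Z.comap (DistribSMul.toAddMonoidHom W t) := iSup₂_le fun s hs => by
      rintro _ ⟨y, hy, rfl⟩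
      show t • s • y ∈ Z
      rw [← mul_smul]
      exact AddSubgroup.mem_iSup_of_mem _ (AddSubgroup.mem_iSup_of_mem (mul_mem ht hs) ⟨y, hy, rfl⟩)
    exact this hz
  have hZ1 : x.fr.Z1 ≤ Z := fun z hz =>
    AddSubgroup.mem_iSup_of_mem (1 : Γ W) (AddSubgroup.mem_iSup_of_mem (one_mem T) ⟨z, hz, one_smul _ z⟩)
  refine hZ1.trans ?_
  by_contra hne
  obtain ⟨u, hu, huK, hfix⟩ := exists_fixed_mod h.hp h.hT
    (fun t ht k hk => smul_mem_ker0 (h.TP ht) hk) hZinv hne
  let H : Subgroup (Γ W) :=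
    { carrier := {g | g ∈ P ∧ g • u - u ∈ ker0 P B}
      one_mem' := ⟨one_mem P, by simp⟩
      mul_mem' := fun {a b} ha hb => ⟨mul_mem ha.1 hb.1, by
        have e : (a * b) • u - u = a • (b • u - u) + (a • u - u) := by rw [mul_smul, smul_sub]; abel
        rw [e]; exact add_mem (smul_mem_ker0 ha.1 hb.2) ha.2⟩
      inv_mem' := fun {a} ha => ⟨inv_mem ha.1, by
        have e : a⁻¹ • u - u = -(a⁻¹ • (a • u - u)) := by rw [smul_sub, inv_smul_smul]; abel
        rw [e]; exact neg_mem (smul_mem_ker0 (inv_mem ha.1) ha.2)⟩ }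
  have hHP : H = P := by
    by_contra hne'
    have hle := h.uniq H (fun t ht => ⟨h.TP ht, hfix t ht⟩) (fun g hg => hg.1) hne'
    exact x.hS.ne (inf_eq_left.2 fun g hg =>
      hle ⟨x.LP hg, by rw [hZL hu g hg, sub_self]; exact zero_mem _⟩)
  refine huK ?_
  simp only [ker0, AddSubgroup.mem_iInf]
  intro g hg
  rw [mem_fix_cj, ← sub_add_cancel (g⁻¹ • u) u]
  refine add_mem ?_ (fix_mono x.hS.AP (hZL hu))
  have hgH : g⁻¹ ∈ H := hHP.symm ▸ inv_mem hg
  have := hgH.2
  simp only [ker0, AddSubgroup.mem_iInf] at this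
  simpa [cj_one] using this 1 (one_mem P)

/-- All conjugates of `B` under `M` lie in `T`. -/
theorem cj_le_T {m : Γ W} (hm : m ∈ M) : cj m B ≤ T := by
  set U := star P M ⊔ ker0 P B with hU
  have hle : ∀ m' ∈ M, cj m' B ≤ M ⊓ ch U := by
    intro m' hm'
    refine le_inf (cj_le hm' (x.BT.trans h.TM)) fun g hg => ⟨fun u hu => ?_, fun w => ?_⟩
    · obtain ⟨s, hs, k, hk, rfl⟩ := AddSubgroup.mem_sup.1 hu
      simp only [ker0, AddSubgroup.mem_iInf] at hk
      rw [smul_add, x.star_le_cj h hm' hs g hg, hk m' (h.MP hm') g hg]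
    · obtain ⟨b, hb, rfl⟩ := hg
      show (m' * b * m'⁻¹) • w - w ∈ U
      have e : (m' * b * m'⁻¹) • w - w = m' • (b • m'⁻¹ • w - m'⁻¹ • w) := by
        rw [smul_sub, smul_inv_smul, mul_smul, mul_smul]
      rw [e]
      have hb' : b • m'⁻¹ • w - m'⁻¹ • w ∈ comA B :=
        AddSubgroup.mem_iSup_of_mem _ (AddSubgroup.mem_iSup_of_mem hb (com_mem _ _))
      obtain ⟨s, hs, k, hk, e'⟩ := AddSubgroup.mem_sup.1 (x.comA_le_U h hb')
      rw [← e', smul_add]
      exact AddSubgroup.add_mem_sup (smul_mem_star h.MP hm' hs) (smul_mem_ker0 (h.MP hm') hk)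
  have hel : Cfsg.IsElementaryAbelian p (M ⊓ ch U : Subgroup (Γ W)) := el_mono (ch_el h.hp) inf_le_right
  obtain ⟨m₀, hm₀, hR⟩ := h.sylM (M ⊓ ch U) inf_le_left
    fun a => ⟨1, Subtype.ext (by simpa using hel.2 a a.2)⟩
  have := cj_mono' (g := m₀⁻¹) ((hle (m₀ * m) (mul_mem hm₀ hm)).trans hR)
  rwa [cj_inv_cj, ← cj_mul, inv_mul_cancel_left] at this

/-- The minimal offenders in `T` are conjugate to `B` under `T`. -/
theorem exists_eq_cj {D : Subgroup (Γ W)} (hD : Off p P D) (hDT : D ≤ T) : ∃ t ∈ T, D = cj t B := by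
  by_contra hcon
  push Not at hcon
  set R := ⨆ s ∈ T, cj s D with hR
  have hRT : R ≤ T := iSup₂_le fun s hs => cj_le hs hDT
  have hR1 : R ≠ ⊥ := fun e => hD.A1 (le_bot_iff.1 (by
    rw [← e]
    exact le_iSup₂_of_le 1 (one_mem T) (le_of_eq cj_one.symm)))
  refine x.hS.ne (inf_eq_left.2 fun g hg => ?_)
  refine h.mem_M_of_normalizes hRT hR1 (fun t ht => h.cj_orbit ht) (x.LP hg) (cj_eq_of_commute fun c hc => ?_)
  have hle : R ≤ Subgroup.centralizer ({g} : Set (Γ W)) := iSup₂_le fun s hs c' hc' => by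
    rw [Subgroup.mem_centralizer_singleton_iff]
    have hne : B ≠ cj s D := fun e => hcon s⁻¹ (inv_mem hs) (by rw [e, cj_inv_cj])
    exact ((h.centralizes x.hB (hD.conj (h.TP hs)) hne
      (h.commute_of_le x.hB (hD.conj (h.TP hs)) x.BT (cj_le hs hDT)) x.hS x.LP x.fr x.hq).1 g hg c' hc').eq.symm
  exact (Subgroup.mem_centralizer_singleton_iff.1 (hle hc)).symm

/-- A minimal offender in `M` lies in `T`. -/
theorem le_T_of_le_M {D : Subgroup (Γ W)} (hD : Off p P D) (hDM : D ≤ M) : D ≤ T := by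
  obtain ⟨m, hm, hle⟩ := h.sylM D hDM hD.pgroup
  obtain ⟨t, ht, e⟩ := x.exists_eq_cj h (hD.conj (inv_mem (h.MP hm))) (by
    rw [← cj_inv_cj m T]; exact cj_mono' hle)
  rw [← cj_cj_inv m D, e, ← cj_mul]
  exact x.cj_le_T h (mul_mem hm (h.TM ht))

omit x in
/-- A minimal offender meeting `M` lies in it. -/
theorem le_M_of_mem {D : Subgroup (Γ W)} (hD : Off p P D) {c : Γ W} (hc : c ∈ D) (hc1 : c ≠ 1)
    (hcM : c ∈ M) : D ≤ M := by
  obtain ⟨v, hv, hvP⟩ := h.vec
  have hcp : IsPGroup p (Subgroup.zpowers c) := hD.pgroup.to_le (by rwa [Subgroup.zpowers_le])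
  obtain ⟨m, hm, hle⟩ := h.sylM _ (by rwa [Subgroup.zpowers_le]) hcp
  have hmP := h.MP hm
  have hcv : c • m • v = m • v := smul_mem_fix_cj hv c (hle (Subgroup.mem_zpowers c))
  intro g hg
  have hgv := h.fixElem hD hc hc1 hcv g hg
  have h1 := h.stab_le hv hvP (g := m⁻¹ * g * m) (mul_mem (mul_mem (inv_mem hmP) (hD.AP hg)) hmP)
    (by rw [mul_smul, mul_smul, hgv, inv_smul_smul])
  simpa [mul_assoc] using mul_mem (mul_mem hm h1) (inv_mem hm)

/-- Two components with the same root group coincide. -/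
theorem le_of_eq_root (y : Comp p P M T B L' S') : L' ≤ L := by
  set K := L ⊔ L' with hK
  have hKP : K ≤ P := sup_le x.LP y.LP
  have hcent : ∀ t ∈ T, cj t B ≠ B → ∀ g ∈ K, cj g (cj t B) = cj t B := by
    intro t ht hne g hg
    have hD := x.hB.conj (h.TP ht)
    have hc := h.commute_of_le x.hB hD x.BT (cj_le ht x.BT)
    have hle : K ≤ Subgroup.centralizer (cj t B : Set (Γ W)) := sup_le
      (fun g hg => Subgroup.mem_centralizer_iff.2 fun c hc' =>
        ((h.centralizes x.hB hD (Ne.symm hne) hc x.hS x.LP x.fr x.hq).1 g hg c hc').eq.symm)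
      (fun g hg => Subgroup.mem_centralizer_iff.2 fun c hc' =>
        ((h.centralizes y.hB hD (Ne.symm hne) hc y.hS y.LP y.fr y.hq).1 g hg c hc').eq.symm)
    exact cj_eq_of_commute fun c hc' => (Subgroup.mem_centralizer_iff.1 (hle hg) c hc').symm
  have hnorm : ∀ g ∈ K, cj g B ≤ M → cj g B = B := by
    intro g hg hle
    have hD := x.hB.conj (hKP hg)
    obtain ⟨t, ht, e⟩ := x.exists_eq_cj h hD (x.le_T_of_le_M h hD hle)
    by_contra hne
    rw [e] at hne
    have e' := hcent t ht hne g hg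
    rw [← e] at e'
    have := congrArg (cj g⁻¹) e'
    rw [cj_inv_cj, cj_inv_cj] at this
    exact hne (e.symm.trans this)
  have hTI : TI p K (K ⊓ M) B := by
    refine ⟨h.hp, le_inf (x.hS.AP.trans le_sup_left) (x.BT.trans h.TM), inf_le_left,
      fun e => x.hS.ne (inf_eq_left.2 fun g hg => (inf_eq_left.1 e) (Subgroup.mem_sup_left hg)),
      x.hB.el, x.hB.A1, x.hB.off, x.hB.strict, fun g hg hgX a ha hax => ?_⟩
    by_contra ha1
    refine hgX ⟨hg, ?_⟩
    have hD := x.hB.conj (inv_mem (hKP hg))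
    have hmem : g⁻¹ * a * g⁻¹⁻¹ ∈ cj g⁻¹ B := conj_mem_cj ha
    rw [inv_inv] at hmem
    have hle := le_M_of_mem h hD hmem (fun e => ha1 (by simpa [mul_assoc] using congrArg (fun z => g * z * g⁻¹) e)) hax.2
    have hgB := hnorm g⁻¹ (inv_mem hg) hle
    have hgB' : cj g B = B := by
      conv_lhs => rw [← hgB]
      exact cj_cj_inv g B
    refine h.mem_M_of_normalizes (R := ⨆ s ∈ T, cj s B) (iSup₂_le fun s hs => cj_le hs x.BT)
      (fun e => x.hB.A1 (le_bot_iff.1 (by rw [← e]; exact le_iSup₂_of_le 1 (one_mem T) (le_of_eq cj_one.symm))))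
      (fun t ht => h.cj_orbit ht) (hKP hg) ?_
    conv_lhs => simp only [cj, Subgroup.map_iSup]
    refine iSup_congr fun s => iSup_congr fun hs => ?_
    by_cases e : cj s B = B
    · exact (congrArg (cj g) e).trans (hgB'.trans e.symm)
    · exact hcent s hs e g hg
  have hX : ∀ g ∈ K ⊓ M, cj g B = B := fun g hg => hnorm g hg.1 (cj_le hg.2 (x.BT.trans h.TM))
  obtain ⟨a, ha, e⟩ := hTI.exists_cj_eq hX (x := y.fr.n) (k := x.fr.n)
    (Subgroup.mem_sup_right y.fr.n_mem) (fun e => y.n_not_M h e.2)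
    (Subgroup.mem_sup_left x.fr.n_mem) (fun e => x.n_not_M h e.2)
  rw [← y.hS.gen _ y.fr.n_mem (y.fr.n_not_mem y.hS), e]
  exact sup_le x.hS.AP (cj_le (mul_mem (x.hS.AP ha) x.fr.n_mem) x.hS.AP)

/-- Components with different root groups commute, and each fixes the torus commutators of the
other. -/
theorem commute_comp (y : Comp p P M T B' L' S') (hne : B ≠ B') :
    (∀ g ∈ L, ∀ g' ∈ L', Commute g g') ∧ com y.fr.d ≤ fix L := by
  obtain ⟨h1, h2⟩ := h.centralizes y.hB x.hB hne.symm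
    (h.commute_of_le y.hB x.hB y.BT x.BT) y.hS y.LP y.fr y.hq
  set n := x.fr.n with hn
  have hD := x.hB.conj (x.LP x.fr.n_mem)
  obtain ⟨h3, -⟩ := h.centralizes x.hB y.hB hne (h.commute_of_le x.hB y.hB x.BT y.BT) x.hS x.LP x.fr x.hq
  have hne' : B' ≠ cj n B := by
    intro e
    obtain ⟨b, hb, hb1⟩ := (Subgroup.bot_or_exists_ne_one B).resolve_left x.hB.A1
    have hmem : n * b * n⁻¹ ∈ L ⊓ M :=
      ⟨L.mul_mem (L.mul_mem x.fr.n_mem (x.hS.AP hb)) (L.inv_mem x.fr.n_mem), h.TM (y.BT (e ▸ conj_mem_cj hb))⟩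
    rcases x.hS.eq_one_or_not_mem (inv_mem x.fr.n_mem)
      (fun e => x.fr.n_not_mem x.hS ((inv_mem_iff).1 e)) hb with e' | e'
    · exact hb1 e'
    · rw [inv_inv] at e'
      exact e' hmem
  have hc' : ∀ b ∈ B', ∀ c ∈ cj n B, Commute b c := fun b hb c hc =>
    (h3 c (cj_le x.fr.n_mem x.hS.AP hc) b hb).symm
  obtain ⟨h4, h5⟩ := h.centralizes y.hB hD hne' hc' y.hS y.LP y.fr y.hq
  have hgen := x.hS.gen n x.fr.n_mem (x.fr.n_not_mem x.hS)
  refine ⟨fun g hg g' hg' => ?_, ?_⟩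
  · have hle : L ≤ Subgroup.centralizer (L' : Set (Γ W)) := by
      rw [← hgen]
      exact sup_le (fun c hc => Subgroup.mem_centralizer_iff.2 fun z hz => (h1 z hz c hc).eq)
        (fun c hc => Subgroup.mem_centralizer_iff.2 fun z hz => (h4 z hz c hc).eq)
    exact (Subgroup.mem_centralizer_iff.1 (hle hg) g' hg').symm
  · rw [← hgen, fix_sup]
    exact le_inf h2 h5

end Comp

end CfsgLib.LocalEven.MinPar
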