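import Cfsg.Agent.Lib.LocalEven.MinPar.Torus
import Cfsg.Agent.Lib.LocalEven.MinPar.FieldDichotomy

/-!
An automorphism normalising the root group `A` of a subgroup `L` of type `SL₂`, `|A| > 2`, preserves
the part of `[W, A]` fixed by `L` or moves the line of the torus onto it.
-/

set_option autoImplicit false

namespace CfsgLib.LocalEven.MinPar

open CfsgLib.LocalEven.PGV CfsgLib.LocalEven.OffenderSL2 CfsgLib.LocalEven.NaturalRecognition
open scoped MatrixGroups

universe v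

variable {W : Type v} [AddCommGroup W] {p : ℕ} {L N S A : Subgroup (Γ W)}

theorem smul_mem_comA {g : Γ W} (hg : cj g A ≤ A) {r : W} (hr : r ∈ comA A) : g • r ∈ comA A := by
  have : comA A ≤ (comA A).comap (DistribSMul.toAddMonoidHom W g) := by
    refine iSup₂_le fun b hb => ?_
    rintro _ ⟨w, rfl⟩
    show g • (b • w - w) ∈ comA A
    have e : g • (b • w - w) = (g * b * g⁻¹) • (g • w) - g • w := by
      rw [smul_sub, mul_smul, mul_smul, inv_smul_smul]
    rw [e]
    exact AddSubgroup.mem_iSup_of_mem _ (AddSubgroup.mem_iSup_of_mem (hg (conj_mem_cj hb)) (com_mem _ _))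
  exact this hr

namespace Frame

variable (C : Frame p L A)

/-- The line of the torus in the fixed space of `A`. -/
noncomputable def Rd : AddSubgroup W := com C.d ⊓ fix A

/-- The part of `[W, A]` fixed by `L`. -/
def Z1 (_C : Frame p L A) : AddSubgroup W := comA A ⊓ fix L

variable [Finite W] [Fact p.Prime] (hS : Setup p L N S A)
include hS

theorem exists_root (t : C.F) : ∃ a ∈ A, ∃ h : a ∈ L, C.ρ ⟨a, h⟩ = up t := by
  obtain ⟨g, hg, e⟩ := C.up_surj t
  exact ⟨g, hg, g.2, e⟩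

theorem d_cj : cj C.d A = A := by
  refine Subgroup.eq_of_le_of_card_ge ?_ (card_cj _ _).ge
  rintro _ ⟨a, ha, rfl⟩
  obtain ⟨t, ht⟩ := C.rho_up ⟨a, hS.AP ha⟩ ha
  obtain ⟨a', ha', hL, e⟩ := C.exists_root hS ((C.lam : C.F) * (C.lam : C.F) * t)
  have heq : (⟨a', hL⟩ : L) = ⟨C.d, C.d_mem⟩ * ⟨a, hS.AP ha⟩ * ⟨C.d, C.d_mem⟩⁻¹ := by
    apply C.ρ.injective
    rw [map_mul, map_mul, map_inv, e, ht, eq_mul_inv_iff_mul_eq]
    have hd : C.ρ ⟨C.d, C.d_mem⟩ = dia C.lam := C.ρ.apply_symm_apply _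
    rw [hd]
    ext i j
    rw [Matrix.SpecialLinearGroup.coe_mul, Matrix.SpecialLinearGroup.coe_mul, up_coe, up_coe, dia_coe]
    fin_cases i <;> fin_cases j <;> simp [Matrix.mul_apply, Fin.sum_univ_two]
    field_simp
  have e' : a' = C.d * a * C.d⁻¹ := congrArg Subtype.val heq
  show C.d * a * C.d⁻¹ ∈ A
  rwa [← e']

theorem comA_le_fix : comA A ≤ fix A := iSup₂_le fun a ha => by
  rintro _ ⟨w, rfl⟩
  exact hS.sub_mem_fix ha w

variable (hq : 2 < Nat.card A)
include hq

theorem exists_com_eq (v : Fin 2 → C.F) : ∃ x ∈ com C.d, C.ψ x = v := by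
  obtain ⟨w, hw⟩ := C.surj v
  obtain ⟨x, hx, z, hz, rfl⟩ := AddSubgroup.mem_sup.1 (C.com_sup hS hq ▸ AddSubgroup.mem_top w)
  exact ⟨x, hx, by rw [← hw, map_add, (C.ker z).2 hz, add_zero]⟩

theorem eq_of_psi {x y : W} (hx : x ∈ com C.d) (hy : y ∈ com C.d) (e : C.ψ x = C.ψ y) : x = y := by
  have : x - y ∈ com C.d ⊓ fix L := ⟨(com C.d).sub_mem hx hy, (C.ker _).1 (by rw [map_sub, e, sub_self])⟩
  rwa [C.com_inf hS hq, AddSubgroup.mem_bot, sub_eq_zero] at this

theorem Rd_le : C.Rd ≤ comA A := by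
  rintro x ⟨hx, hxA⟩
  by_cases hx0 : x = 0
  · rw [hx0]; exact zero_mem _
  obtain ⟨v, hv, hvL⟩ : ∃ v ∈ comA A, v ∉ fix L := by
    by_contra hcon
    push Not at hcon
    have e : fix A = fix L := C.fix_eq.trans (sup_eq_right.2 hcon)
    obtain ⟨w, hw⟩ := C.surj ![1, 0]
    have hwA : w ∈ fix A := (C.mem_fix w).2 (by simp [hw])
    rw [e, ← C.ker, hw] at hwA
    simpa using congrFun hwA 0
  have hd : cj C.d A ≤ A := (C.d_cj hS).le
  obtain ⟨i, rfl⟩ := C.exists_line hS hq (comA_le_fix hS hv) hvL hx hxA hx0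
  have hmem : C.d • v - v ∈ comA A := sub_mem (smul_mem_comA hd hv) hv
  clear hx hxA hx0
  induction i with
  | zero => simpa using hmem
  | succ i ih => rw [pow_succ', mul_smul]; exact smul_mem_comA hd ih

theorem comA_le : comA A ≤ C.Rd ⊔ C.Z1 := by
  intro r hr
  obtain ⟨x, hx, z, hz, rfl⟩ := AddSubgroup.mem_sup.1 (C.com_sup hS hq ▸ AddSubgroup.mem_top r)
  have hxA : x ∈ fix A := by
    have := sub_mem (comA_le_fix hS hr) (hS.fix_le_self hz)
    rwa [add_sub_cancel_right] at this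
  have hzc : z ∈ comA A := by
    have := sub_mem hr (C.Rd_le hS hq ⟨hx, hxA⟩)
    rwa [add_sub_cancel_left] at this
  exact AddSubgroup.mem_sup.2 ⟨x, ⟨hx, hxA⟩, z, ⟨hzc, hz⟩, rfl⟩

/-- An automorphism normalising `A` preserves `Z1` or moves `Rd` onto it. -/
theorem pairing {g : Γ W} (hg : cj g A = A) :
    (∀ z ∈ C.Z1, g • z ∈ C.Z1) ∨ ∀ z ∈ C.Z1, ∃ x ∈ C.Rd, g • x = z := by
  classical
  choose xi hxi hxiψ using fun s : C.F => C.exists_com_eq hS hq ![s, 0]
  choose yi hyi hyiψ using fun s : C.F => C.exists_com_eq hS hq ![0, s]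
  choose ra hra hraL hraρ using C.exists_root hS
  have hxiR : ∀ s, xi s ∈ C.Rd := fun s => ⟨hxi s, (C.mem_fix _).2 (by simp [hxiψ])⟩
  have hxiadd : ∀ s t, xi (s + t) = xi s + xi t := fun s t =>
    C.eq_of_psi hS hq (hxi _) (add_mem (hxi s) (hxi t)) (by
      rw [map_add, hxiψ, hxiψ, hxiψ]; ext i; fin_cases i <;> simp)
  have hyiadd : ∀ s t, yi (s + t) = yi s + yi t := fun s t =>
    C.eq_of_psi hS hq (hyi _) (add_mem (hyi s) (hyi t)) (by
      rw [map_add, hyiψ, hyiψ, hyiψ]; ext i; fin_cases i <;> simp)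
  have hrauniq : ∀ a (_ : a ∈ A) (hL : a ∈ L) t, C.ρ ⟨a, hL⟩ = up t → a = ra t := fun a _ hL t e =>
    congrArg Subtype.val (C.ρ.injective (e.trans (hraρ t).symm) : (⟨a, hL⟩ : L) = ⟨ra t, hraL t⟩)
  have hraadd : ∀ s t, ra (s + t) = ra s * ra t := fun s t => (hrauniq _ (mul_mem (hra s) (hra t))
    (mul_mem (hraL s) (hraL t)) _ (by
      rw [show (⟨ra s * ra t, mul_mem (hraL s) (hraL t)⟩ : L) = ⟨ra s, hraL s⟩ * ⟨ra t, hraL t⟩ from rfl,
        map_mul, hraρ, hraρ, up_add])).symm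
  have hψra : ∀ t (w : W), C.ψ (ra t • w) = ![C.ψ w 0 + t * C.ψ w 1, C.ψ w 1] := fun t w => by
    have := C.compat ⟨ra t, hraL t⟩ w
    rw [hraρ, Setup.up_mulVec] at this
    exact this
  -- the commutator map and its part fixed by `L`
  let r : C.F → C.F → W := fun a y => ra a • yi y - yi y
  let z : C.F → C.F → W := fun a y => r a y - xi (a * y)
  have hrmem : ∀ a y, r a y ∈ comA A := fun a y =>
    AddSubgroup.mem_iSup_of_mem _ (AddSubgroup.mem_iSup_of_mem (hra a) (com_mem _ _))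
  have hzmem : ∀ a y, z a y ∈ C.Z1 := fun a y =>
    ⟨(comA A).sub_mem (hrmem a y) (C.Rd_le hS hq (hxiR _)), (C.ker _).1 (by
      simp only [z, r, map_sub, hψra, hyiψ, hxiψ]
      ext i; fin_cases i <;> simp)⟩
  have hr2 : ∀ a y y', r a (y + y') = r a y + r a y' := fun a y y' => by
    simp only [r, hyiadd, smul_add]; abel
  have hr1 : ∀ a b y, r (a + b) y = r a y + r b y := fun a b y => by
    simp only [r, hraadd]
    have e := hS.mul_sub (g := 1) (by rw [cj_one]; exact hra a) (by rw [cj_one]; exact hra b) (yi y)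
    exact e
  have hz2 : ∀ a y y', z a (y + y') = z a y + z a y' := fun a y y' => by
    simp only [z, hr2, mul_add, hxiadd]; abel
  have hz1 : ∀ a b y, z (a + b) y = z a y + z b y := fun a b y => by
    simp only [z, hr1, add_mul, hxiadd]; abel
  -- equivariance
  have hdra : ∀ t, C.d * ra t * C.d⁻¹ = ra ((C.lam : C.F) * (C.lam : C.F) * t) := fun t => by
    refine hrauniq _ ((C.d_cj hS).le (conj_mem_cj (hra t))) (mul_mem (mul_mem C.d_mem (hraL t))
      (inv_mem C.d_mem)) _ ?_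
    show C.ρ (⟨C.d, C.d_mem⟩ * ⟨ra t, hraL t⟩ * ⟨C.d, C.d_mem⟩⁻¹) = _
    rw [map_mul, map_mul, map_inv, hraρ, mul_inv_eq_iff_eq_mul]
    have hd : C.ρ ⟨C.d, C.d_mem⟩ = dia C.lam := C.ρ.apply_symm_apply _
    rw [hd]
    ext i j
    rw [Matrix.SpecialLinearGroup.coe_mul, Matrix.SpecialLinearGroup.coe_mul, up_coe, up_coe, dia_coe]
    fin_cases i <;> fin_cases j <;> simp [Matrix.mul_apply, Fin.sum_univ_two]
    field_simp
  have hdyi : ∀ y, C.d • yi y = yi ((↑C.lam⁻¹ : C.F) * y) := fun y =>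
    C.eq_of_psi hS hq (smul_mem_com (Commute.refl _) (hyi y)) (hyi _) (by
      rw [C.psi_d, hyiψ, hyiψ]; ext i; fin_cases i <;> simp)
  have hdxi : ∀ s, C.d • xi s = xi ((C.lam : C.F) * s) := fun s =>
    C.eq_of_psi hS hq (smul_mem_com (Commute.refl _) (hxi s)) (hxi _) (by
      rw [C.psi_d, hxiψ, hxiψ]; ext i; fin_cases i <;> simp)
  have hdz : ∀ a y, z ((C.lam : C.F) * (C.lam : C.F) * a) ((↑C.lam⁻¹ : C.F) * y) = z a y := by
    intro a y
    have e1 : C.d • z a y = z a y := (hzmem a y).2 _ C.d_mem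
    have e2 : C.d • z a y = z ((C.lam : C.F) * (C.lam : C.F) * a) ((↑C.lam⁻¹ : C.F) * y) := by
      simp only [z, r, smul_sub, hdxi, hdyi]
      rw [← hdra, mul_smul, mul_smul, ← hdyi, inv_smul_smul, hdyi]
      congr 2
      rw [Units.val_inv_eq_inv_val]
      field_simp
    rw [← e2, e1]
  have hzpow : ∀ (i : ℕ) a y, z ((C.lam : C.F) ^ i * (C.lam : C.F) ^ i * a)
      ((↑C.lam⁻¹ : C.F) ^ i * y) = z a y := by
    intro i
    induction i with
    | zero => simp
    | succ i ih =>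
      intro a y
      rw [← ih a y, ← hdz ((C.lam : C.F) ^ i * (C.lam : C.F) ^ i * a) ((↑C.lam⁻¹ : C.F) ^ i * y)]
      congr 1 <;> ring
  have hz0 : ∀ a, z a 0 = 0 := fun a => by
    have := hz2 a 0 0
    rw [add_zero] at this
    exact left_eq_add.1 this
  have hz0' : ∀ y, z 0 y = 0 := fun y => by
    have := hz1 0 0 y
    rw [add_zero] at this
    exact left_eq_add.1 this
  have hzπ : ∀ a y, z a y = z (a * (y * y)) 1 := by
    intro a y
    by_cases hy : y = 0
    · subst hy; simp [hz0, hz0']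
    obtain ⟨i, hi⟩ := C.exists_pow (Units.mk0 y hy)
    have hi1 : (C.lam : C.F) ^ i = y := by rw [← Units.val_pow_eq_pow_val, hi, Units.val_mk0]
    have hi2 : (↑C.lam⁻¹ : C.F) ^ i = y⁻¹ := by
      rw [← Units.val_pow_eq_pow_val, inv_pow, hi, Units.val_inv_eq_inv_val, Units.val_mk0]
    have := hzpow i a y
    rw [hi1, hi2, inv_mul_cancel₀ hy] at this
    rw [← this, mul_comm a]
  -- `Z1` consists of the values
  let π : C.F →+ W := AddMonoidHom.mk' (fun s => z s 1) fun s t => hz1 s t 1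
  have hπ : ∀ a y, r a y = xi (a * y) + π (a * (y * y)) := fun a y => by
    show r a y = xi (a * y) + z (a * (y * y)) 1
    rw [← hzπ]; simp [z]
  let Xi : C.F →+ W := AddMonoidHom.mk' xi hxiadd
  have hgen : comA A ≤ Xi.range ⊔ π.range := iSup₂_le fun a ha => by
    rintro _ ⟨w, rfl⟩
    obtain ⟨t, ht⟩ := C.rho_up ⟨a, hS.AP ha⟩ ha
    have hat : a = ra t := hrauniq a ha (hS.AP ha) t ht
    have hn : w - yi (C.ψ w 1) ∈ fix A := (C.mem_fix _).2 (by simp [map_sub, hyiψ])
    show a • w - w ∈ _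
    have e : a • w - w = r t (C.ψ w 1) := by
      have := hn a ha
      rw [smul_sub, sub_eq_sub_iff_sub_eq_sub] at this
      rw [this]
      simp only [r, hat]
    rw [e, hπ]
    exact AddSubgroup.add_mem_sup ⟨_, rfl⟩ ⟨_, rfl⟩
  have hZ1 : ∀ u ∈ C.Z1, u ∈ π.range := by
    intro u hu
    obtain ⟨_, ⟨s, rfl⟩, _, ⟨t, rfl⟩, e⟩ := AddSubgroup.mem_sup.1 (hgen hu.1)
    refine ⟨t, ?_⟩
    rw [← e]
    have h0 : xi s ∈ com C.d ⊓ fix L := by
      refine ⟨hxi s, ?_⟩
      have := (fix L).sub_mem hu.2 (show π t ∈ fix L from (hzmem t 1).2)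
      rw [← e, add_sub_cancel_right] at this
      exact this
    rw [C.com_inf hS hq, AddSubgroup.mem_bot] at h0
    show π t = xi s + π t
    rw [h0, zero_add]
  by_cases h2 : (2 : C.F) = 0
  swap
  · refine Or.inl fun u hu => ?_
    obtain ⟨t, rfl⟩ := hZ1 u hu
    have hzero : ∀ s, π s = 0 := by
      intro s
      have e1 : z (s / 2) (1 + 1) = z (s / 2) 1 + z (s / 2) 1 := hz2 _ 1 1
      rw [hzπ] at e1
      have e2 : π (s / 2 * ((1 + 1) * (1 + 1))) = π (s / 2) + π (s / 2) := e1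
      rw [← map_add] at e2
      have e3 : s / 2 * ((1 + 1) * (1 + 1)) = s + s := by
        rw [one_add_one_eq_two]; field_simp; ring
      have e4 : s / 2 + s / 2 = s := by field_simp; ring
      rw [e3, e4, map_add, add_eq_left] at e2
      exact e2
    rw [hzero, smul_zero]
    exact zero_mem _
  haveI : CharP C.F 2 := CharP.ringChar_of_prime_eq_zero Nat.prime_two (by exact_mod_cast h2) ▸ ringChar.charP C.F
  -- the action of `g`
  choose ga hga using fun t => C.rho_up ⟨g * ra t * g⁻¹, hS.AP (hg.le (conj_mem_cj (hra t)))⟩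
    (hg.le (conj_mem_cj (hra t)))
  have hgra : ∀ t, g * ra t * g⁻¹ = ra (ga t) := fun t =>
    hrauniq _ (hg.le (conj_mem_cj (hra t))) _ _ (hga t)
  have hrainj : Function.Injective ra := fun s t e => by
    have := hψra s (yi 1)
    rw [e, hψra, hyiψ] at this
    simpa using (congrFun this 0).symm
  have hgN : ∀ w, g • w ∈ fix A → w ∈ fix A := fun w hw => by
    rw [← hg, mem_fix_cj, inv_smul_smul] at hw
    exact hw
  let Am : C.F →+ C.F := AddMonoidHom.mk' ga fun s t => hrainj (by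
    rw [← hgra, hraadd, hraadd, ← hgra, ← hgra]; group)
  let Ym : C.F →+ C.F := AddMonoidHom.mk' (fun y => C.ψ (g • yi y) 1) fun s t => by
    simp only [hyiadd, smul_add, map_add, Pi.add_apply]
  let Φ : C.F →+ C.F := AddMonoidHom.mk' (fun s => C.ψ (g • xi s) 0) fun s t => by
    simp only [hxiadd, smul_add, map_add, Pi.add_apply]
  let G : C.F →+ C.F := AddMonoidHom.mk' (fun s => C.ψ (g • π s) 0) fun s t => by
    simp only [map_add, smul_add, Pi.add_apply]
  have hAinj : Function.Injective Am := fun s t e => hrainj (by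
    have e' : g * ra s * g⁻¹ = g * ra t * g⁻¹ := by rw [hgra, hgra]; exact congrArg ra e
    simpa using e')
  have hYinj : Function.Injective Ym := (injective_iff_map_eq_zero Ym).2 fun y hy => by
    have := (C.mem_fix _).1 (hgN _ ((C.mem_fix _).2 hy))
    simpa [hyiψ] using this
  have hmain : ∀ a y, Am a * Ym y = Φ (a * y) + G (a * (y * y)) := by
    intro a y
    have e : g • r a y = ra (ga a) • (g • yi y) - g • yi y := by
      simp only [r]
      rw [smul_sub, ← hgra, mul_smul, mul_smul, inv_smul_smul]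
    have e2 := congrArg (fun w => C.ψ w 0) e
    rw [hπ, smul_add] at e2
    simp only [map_add, map_sub, hψra, Pi.add_apply, Pi.sub_apply, Matrix.cons_val_zero,
      add_sub_cancel_left] at e2
    exact e2.symm
  rcases dichotomy (by rw [C.card]; exact hq) Am Ym Φ G hAinj hYinj hmain with hΦ | hG
  · refine Or.inr fun u hu => ?_
    have himg : ∀ s, g • xi s ∈ C.Z1 := fun s => by
      have hc : g • xi s ∈ comA A := smul_mem_comA hg.le (C.Rd_le hS hq (hxiR s))
      refine ⟨hc, (C.ker _).1 ?_⟩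
      ext i
      fin_cases i
      · exact DFunLike.congr_fun hΦ s
      · exact (C.mem_fix _).1 (comA_le_fix hS hc)
    let f : C.F → C.Z1 := fun s => ⟨g • xi s, himg s⟩
    have hf : Function.Injective f := fun s t e => by
      have e' := MulAction.injective g (congrArg Subtype.val e)
      have := congrArg (fun w => C.ψ w 0) e'
      simpa [hxiψ] using this
    have hcard : Nat.card C.Z1 ≤ Nat.card C.F := by
      refine (Nat.card_le_card_of_surjective (fun s : C.F => (⟨π s, hzmem s 1⟩ : C.Z1)) ?_)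
      intro u'
      obtain ⟨s, hs⟩ := hZ1 u' u'.2
      exact ⟨s, Subtype.ext hs⟩
    obtain ⟨s, hs⟩ := ((Nat.bijective_iff_injective_and_card f).2
      ⟨hf, le_antisymm (Nat.card_le_card_of_injective f hf) hcard⟩).2 ⟨u, hu⟩
    exact ⟨xi s, hxiR s, congrArg Subtype.val hs⟩
  · refine Or.inl fun u hu => ?_
    obtain ⟨t, rfl⟩ := hZ1 u hu
    have hc : g • π t ∈ comA A := smul_mem_comA hg.le hu.1
    refine ⟨hc, (C.ker _).1 ?_⟩
    ext i
    fin_cases i
    · exact DFunLike.congr_fun hG t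
    · exact (C.mem_fix _).1 (comA_le_fix hS hc)

end Frame

end CfsgLib.LocalEven.MinPar
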