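import Cfsg.Agent.Lib.LocalEven.MinPar.Commute

/-!
Transvection offenders in a `2`-minimal linear group: their centres form a system closed under the
sum of two non-perpendicular ones, without a star of four.
-/

set_option autoImplicit false

namespace CfsgLib.LocalEven.MinPar

open CfsgLib.LocalEven.PGV CfsgLib.LocalEven.OffenderSL2

universe v

variable {W : Type v} [AddCommGroup W] {P M T : Subgroup (Γ W)}

/-- A transvection in `P`. -/
def Tv (P : Subgroup (Γ W)) (t : Γ W) : Prop :=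
  t ∈ P ∧ t ≠ 1 ∧ ∃ c : W, ∀ w : W, t • w = w ∨ t • w = w + c

open Classical in
/-- The linear form of a transvection. -/
noncomputable def phi (t : Γ W) (w : W) : ZMod 2 := if t • w = w then 0 else 1

/-- The centres of the transvections in `P`. -/
def Cn (P : Subgroup (Γ W)) : Set W :=
  {x | x ≠ 0 ∧ ∃ t, Tv P t ∧ ∀ w : W, t • w = w ∨ t • w = w + x}

open Classical in
/-- The transvection with a given centre. -/
noncomputable def tvOf (P : Subgroup (Γ W)) (x : W) : Γ W := if h : x ∈ Cn P then h.2.choose else 1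

/-- The pairing of a centre with a vector. -/
noncomputable def Bf (P : Subgroup (Γ W)) (x w : W) : ZMod 2 := phi (tvOf P x) w

theorem Tv.exists_cn {t : Γ W} (ht : Tv P t) :
    ∃ x ∈ Cn P, ∀ w : W, t • w = w ∨ t • w = w + x := by
  obtain ⟨c, hc⟩ := ht.2.2
  refine ⟨c, ⟨fun e => ht.2.1 (ext_smul fun w => ?_), t, ht, hc⟩, hc⟩
  rw [one_smul]
  rcases hc w with e' | e' <;> simpa [e] using e'

theorem tvOf_spec {x : W} (hx : x ∈ Cn P) :
    Tv P (tvOf P x) ∧ ∀ w : W, tvOf P x • w = w ∨ tvOf P x • w = w + x := by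
  rw [tvOf, dif_pos hx]
  exact hx.2.choose_spec

theorem zmod2_cases (a : ZMod 2) : a = 0 ∨ a = 1 := by
  revert a; decide

theorem zmod2_span : ∀ a b d : Fin 3 → ZMod 2, a 0 + a 1 = 1 → b 0 + b 2 = 1 → d 1 + d 2 = 1 →
    ∀ v : Fin 3 → ZMod 2, ∃ i j k l : ZMod 2,
      v = (fun _ => i) + (fun q => j * a q) + (fun q => k * b q) + (fun q => l * d q) := by
  decide

theorem phi_eq_zero {t : Γ W} {w : W} : phi t w = 0 ↔ t • w = w := by
  rw [phi]; split <;> simp_all

theorem smul_of_phi_one {t : Γ W} {x w : W} (hx : ∀ w : W, t • w = w ∨ t • w = w + x)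
    (h1 : phi t w = 1) : t • w = w + x :=
  (hx w).resolve_left fun e => by rw [phi_eq_zero.2 e] at h1; exact absurd h1 (by decide)

theorem phi_eq_one {t : Γ W} {w : W} : phi t w = 1 ↔ t • w ≠ w := by
  rw [ne_eq, ← phi_eq_zero]
  rcases zmod2_cases (phi t w) with e | e <;> simp [e]

theorem phi_conj (g t : Γ W) (w : W) : phi (g * t * g⁻¹) (g • w) = phi t w := by
  rcases zmod2_cases (phi t w) with e | e <;> rw [e]
  · rw [phi_eq_zero] at e ⊢
    rw [mul_smul, mul_smul, inv_smul_smul, e]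
  · rw [phi_eq_one] at e ⊢
    rw [mul_smul, mul_smul, inv_smul_smul]
    exact fun e' => e (MulAction.injective g e')

theorem Tv.conj {t g : Γ W} (ht : Tv P t) (hg : g ∈ P) : Tv P (g * t * g⁻¹) := by
  refine ⟨mul_mem (mul_mem hg ht.1) (inv_mem hg), fun e => ht.2.1 (conj_eq_one_iff.1 e), ?_⟩
  obtain ⟨c, hc⟩ := ht.2.2
  refine ⟨g • c, fun w => ?_⟩
  rw [mul_smul, mul_smul]
  rcases hc (g⁻¹ • w) with e | e <;> rw [e]
  · exact Or.inl (smul_inv_smul g w)
  · exact Or.inr (by rw [smul_add, smul_inv_smul])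

theorem cn_smul {g : Γ W} {x : W} (hg : g ∈ P) (hx : x ∈ Cn P) : g • x ∈ Cn P := by
  obtain ⟨hx0, t, ht, hc⟩ := hx
  refine ⟨fun e => hx0 (MulAction.injective g (e.trans (smul_zero g).symm)), g * t * g⁻¹, ht.conj hg,
    fun w => ?_⟩
  rw [mul_smul, mul_smul]
  rcases hc (g⁻¹ • w) with e | e <;> rw [e]
  · exact Or.inl (smul_inv_smul g w)
  · exact Or.inr (by rw [smul_add, smul_inv_smul])

namespace MinPar

variable (h : MinPar 2 P M T)
include h

theorem add_self (w : W) : w + w = 0 := by rw [← two_nsmul]; exact h.hp w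

variable {t s : Γ W} {x y : W}

theorem smul_cen (ht : Tv P t) (hx : x ≠ 0) (hc : ∀ w : W, t • w = w ∨ t • w = w + x) : t • x = x := by
  refine (hc x).resolve_right fun e => hx ?_
  rw [h.add_self] at e
  exact MulAction.injective t (e.trans (smul_zero t).symm)

theorem phi_add (ht : Tv P t) (hx : x ≠ 0) (hc : ∀ w : W, t • w = w ∨ t • w = w + x) (v w : W) :
    phi t (v + w) = phi t v + phi t w := by
  rcases zmod2_cases (phi t v) with a | a <;> rcases zmod2_cases (phi t w) with b | b <;> rw [a, b]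
  · rw [phi_eq_zero] at a b
    rw [add_zero, phi_eq_zero, smul_add, a, b]
  · rw [phi_eq_zero] at a
    rw [zero_add, phi_eq_one, smul_add, a, smul_of_phi_one hc b]
    exact fun e => hx (by simpa using e)
  · rw [phi_eq_zero] at b
    rw [add_zero, phi_eq_one, smul_add, b, smul_of_phi_one hc a]
    exact fun e => hx (by simpa using e)
  · rw [show (1 : ZMod 2) + 1 = 0 from rfl, phi_eq_zero, smul_add, smul_of_phi_one hc a, smul_of_phi_one hc b]
    rw [show v + x + (w + x) = v + w + (x + x) by abel, h.add_self, add_zero]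

theorem sq (ht : Tv P t) (hx : x ≠ 0) (hc : ∀ w : W, t • w = w ∨ t • w = w + x) : t * t = 1 :=
  ext_smul fun w => by
    rw [one_smul, mul_smul]
    rcases hc w with e | e <;> rw [e]
    · exact e
    · rw [smul_add, h.smul_cen ht hx hc, e, add_assoc, h.add_self, add_zero]

variable [Finite W]

theorem off_zpowers (ht : Tv P t) : Off 2 P (Subgroup.zpowers t) := by
  classical
  haveI : Fact (Nat.Prime 2) := ⟨Nat.prime_two⟩
  obtain ⟨x, hx, hc⟩ := ht.exists_cn
  have hsq := h.sq ht hx.1 hc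
  have hord : orderOf t = 2 := orderOf_eq_prime (by rw [pow_two, hsq]) ht.2.1
  have hcard : Nat.card (Subgroup.zpowers t) = 2 := by rw [Nat.card_zpowers, hord]
  refine ⟨by rw [Subgroup.zpowers_le]; exact ht.1, ⟨⟨⟨fun a b => ?_⟩⟩, fun a ha => ?_⟩,
    fun e => ht.2.1 (Subgroup.zpowers_eq_bot.1 e), ?_, fun B hB hB1 hBA => ?_⟩
  · obtain ⟨i, hi⟩ := a.2
    obtain ⟨j, hj⟩ := b.2
    apply Subtype.ext
    show (a : Γ W) * b = b * a
    rw [← hi, ← hj]
    exact (Commute.zpow_zpow_self t i j).eq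
  · obtain ⟨i, rfl⟩ := ha
    show (t ^ i) ^ 2 = 1
    rw [← zpow_natCast, ← zpow_mul, mul_comm, zpow_mul, zpow_natCast, pow_two, hsq, one_zpow]
  · rw [hcard]
    have hfix : ∀ w, w ∈ fix (Subgroup.zpowers t) ↔ t • w = w := fun w =>
      ⟨fun e => e t (Subgroup.mem_zpowers t), fun e g hg => by
        have hle : Subgroup.zpowers t ≤ MulAction.stabilizer (Γ W) w := by
          rw [Subgroup.zpowers_le]; exact e
        exact hle hg⟩
    have hrange : Nat.card (der t).range ≤ 2 := by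
      refine (Nat.card_le_card_of_injective (fun u : (der t).range => decide ((u : W) = 0)) fun u u' e => ?_).trans
        (by simp)
      have hu : ∀ u : (der t).range, (u : W) = 0 ∨ (u : W) = x := fun u => by
        obtain ⟨w, hw⟩ := u.2
        rw [← hw]
        rcases hc w with e' | e'
        · exact Or.inl (sub_eq_zero.2 e')
        · exact Or.inr (show t • w - w = x by rw [e', add_sub_cancel_left])
      simp only [decide_eq_decide] at e
      rcases hu u with a | a <;> rcases hu u' with b | b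
      · exact Subtype.ext (a.trans b.symm)
      · exact absurd (b.symm.trans (e.1 a)) hx.1
      · exact absurd (a.symm.trans (e.2 b)) hx.1
      · exact Subtype.ext (a.trans b.symm)
    have hk : (der t).ker = fix (Subgroup.zpowers t) := by
      ext w
      rw [AddMonoidHom.mem_ker, hfix]
      exact sub_eq_zero
    rw [AddSubgroup.card_eq_card_quotient_mul_card_addSubgroup (der t).ker, hk]
    refine Nat.mul_le_mul_right _ (le_trans (le_of_eq ?_) hrange)
    rw [← hk]
    exact Nat.card_congr (QuotientAddGroup.quotientKerEquivRange (der t)).toEquiv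
  · exfalso
    refine hBA (Subgroup.eq_of_le_of_card_ge hB ?_)
    rw [hcard]
    haveI := (Subgroup.nontrivial_iff_ne_bot B).2 hB1
    exact Finite.one_lt_card

theorem tv_of_off {A : Subgroup (Γ W)} (hA : Off 2 P A) (h2 : Nat.card A = 2) {a : Γ W} (ha : a ∈ A)
    (ha1 : a ≠ 1) : Tv P a := by
  haveI : Fact (Nat.Prime 2) := ⟨Nat.prime_two⟩
  have hcard := h.card_com hA ha ha1
  rw [h2] at hcard
  haveI : Finite (com a) := Nat.finite_of_card_ne_zero (by omega)
  obtain ⟨u, hu, hu0⟩ : ∃ u ∈ com a, u ≠ 0 := by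
    by_contra hcon
    push Not at hcon
    have : com a = ⊥ := (AddSubgroup.eq_bot_iff_forall _).2 hcon
    rw [this, AddSubgroup.card_bot] at hcard
    omega
  refine ⟨hA.AP ha, ha1, u, fun w => ?_⟩
  by_contra hne
  rw [not_or] at hne
  have h0 : a • w - w ≠ 0 := sub_ne_zero.2 hne.1
  let f : Fin 3 → com a := ![0, ⟨u, hu⟩, ⟨a • w - w, com_mem a w⟩]
  have hf : Function.Injective f := by
    intro i j e
    have e' := congrArg Subtype.val e
    fin_cases i <;> fin_cases j <;> simp [f] at e' ⊢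
    · exact hu0 e'.symm
    · exact h0 e'.symm
    · exact hu0 e'
    · exact hne.2 (by rw [e']; abel)
    · exact h0 e'
    · exact hne.2 (by rw [← e']; abel)
  have := Nat.card_le_card_of_injective f hf
  simp at this
  omega

theorem eq_of_phi_eq (ht : Tv P t) (hs : Tv P s) (e : ∀ w, phi t w = phi s w) : t = s := by
  haveI : Fact (Nat.Prime 2) := ⟨Nat.prime_two⟩
  have hAt := h.off_zpowers ht
  have hAs := h.off_zpowers hs
  have hmem : ∀ w, t • w = w ↔ s • w = w := fun w => by rw [← phi_eq_zero, ← phi_eq_zero, e]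
  have he : Subgroup.zpowers t = Subgroup.zpowers s := by
    refine h.eq_of_fix_eq hAt hAs (AddSubgroup.ext fun w => ?_)
    constructor
    · exact fun hw => h.fixElem hAs (Subgroup.mem_zpowers s) hs.2.1 ((hmem w).1 (hw t (Subgroup.mem_zpowers t)))
    · exact fun hw => h.fixElem hAt (Subgroup.mem_zpowers t) ht.2.1 ((hmem w).2 (hw s (Subgroup.mem_zpowers s)))
  obtain ⟨x, hx, hc⟩ := ht.exists_cn
  have hsq : t ^ (2 : ℤ) = 1 := by rw [zpow_two, h.sq ht hx.1 hc]
  obtain ⟨i, hi⟩ := (he ▸ Subgroup.mem_zpowers s : s ∈ Subgroup.zpowers t)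
  rcases Int.even_or_odd i with ⟨k, rfl⟩ | ⟨k, rfl⟩
  · refine absurd ?_ hs.2.1
    rw [← hi]
    show t ^ (k + k) = 1
    rw [← two_mul, zpow_mul, hsq, one_zpow]
  · rw [← hi]
    show t = t ^ (2 * k + 1)
    rw [zpow_add_one, zpow_mul, hsq, one_zpow, one_mul]

theorem commute_of_phi (ht : Tv P t) (hs : Tv P s) (hx : x ≠ 0)
    (hc : ∀ w : W, t • w = w ∨ t • w = w + x) (hcs : ∀ w : W, s • w = w ∨ s • w = w + y) (hy : y ≠ 0)
    (h0 : phi s x = 0) : Commute t s := by
  have e : t * s * t⁻¹ = s := by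
    refine h.eq_of_phi_eq (hs.conj ht.1) hs fun w => ?_
    have e1 := phi_conj t s (t⁻¹ • w)
    rw [smul_inv_smul] at e1
    have hinv : t⁻¹ = t := inv_eq_of_mul_eq_one_right (h.sq ht hx hc)
    rw [e1, hinv]
    rcases hc w with e2 | e2 <;> rw [e2]
    rw [h.phi_add hs hy hcs, h0, add_zero]
  exact mul_inv_eq_iff_eq_mul.1 e

theorem phi_of_commute (ht : Tv P t) (hy : y ≠ 0) (hc : ∀ w : W, t • w = w ∨ t • w = w + x)
    (hcs : ∀ w : W, s • w = w ∨ s • w = w + y) (hts : Commute t s) : phi s x = 0 := by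
  by_contra h0
  have h1 := smul_of_phi_one hcs ((zmod2_cases _).resolve_left h0)
  obtain ⟨v, hv⟩ : ∃ v, t • v ≠ v := by
    by_contra hcon
    push Not at hcon
    exact ht.2.1 (ext_smul fun w => by rw [hcon, one_smul])
  have e : t • s • v = s • t • v := by rw [← mul_smul, ← mul_smul, hts.eq]
  rw [(hc v).resolve_left hv, smul_add, h1] at e
  rcases hc (s • v) with e2 | e2
  · refine hv (MulAction.injective s ?_)
    show s • (t • v) = s • v
    rw [(hc v).resolve_left hv, smul_add, h1, ← e, e2]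
  · rw [e2] at e
    exact hy (by simpa using e.symm)

theorem exists_opp (hs : Tv P s) : ∃ d, Tv P d ∧ ¬ Commute s d := by
  haveI : Fact (Nat.Prime 2) := ⟨Nat.prime_two⟩
  obtain ⟨g, hg, L, S, hLP, hgT, hS⟩ := h.exists_setup (h.off_zpowers hs)
  obtain ⟨k, hk, hkN⟩ := hS.exists_outside
  set a := g * s * g⁻¹ with ha
  have haA : a ∈ cj g (Subgroup.zpowers s) := conj_mem_cj (Subgroup.mem_zpowers s)
  have hAz : cj g (Subgroup.zpowers s) = Subgroup.zpowers a := by
    rw [cj, MonoidHom.map_zpowers]; rfl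
  refine ⟨g⁻¹ * (k * a * k⁻¹) * g, ?_, fun hc => ?_⟩
  · have h1 := ((hs.conj hg).conj (hLP hk)).conj (inv_mem hg)
    rwa [inv_inv] at h1
  · have hca : Commute a (k * a * k⁻¹) := by
      have := hc.map (MulAut.conj g).toMonoidHom
      simpa [ha, mul_assoc] using this
    have hgen := hS.gen k hk hkN
    have hle : L ≤ Subgroup.centralizer ({a} : Set (Γ W)) := by
      rw [← hgen, hAz, cj, MonoidHom.map_zpowers]
      exact sup_le (by rw [Subgroup.zpowers_le, Subgroup.mem_centralizer_singleton_iff])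
        (by rw [Subgroup.zpowers_le, Subgroup.mem_centralizer_singleton_iff]; exact hca.eq.symm)
    have hka : Commute k a := Subgroup.mem_centralizer_singleton_iff.1 (hle hk)
    have hcj : cj k (cj g (Subgroup.zpowers s)) = cj g (Subgroup.zpowers s) := by
      rw [hAz, cj, MonoidHom.map_zpowers]
      congr 1
      show k * a * k⁻¹ = a
      rw [hka.eq, mul_inv_cancel_right]
    refine hS.ne (le_antisymm hS.MP ?_)
    conv_lhs => rw [← hgen, hcj, sup_idem]
    exact hS.AT.trans hS.TM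

theorem eq_of_cen_eq (ht : Tv P t) (hs : Tv P s) (hx : x ≠ 0) (hc : ∀ w : W, t • w = w ∨ t • w = w + x)
    (hcs : ∀ w : W, s • w = w ∨ s • w = w + x) : s = t := by
  by_contra hne
  have hsx : s • x = x := h.smul_cen hs hx hcs
  have hcu : ∀ w, (s * t) • w = w ∨ (s * t) • w = w + x := fun w => by
    rw [mul_smul]
    rcases hc w with e | e <;> rw [e]
    · exact hcs w
    · rw [smul_add, hsx]
      rcases hcs w with e' | e' <;> rw [e']
      · exact Or.inr rfl
      · exact Or.inl (by rw [add_assoc, h.add_self, add_zero])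
  have hu : Tv P (s * t) := ⟨mul_mem hs.1 ht.1, fun e => hne (by
    rw [mul_eq_one_iff_eq_inv.1 e, inv_eq_iff_mul_eq_one]; exact h.sq ht hx hc), x, hcu⟩
  obtain ⟨d, hd, hsd⟩ := h.exists_opp hs
  obtain ⟨z, hz, hcz⟩ := hd.exists_cn
  have hdx : phi d x ≠ 0 := fun e => hsd (h.commute_of_phi hs hd hx hcs hcz hz.1 e)
  have key : ∀ r, Tv P r → (∀ w, r • w = w ∨ r • w = w + x) → r • z = z + x := fun r hr hcr => by
    refine (hcr z).resolve_left fun e => hdx (h.phi_of_commute hr hz.1 hcr hcz ?_)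
    exact (h.commute_of_phi hd hr hz.1 hcz hcr hx (phi_eq_zero.2 e)).symm
  have h3 := key _ hu hcu
  rw [mul_smul, key t ht hc, smul_add, hsx, key s hs hcs, add_assoc, h.add_self, add_zero] at h3
  exact hx (by simpa using h3)

theorem tvOf_eq (ht : Tv P t) (hx : x ∈ Cn P) (hc : ∀ w : W, t • w = w ∨ t • w = w + x) :
    tvOf P x = t :=
  h.eq_of_cen_eq ht (tvOf_spec hx).1 hx.1 hc (tvOf_spec hx).2

/-! ### The pairing of centres -/

theorem Bf_add (hx : x ∈ Cn P) (v w : W) : Bf P x (v + w) = Bf P x v + Bf P x w :=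
  h.phi_add (tvOf_spec hx).1 hx.1 (tvOf_spec hx).2 v w

theorem Bf_zero (hx : x ∈ Cn P) : Bf P x 0 = 0 := phi_eq_zero.2 (smul_zero _)

theorem Bf_self (hx : x ∈ Cn P) : Bf P x x = 0 :=
  phi_eq_zero.2 (h.smul_cen (tvOf_spec hx).1 hx.1 (tvOf_spec hx).2)

theorem commute_iff (hx : x ∈ Cn P) (hy : y ∈ Cn P) : Commute (tvOf P x) (tvOf P y) ↔ Bf P y x = 0 :=
  ⟨h.phi_of_commute (tvOf_spec hx).1 hy.1 (tvOf_spec hx).2 (tvOf_spec hy).2,
    h.commute_of_phi (tvOf_spec hx).1 (tvOf_spec hy).1 hx.1 (tvOf_spec hx).2 (tvOf_spec hy).2 hy.1⟩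

theorem Bf_symm (hx : x ∈ Cn P) (hy : y ∈ Cn P) : Bf P x y = Bf P y x := by
  rcases zmod2_cases (Bf P y x) with e | e <;> rw [e]
  · exact (h.commute_iff hy hx).1 ((h.commute_iff hx hy).2 e).symm
  · refine (zmod2_cases _).resolve_left fun e' => ?_
    rw [(h.commute_iff hx hy).1 ((h.commute_iff hy hx).2 e').symm] at e
    exact absurd e (by decide)

theorem tvOf_smul {g : Γ W} (hg : g ∈ P) (hx : x ∈ Cn P) : tvOf P (g • x) = g * tvOf P x * g⁻¹ := by
  refine h.tvOf_eq ((tvOf_spec hx).1.conj hg) (cn_smul hg hx) fun w => ?_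
  rw [mul_smul, mul_smul]
  rcases (tvOf_spec hx).2 (g⁻¹ • w) with e | e <;> rw [e]
  · exact Or.inl (smul_inv_smul g w)
  · exact Or.inr (by rw [smul_add, smul_inv_smul])

theorem Bf_smul {g : Γ W} (hg : g ∈ P) (hx : x ∈ Cn P) (w : W) : Bf P (g • x) (g • w) = Bf P x w := by
  rw [Bf, h.tvOf_smul hg hx, phi_conj]; rfl

theorem smul_of_one (hx : x ∈ Cn P) {w : W} (e : Bf P x w = 1) : tvOf P x • w = w + x :=
  smul_of_phi_one (tvOf_spec hx).2 e

omit h in
theorem smul_of_zero {x w : W} (e : Bf P x w = 0) : tvOf P x • w = w := phi_eq_zero.1 e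

/-- Two centres not perpendicular to each other add up to a centre. -/
theorem add_mem_cn (hx : x ∈ Cn P) (hy : y ∈ Cn P) (hxy : Bf P x y = 1) :
    x + y ∈ Cn P ∧ ∀ w, Bf P (x + y) w = Bf P x w + Bf P y w := by
  have e : tvOf P x • y = x + y := by rw [h.smul_of_one hx hxy, add_comm]
  have hP := (tvOf_spec hx).1.1
  have hyx : Bf P y x = 1 := by rw [h.Bf_symm hy hx]; exact hxy
  refine ⟨e ▸ cn_smul hP hy, fun w => ?_⟩
  have e2 := h.Bf_smul hP hy (tvOf P x • w)
  rw [e, ← mul_smul, h.sq (tvOf_spec hx).1 hx.1 (tvOf_spec hx).2, one_smul] at e2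
  rw [e2]
  rcases zmod2_cases (Bf P x w) with e3 | e3
  · rw [smul_of_zero e3, e3, zero_add]
  · rw [h.smul_of_one hx e3, h.Bf_add hy, hyx, e3, add_comm]

theorem Bf_ext (hx : x ∈ Cn P) (hy : y ∈ Cn P) (e : ∀ w, Bf P x w = Bf P y w) : x = y := by
  have et : tvOf P x = tvOf P y := h.eq_of_phi_eq (tvOf_spec hx).1 (tvOf_spec hy).1 e
  obtain ⟨v, hv⟩ : ∃ v, tvOf P x • v ≠ v := by
    by_contra hcon
    push Not at hcon
    exact (tvOf_spec hx).1.2.1 (ext_smul fun w => by rw [hcon, one_smul])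
  have h1 := ((tvOf_spec hx).2 v).resolve_left hv
  rw [et] at h1 hv
  have h2 := ((tvOf_spec hy).2 v).resolve_left hv
  rw [h1] at h2
  exact add_left_cancel h2

/-- There is no star: a centre is not non-perpendicular to three mutually perpendicular ones. -/
theorem no_star {x₁ x₂ x₃ y : W} (h₁ : x₁ ∈ Cn P) (h₂ : x₂ ∈ Cn P) (h₃ : x₃ ∈ Cn P) (hy : y ∈ Cn P)
    (h12 : Bf P x₁ x₂ = 0) (h13 : Bf P x₁ x₃ = 0) (h23 : Bf P x₂ x₃ = 0)
    (n12 : x₁ ≠ x₂) (n13 : x₁ ≠ x₃) (n23 : x₂ ≠ x₃)
    (e₁ : Bf P x₁ y = 1) (e₂ : Bf P x₂ y = 1) (e₃ : Bf P x₃ y = 1) : False := by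
  classical
  haveI : Fact (Nat.Prime 2) := ⟨Nat.prime_two⟩
  obtain ⟨g1, gB1⟩ := h.add_mem_cn h₁ hy e₁
  have e21 : Bf P x₂ (x₁ + y) = 1 := by
    rw [h.Bf_add h₂, h.Bf_symm h₂ h₁, h12, e₂, zero_add]
  obtain ⟨g2, gB2⟩ := h.add_mem_cn h₂ g1 e21
  have e31 : Bf P x₃ (x₂ + (x₁ + y)) = 1 := by
    rw [h.Bf_add h₃, h.Bf_add h₃, h.Bf_symm h₃ h₂, h23, h.Bf_symm h₃ h₁, h13, e₃, zero_add, zero_add]
  obtain ⟨g3, gB3⟩ := h.add_mem_cn h₃ g2 e31
  have ey : Bf P y (x₃ + (x₂ + (x₁ + y))) = 1 := by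
    rw [h.Bf_add hy, h.Bf_add hy, h.Bf_add hy, h.Bf_self hy, h.Bf_symm hy h₁, h.Bf_symm hy h₂,
      h.Bf_symm hy h₃, e₁, e₂, e₃]
    rfl
  obtain ⟨g4, gB4⟩ := h.add_mem_cn hy g3 ey
  set f := y + (x₃ + (x₂ + (x₁ + y))) with hf
  have hBf : ∀ w, Bf P f w = Bf P x₁ w + Bf P x₂ w + Bf P x₃ w := fun w => by
    rw [gB4, gB3, gB2, gB1]
    have : Bf P y w + Bf P y w = 0 := CharTwo.add_self_eq_zero _
    linear_combination this
  have hf' : f = x₁ + x₂ + x₃ := by
    rw [hf, show y + (x₃ + (x₂ + (x₁ + y))) = x₁ + x₂ + x₃ + (y + y) by abel, h.add_self, add_zero]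
  -- the elementary group of the four transvections
  let c : Fin 4 → W := ![x₁, x₂, x₃, f]
  have hc : ∀ i, c i ∈ Cn P := fun i => by fin_cases i <;> assumption
  have hperp : ∀ i j, Bf P (c i) (c j) = 0 := by
    have s12 : Bf P x₂ x₁ = 0 := by rw [h.Bf_symm h₂ h₁, h12]
    have s13 : Bf P x₃ x₁ = 0 := by rw [h.Bf_symm h₃ h₁, h13]
    have s23 : Bf P x₃ x₂ = 0 := by rw [h.Bf_symm h₃ h₂, h23]
    intro i j
    fin_cases i <;> fin_cases j <;>
      simp [c, hf', h.Bf_add h₁, h.Bf_add h₂, h.Bf_add h₃, h.Bf_self h₁, h.Bf_self h₂, h.Bf_self h₃,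
        h12, h13, h23, s12, s13, s23] <;>
      (try rw [← hf', hBf]) <;>
      (try simp [h.Bf_add h₁, h.Bf_add h₂, h.Bf_add h₃, h.Bf_self h₁, h.Bf_self h₂, h.Bf_self h₃,
        h12, h13, h23, s12, s13, s23, hf'])
  let Z : AddSubgroup W := AddSubgroup.closure (Set.range c)
  set E := P ⊓ ch Z with hE
  have hfixc : ∀ i, ∀ u ∈ Z, tvOf P (c i) • u = u := by
    intro i u hu
    induction hu using AddSubgroup.closure_induction with
    | mem u hu => obtain ⟨j, rfl⟩ := hu; exact smul_of_zero (hperp i j)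
    | zero => exact smul_zero _
    | add u u' _ _ a b => rw [smul_add, a, b]
    | neg u _ a => rw [smul_neg, a]
  have hmemE : ∀ i, tvOf P (c i) ∈ E := fun i => ⟨(tvOf_spec (hc i)).1.1, hfixc i, fun w => by
    rcases (tvOf_spec (hc i)).2 w with e | e <;> rw [e]
    · simp
    · rw [add_sub_cancel_left]; exact AddSubgroup.subset_closure ⟨i, rfl⟩⟩
  let H := Subgroup.closure (Set.range fun i => tvOf P (c i))
  have hHE : H ≤ E := (Subgroup.closure_le _).2 (by rintro _ ⟨i, rfl⟩; exact hmemE i)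
  have hel := el_mono (ch_el (U := Z) h.hp) (hHE.trans inf_le_right)
  let Φ : W → Fin 3 → ZMod 2 := fun w => ![Bf P x₁ w, Bf P x₂ w, Bf P x₃ w]
  have hΦadd : ∀ v w, Φ (v + w) = Φ v + Φ w := fun v w => by
    ext i; fin_cases i <;> simp [Φ, h.Bf_add h₁, h.Bf_add h₂, h.Bf_add h₃]
  -- the fixed space has index at most eight
  have hfix : Nat.card W ≤ 8 * Nat.card (fix H) := by
    let Φh : W →+ (Fin 3 → ZMod 2) := AddMonoidHom.mk' Φ hΦadd
    have hker : Φh.ker ≤ fix H := by
      intro w hw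
      have hw' : ∀ i, Φ w i = 0 := fun i => congrFun hw i
      have hle : H ≤ MulAction.stabilizer (Γ W) w := by
        refine (Subgroup.closure_le _).2 ?_
        rintro _ ⟨i, rfl⟩
        refine smul_of_zero ?_
        have a1 : Bf P x₁ w = 0 := hw' 0
        have a2 : Bf P x₂ w = 0 := hw' 1
        have a3 : Bf P x₃ w = 0 := hw' 2
        fin_cases i <;> simp [c, a1, a2, a3, hBf]
      exact fun g hg => hle hg
    rw [AddSubgroup.card_eq_card_quotient_mul_card_addSubgroup Φh.ker]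
    refine Nat.mul_le_mul ?_ (AddSubgroup.card_le_of_le hker)
    rw [Nat.card_congr (QuotientAddGroup.quotientKerEquivRange Φh).toEquiv]
    exact (Nat.card_le_card_of_injective _ Subtype.val_injective).trans (by simp)
  -- but it has order sixteen
  have hsurj : ∀ v : Fin 3 → ZMod 2, ∃ w, Φ w = v := by
    have hsep : ∀ {a b : W}, a ∈ Cn P → b ∈ Cn P → a ≠ b → ∃ w, Bf P a w + Bf P b w = 1 := by
      intro a b ha hb hab
      by_contra hcon
      push Not at hcon
      refine hab (h.Bf_ext ha hb fun w => ?_)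
      have := (zmod2_cases _).resolve_right (hcon w)
      exact (CharTwo.add_eq_zero).1 this
    obtain ⟨u, hu⟩ := hsep h₁ h₂ n12
    obtain ⟨u', hu'⟩ := hsep h₁ h₃ n13
    obtain ⟨u'', hu''⟩ := hsep h₂ h₃ n23
    intro v
    obtain ⟨i, j, k, l, e⟩ := zmod2_span (Φ u) (Φ u') (Φ u'') hu hu' hu'' v
    have hy1 : Φ y = fun _ => 1 := by ext q; fin_cases q <;> simp [Φ, e₁, e₂, e₃]
    have h0 : Φ 0 = 0 := by ext q; fin_cases q <;> simp [Φ, h.Bf_zero h₁, h.Bf_zero h₂, h.Bf_zero h₃]
    refine ⟨(if i = 1 then y else 0) + (if j = 1 then u else 0) + (if k = 1 then u' else 0) +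
      (if l = 1 then u'' else 0), ?_⟩
    rw [hΦadd, hΦadd, hΦadd, e]
    rcases zmod2_cases i with rfl | rfl <;> rcases zmod2_cases j with rfl | rfl <;>
      rcases zmod2_cases k with rfl | rfl <;> rcases zmod2_cases l with rfl | rfl <;>
        ext q <;> simp [hy1, h0]
  have h16 : 16 ≤ Nat.card H := by
    have hprod : ∀ i, tvOf P (c i) ∈ H := fun i => Subgroup.subset_closure ⟨i, rfl⟩
    let μ : (Fin 4 → ZMod 2) → H := fun e => ⟨(if e 0 = 1 then tvOf P (c 0) else 1) *
      (if e 1 = 1 then tvOf P (c 1) else 1) * (if e 2 = 1 then tvOf P (c 2) else 1) *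
      (if e 3 = 1 then tvOf P (c 3) else 1), by
        refine mul_mem (mul_mem (mul_mem ?_ ?_) ?_) ?_ <;> split_ifs <;>
          first | exact hprod _ | exact one_mem _⟩
    let κ : Fin 3 → (Fin 4 → ZMod 2) → W := fun q e =>
      (if e q.castSucc = 1 then c q.castSucc else 0) + (if e 3 = 1 then f else 0)
    have hμ : ∀ (e : Fin 4 → ZMod 2) (q : Fin 3) w, Φ w = Pi.single q 1 →
        (μ e : Γ W) • w - w = κ q e := by
      intro e q w hw
      have hval : ∀ i, Bf P (c i) w = if i = q.castSucc ∨ i = 3 then 1 else 0 := fun i => by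
        have a1 : Bf P x₁ w = Pi.single (M := fun _ => ZMod 2) q 1 0 := congrFun hw 0
        have a2 : Bf P x₂ w = Pi.single (M := fun _ => ZMod 2) q 1 1 := congrFun hw 1
        have a3 : Bf P x₃ w = Pi.single (M := fun _ => ZMod 2) q 1 2 := congrFun hw 2
        fin_cases i <;> fin_cases q <;> simp_all [c, hBf] <;>
          linear_combination CharTwo.add_self_eq_zero (Bf P y w)
      have hterm : ∀ i, (if e i = 1 then tvOf P (c i) else 1) • w - w =
          if e i = 1 then (if i = q.castSucc ∨ i = 3 then c i else 0) else 0 := fun i => by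
        by_cases he : e i = 1
        · rw [if_pos he, if_pos he]
          have := hval i
          split_ifs at this ⊢ with hq
          · rw [h.smul_of_one (hc i) this, add_sub_cancel_left]
          · rw [smul_of_zero this, sub_self]
        · simp [he]
      have hch : ∀ i, (if e i = 1 then tvOf P (c i) else 1) ∈ ch Z := fun i => by
        split_ifs
        · exact (hmemE i).2
        · exact one_mem _
      show _ • w - w = _
      rw [ch_add (mul_mem (mul_mem (hch 0) (hch 1)) (hch 2)) (hch 3),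
        ch_add (mul_mem (hch 0) (hch 1)) (hch 2), ch_add (hch 0) (hch 1),
        hterm, hterm, hterm, hterm]
      fin_cases q <;> simp [κ, c]
    refine le_trans (by simp) (Nat.card_le_card_of_injective μ fun e e' he => ?_)
    have hκ : ∀ q, κ q e = κ q e' := fun q => by
      obtain ⟨w, hw⟩ := hsurj (Pi.single q 1)
      rw [← hμ e q w hw, ← hμ e' q w hw, he]
    have hfne : f ≠ x₁ ∧ f ≠ x₂ ∧ f ≠ x₃ := by
      obtain ⟨w, hw⟩ := hsurj ![1, 1, 0]
      have a1 : Bf P x₁ w = 1 := congrFun hw 0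
      have a2 : Bf P x₂ w = 1 := congrFun hw 1
      have a3 : Bf P x₃ w = 0 := congrFun hw 2
      have a4 : Bf P f w = 0 := by rw [hBf, a1, a2, a3]; rfl
      refine ⟨fun e' => ?_, fun e' => ?_, fun e' => ?_⟩
      · rw [e', a1] at a4; exact absurd a4 one_ne_zero
      · rw [e', a2] at a4; exact absurd a4 one_ne_zero
      · obtain ⟨w', hw'⟩ := hsurj ![1, 0, 1]
        have b1 : Bf P x₁ w' = 1 := congrFun hw' 0
        have b2 : Bf P x₂ w' = 0 := congrFun hw' 1
        have b3 : Bf P x₃ w' = 1 := congrFun hw' 2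
        have b4 : Bf P f w' = 0 := by rw [hBf, b1, b2, b3]; rfl
        rw [e', b3] at b4
        exact absurd b4 one_ne_zero
    -- equal values give equal exponents
    have hpair : ∀ (a : W), a ≠ 0 → a ≠ f → ∀ i j i' j' : ZMod 2,
        (if i = 1 then a else 0) + (if j = 1 then f else 0) =
          (if i' = 1 then a else 0) + (if j' = 1 then f else 0) → i = i' ∧ j = j' := by
      intro a ha haf i j i' j'
      have haf' : a + f ≠ 0 := fun e' => haf (by
        rw [← add_zero a, ← h.add_self f, ← add_assoc, e', zero_add])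
      rcases zmod2_cases i with rfl | rfl <;> rcases zmod2_cases j with rfl | rfl <;>
        rcases zmod2_cases i' with rfl | rfl <;> rcases zmod2_cases j' with rfl | rfl <;>
          simp [ha, g4.1, haf, Ne.symm haf, haf', Ne.symm haf'] <;> intro e' <;>
            first
              | exact ha (by simpa using e')
              | exact g4.1 (by simpa using e')
              | exact ha (by simpa using e'.symm)
              | exact g4.1 (by simpa using e'.symm)
    have r1 := hpair x₁ h₁.1 (Ne.symm hfne.1) _ _ _ _ (hκ 0)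
    have r2 := hpair x₂ h₂.1 (Ne.symm hfne.2.1) _ _ _ _ (hκ 1)
    have r3 := hpair x₃ h₃.1 (Ne.symm hfne.2.2) _ _ _ _ (hκ 2)
    funext i
    fin_cases i
    · exact r1.1
    · exact r2.1
    · exact r3.1
    · exact r1.2
  have h1 := h.card_le (D := H) (hHE.trans inf_le_left) hel
  have h2 : (0 : ℕ) < Nat.card (fix H) := Nat.card_pos
  nlinarith [Nat.mul_le_mul_right (Nat.card (fix H)) h16]

end MinPar

end CfsgLib.LocalEven.MinPar
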